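import Cfsg.Prelude.Def_GeometricClasses
import Cfsg.Agent.H920.SympC
import Cfsg.Agent.H920.Realise
set_option linter.all false

-- part: H920/Fields
section
/-!
# Small facts on finite fields: fixed subfields of powers of the Frobenius, the involution (helper920)
-/

set_option autoImplicit false

namespace Cfsg.Agent.H920

variable {F : Type*} [Field F]

/-- The subfield of the `x` with `x ^ (p ^ d) = x`. -/
def fixSub (p : ℕ) (F : Type*) [Field F] [Fact p.Prime] [CharP F p] (d : ℕ) : Subfield F :=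
  (iterateFrobenius F p d).eqLocusField (RingHom.id F)

theorem mem_fixSub {p : ℕ} [Fact p.Prime] [CharP F p] {d : ℕ} {x : F} :
    x ∈ fixSub p F d ↔ x ^ (p ^ d) = x := by
  rw [fixSub, RingHom.mem_eqLocusField, iterateFrobenius_def]
  rfl

theorem exists_pow_ne [Fintype F] {p d e : ℕ} (hp : p.Prime) (he : Fintype.card F = p ^ e) (hd : 0 < d)
    (hde : d < e) : ∃ x : F, x ^ (p ^ d) ≠ x := by
  classical
  by_contra hcon
  push Not at hcon
  obtain ⟨g, hg⟩ := IsCyclic.exists_generator (α := Fˣ)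
  have ho : orderOf g = Fintype.card F - 1 := by
    rw [orderOf_eq_card_of_forall_mem_zpowers hg, Nat.card_eq_fintype_card, Fintype.card_units]
  have h1 : 1 < p ^ d := Nat.one_lt_pow hd.ne' hp.one_lt
  have h2 : g ^ (p ^ d - 1) = 1 := by
    have h3 : g ^ (p ^ d) = g := Units.ext (by rw [Units.val_pow_eq_pow_val]; exact hcon g)
    have h4 : g ^ (p ^ d - 1) * g = 1 * g := by
      rw [one_mul, ← pow_succ, Nat.sub_add_cancel h1.le]
      exact h3
    exact mul_right_cancel h4
  have h5 := orderOf_dvd_of_pow_eq_one h2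
  rw [ho, he] at h5
  have h6 := Nat.le_of_dvd (by omega) h5
  have h7 : p ^ d < p ^ e := Nat.pow_lt_pow_right hp.one_lt hde
  omega

theorem fixSub_ne_top [Fintype F] {p d e : ℕ} [hp : Fact p.Prime] [CharP F p]
    (he : Fintype.card F = p ^ e) (hd : 0 < d) (hde : d < e) : fixSub p F d ≠ ⊤ := by
  obtain ⟨x, hx⟩ := exists_pow_ne hp.out he hd hde
  intro h
  apply hx
  rw [← mem_fixSub, h]
  exact Subfield.mem_top x

theorem pow_eq_self_of_dvd {p d z : ℕ} (hp : 0 < p) {c : F} (hc : c ^ z = 1) (hz : z ∣ p ^ d - 1) :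
    c ^ (p ^ d) = c := by
  obtain ⟨k, hk⟩ := hz
  have h1 : 1 ≤ p ^ d := Nat.one_le_pow _ _ hp
  have : p ^ d = z * k + 1 := by omega
  rw [this, pow_succ, pow_mul, hc, one_pow, one_mul]

theorem pow_eq_inv_of_dvd {p d z : ℕ} {c : F} (hc : c ^ z = 1) (hz : z ∣ p ^ d + 1) :
    c ^ (p ^ d) = c⁻¹ := by
  obtain ⟨k, hk⟩ := hz
  have h1 : c ^ (p ^ d + 1) = 1 := by rw [hk, pow_mul, hc, one_pow]
  rw [pow_succ] at h1
  exact eq_inv_of_mul_eq_one_left h1

/-- The involution `x ↦ x ^ (p ^ d)` of the field with `p ^ (2 d)` elements. -/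
theorem exists_involution [Fintype F] {p d : ℕ} (hp : p.Prime) (hd : 0 < d)
    (he : Fintype.card F = p ^ (2 * d)) :
    ∃ σ : F ≃+* F, σ ≠ RingEquiv.refl F ∧ (∀ a, σ (σ a) = a) ∧ ∀ a, σ a = a ^ (p ^ d) := by
  have : Fact p.Prime := ⟨hp⟩
  have : CharP F p := by
    obtain ⟨q, hq⟩ := CharP.exists F
    have hq' : q.Prime := (CharP.char_is_prime_or_zero F q).resolve_right (by
      rintro rfl
      exact CharP.char_ne_zero_of_finite F 0 rfl)
    have : Fact q.Prime := ⟨hq'⟩
    obtain ⟨n, hn⟩ := FiniteField.card F q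
    rw [he] at hn
    have h1 : q ∣ p ^ (2 * d) := by rw [hn.2]; exact dvd_pow_self q n.ne_zero
    have h2 := (Nat.prime_dvd_prime_iff_eq hq' hp).1 (hq'.dvd_of_dvd_pow h1)
    rw [← h2]
    exact hq
  have hinj : Function.Injective (iterateFrobenius F p d) := (iterateFrobenius F p d).injective
  have hbij : Function.Bijective (iterateFrobenius F p d) := Finite.injective_iff_bijective.1 hinj
  let σ : F ≃+* F := RingEquiv.ofBijective (iterateFrobenius F p d) hbij
  have hσ : ∀ a, σ a = a ^ (p ^ d) := fun a => iterateFrobenius_def p d a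
  refine ⟨σ, ?_, ?_, hσ⟩
  · intro h
    obtain ⟨x, hx⟩ := exists_pow_ne (F := F) hp he hd (by omega)
    apply hx
    rw [← hσ, h]
    rfl
  · intro a
    rw [hσ, hσ, ← pow_mul, ← pow_add, ← two_mul, ← he, FiniteField.pow_card]

/-- If `z` is prime or `z = 4` and `p ^ (2 d)` is the first power of `p` congruent to 1 modulo `z`, then `z` divides
`p ^ d + 1`. -/
theorem dvd_add_one_of_minimal {p z d : ℕ} (hp : 0 < p) (hz : z.Prime ∨ z = 4) (hd : 0 < d)
    (h1 : z ∣ p ^ (2 * d) - 1) (hmin : ∀ k, 0 < k → k < 2 * d → ¬ z ∣ p ^ k - 1) : z ∣ p ^ d + 1 := by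
  have h0 : 1 ≤ p ^ d := Nat.one_le_pow _ _ hp
  have hfac : p ^ (2 * d) - 1 = (p ^ d + 1) * (p ^ d - 1) := by
    rw [mul_comm 2 d, pow_mul]
    have := Nat.sq_sub_sq (p ^ d) 1
    rw [one_pow] at this
    exact this
  rw [hfac] at h1
  have hnd := hmin d hd (by omega)
  rcases hz with hz | rfl
  · exact (hz.dvd_mul.1 h1).resolve_right hnd
  · -- `z = 4`
    have hodd : Odd (p ^ d) := by
      by_contra heven
      rw [Nat.not_odd_iff_even] at heven
      obtain ⟨k, hk⟩ := heven
      have h2 : Odd ((p ^ d + 1) * (p ^ d - 1)) := by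
        rw [Nat.odd_mul]
        constructor
        · exact ⟨k, by omega⟩
        · exact ⟨k - 1, by omega⟩
      have h3 : 2 ∣ (p ^ d + 1) * (p ^ d - 1) := dvd_trans (by norm_num) h1
      exact (Nat.not_even_iff_odd.2 h2) (even_iff_two_dvd.2 h3)
    obtain ⟨k, hk⟩ := hodd
    rw [hk] at hnd ⊢
    omega

end Cfsg.Agent.H920
end

-- part: H920/SympD
section
/-!
# C6b, C6c: fields of definition and invariant forms of symplectic-type groups (helper920)

`R ≤ GL(ι, F)` absolutely irreducible with scalar commutators, `z = |Z(R)|`: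
* `trace_eq_zero` : the non-scalar elements have trace zero;
* `realisable_or_minimal` : `R` is realisable over a proper subfield or `F` is minimal for `z`;
* `exists_unitary_of_minimal` : minimal field of even degree ⇒ invariant unitary form;
* `exists_bilinear_of_card_two` : `z = 2` ⇒ invariant quadratic or symplectic form;
* `linear_cases` : summary for the linear groups.
-/

set_option autoImplicit false

namespace Cfsg.Agent.H920

open Cfsg.Geo Matrix

variable {ι : Type} [Fintype ι] [DecidableEq ι] {F : Type*} [Field F]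

theorem trace_eq_zero {R : Subgroup (GL ι F)} (h : ActsAbsolutelyIrreducibly (matrixSet R))
    (hcomm : ∀ x ∈ R, ∀ y ∈ R, x * y * x⁻¹ * y⁻¹ ∈ scalars ι F) {x : GL ι F} (hx : x ∈ R)
    (hxs : x ∉ scalars ι F) : (x : Matrix ι ι F).trace = 0 := by
  obtain ⟨y, hy, hyx⟩ : ∃ y ∈ R, x * y ≠ y * x := by
    by_contra hcon
    push Not at hcon
    exact hxs (mem_scalars_of_comm' h hcon)
  obtain ⟨c, hc⟩ := (mem_scalars_iff _).1 (hcomm y hy x hx)
  have h1 : y * x * y⁻¹ = (y * x * y⁻¹ * x⁻¹) * x := by group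
  have h2 := congrArg Units.val h1
  rw [Units.val_mul, Units.val_mul, Units.val_mul (y * x * y⁻¹ * x⁻¹), hc, Matrix.smul_mul,
    Matrix.one_mul] at h2
  have h3 := congrArg Matrix.trace h2
  rw [Matrix.trace_smul, Matrix.trace_mul_comm, ← Matrix.mul_assoc, ← Units.val_mul, inv_mul_cancel,
    Units.val_one, Matrix.one_mul, smul_eq_mul] at h3
  have h4 : ((c : F) - 1) * (x : Matrix ι ι F).trace = 0 := by rw [sub_mul, one_mul, ← h3, sub_self]
  rcases mul_eq_zero.1 h4 with h5 | h5
  · exfalso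
    apply hyx
    have h6 : y * x * y⁻¹ * x⁻¹ = 1 := by
      apply Units.ext
      rw [hc, sub_eq_zero.1 h5, one_smul, Units.val_one]
    have h7 : y * x = x * y := by
      have : y * x = (y * x * y⁻¹ * x⁻¹) * (x * y) := by group
      rw [this, h6, one_mul]
    exact h7.symm
  · exact h5

/-- The scalar of a scalar element of `R` is a root of unity of order dividing `|Z(R)|`. -/
theorem pow_card_center [Nonempty ι] {R : Subgroup (GL ι F)} (h : ActsAbsolutelyIrreducibly (matrixSet R))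
    {x : GL ι F} (hx : x ∈ R) {c : F} (hc : (x : Matrix ι ι F) = c • (1 : Matrix ι ι F)) :
    c ^ Nat.card (Subgroup.center R) = 1 := by
  have hxs : x ∈ scalars ι F := mem_scalars_of_val hc
  have hxc : (⟨x, hx⟩ : R) ∈ Subgroup.center R := by rw [center_eq h]; exact hxs
  have h1 : (⟨⟨x, hx⟩, hxc⟩ : Subgroup.center R) ^ Nat.card (Subgroup.center R) = 1 := pow_card_eq_one'
  have h2 : x ^ Nat.card (Subgroup.center R) = 1 :=
    congrArg (fun w : Subgroup.center R => ((w : R) : GL ι F)) h1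
  have h3 := congrArg Units.val h2
  rw [Units.val_pow_eq_pow_val, hc, smul_pow, one_pow, Units.val_one] at h3
  obtain ⟨i⟩ := ‹Nonempty ι›
  have h4 := congrFun (congrFun h3 i) i
  simpa using h4

theorem card_center_dvd [Fintype F] [Nonempty ι] {R : Subgroup (GL ι F)}
    (h : ActsAbsolutelyIrreducibly (matrixSet R)) : Nat.card (Subgroup.center R) ∣ Fintype.card F - 1 := by
  classical
  have h1 : Nat.card (scalars ι F) ∣ Nat.card Fˣ := Subgroup.card_range_dvd _
  rw [Nat.card_eq_fintype_card (α := Fˣ), Fintype.card_units] at h1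
  refine dvd_trans ?_ h1
  let f : Subgroup.center R →* scalars ι F :=
    { toFun := fun x => ⟨x, by
        have : (x : R) ∈ (scalars ι F).subgroupOf R := center_eq h ▸ x.2
        exact this⟩
      map_one' := rfl
      map_mul' := fun _ _ => rfl }
  apply Subgroup.card_dvd_of_injective f
  intro x y hxy
  apply Subtype.ext
  apply Subtype.ext
  exact congrArg (fun w : scalars ι F => (w : GL ι F)) hxy

/-- **C6b**: over the smallest subfield containing the roots of unity `R` is realisable. -/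
theorem realisable_or_minimal [Fintype F] [Nonempty ι] {p e : ℕ} (hp : p.Prime) [hchar : CharP F p]
    (hF : Fintype.card F = p ^ e)
    {R : Subgroup (GL ι F)} (h : ActsAbsolutelyIrreducibly (matrixSet R))
    (hcomm : ∀ x ∈ R, ∀ y ∈ R, x * y * x⁻¹ * y⁻¹ ∈ scalars ι F) :
    (∃ F₀ : Subfield F, F₀ ≠ ⊤ ∧ RealisableOver F₀ (matrixSet R)) ∨
      IsMinimalFieldFor (Nat.card (Subgroup.center R)) p e F := by
  have : Fact p.Prime := ⟨hp⟩
  by_cases hmin : ∀ d : ℕ, 0 < d → d < e → ¬ Nat.card (Subgroup.center R) ∣ p ^ d - 1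
  · right
    refine ⟨hp, hchar, hF, ?_, hmin⟩
    rw [← hF]
    exact card_center_dvd h
  · left
    push Not at hmin
    obtain ⟨d, hd0, hde, hd⟩ := hmin
    refine ⟨fixSub p F d, fixSub_ne_top hF hd0 hde, realisable_of_trace h ?_⟩
    intro g hg
    by_cases hgs : g ∈ scalars ι F
    · obtain ⟨c, hc⟩ := (mem_scalars_iff g).1 hgs
      rw [hc, Matrix.trace_smul, Matrix.trace_one, smul_eq_mul]
      apply Subfield.mul_mem
      · rw [mem_fixSub]
        exact pow_eq_self_of_dvd hp.pos (pow_card_center h hg hc) hd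
      · exact natCast_mem _ _
    · rw [trace_eq_zero h hcomm hg hgs]
      exact Subfield.zero_mem _

/-- The common part of C6c. -/
theorem trace_inv_eq {R : Subgroup (GL ι F)} (h : ActsAbsolutelyIrreducibly (matrixSet R))
    (hcomm : ∀ x ∈ R, ∀ y ∈ R, x * y * x⁻¹ * y⁻¹ ∈ scalars ι F) (σ : F ≃+* F)
    (hσ : ∀ x ∈ R, ∀ c : F, (x : Matrix ι ι F) = c • (1 : Matrix ι ι F) → σ c = c⁻¹) {g : GL ι F} (hg : g ∈ R) :
    ((g⁻¹ : GL ι F) : Matrix ι ι F).trace = σ ((g : Matrix ι ι F).trace) := by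
  by_cases hgs : g ∈ scalars ι F
  · obtain ⟨c, hc⟩ := (mem_scalars_iff g).1 hgs
    have h1 : ((g⁻¹ : GL ι F) : Matrix ι ι F) = (c : F)⁻¹ • (1 : Matrix ι ι F) := by
      have h2 : (g : Matrix ι ι F) * ((c : F)⁻¹ • (1 : Matrix ι ι F)) = 1 := by
        rw [hc, Matrix.smul_mul, Matrix.one_mul, smul_smul, mul_inv_cancel₀ c.ne_zero, one_smul]
      calc ((g⁻¹ : GL ι F) : Matrix ι ι F)
          = ((g⁻¹ : GL ι F) : Matrix ι ι F) * ((g : Matrix ι ι F) * ((c : F)⁻¹ • (1 : Matrix ι ι F))) := by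
            rw [h2, Matrix.mul_one]
        _ = (c : F)⁻¹ • (1 : Matrix ι ι F) := by
            rw [← Matrix.mul_assoc, ← Units.val_mul, inv_mul_cancel, Units.val_one, Matrix.one_mul]
    rw [h1, hc, Matrix.trace_smul, Matrix.trace_smul, Matrix.trace_one, smul_eq_mul, smul_eq_mul, map_mul,
      map_natCast, hσ g hg c hc]
  · have hgs' : g⁻¹ ∉ scalars ι F := fun h0 => hgs ((Subgroup.inv_mem_iff _).1 h0)
    rw [trace_eq_zero h hcomm hg hgs, trace_eq_zero h hcomm (R.inv_mem hg) hgs', map_zero]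

/-- **C6c, unitary**: if `F` is the minimal field for `z = |Z(R)|` (prime or 4) and has even degree, then `R` fixes
a non-degenerate unitary form. -/
theorem exists_unitary_of_minimal [Fintype F] [Nonempty ι] {p d : ℕ}
    {R : Subgroup (GL ι F)} (h : ActsAbsolutelyIrreducibly (matrixSet R))
    (hcomm : ∀ x ∈ R, ∀ y ∈ R, x * y * x⁻¹ * y⁻¹ ∈ scalars ι F)
    (hz : (Nat.card (Subgroup.center R)).Prime ∨ Nat.card (Subgroup.center R) = 4) (hd : 0 < d)
    (hmin : IsMinimalFieldFor (Nat.card (Subgroup.center R)) p (2 * d) F) :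
    ∃ (σ : F ≃+* F) (f : (ι → F) → (ι → F) → F), IsUnitaryForm σ f ∧ FixesForm (matrixSet R) f ∧
      ∀ a, σ a = a ^ (p ^ d) := by
  obtain ⟨hp, hchar, hF, hdvd, hmin'⟩ := hmin
  obtain ⟨σ, hσ1, hσ2, hσ⟩ := exists_involution (F := F) hp hd hF
  have h1 := dvd_add_one_of_minimal hp.pos hz hd hdvd hmin'
  obtain ⟨f, hf, hfix⟩ := exists_unitary_of_trace h σ hσ1 hσ2 (fun g hg =>
    trace_inv_eq h hcomm σ (fun x hx c hc => by
      rw [hσ]
      exact pow_eq_inv_of_dvd (pow_card_center h hx hc) h1) hg)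
  exact ⟨σ, f, hf, hfix, hσ⟩

/-- **C6c, bilinear**: if `|Z(R)| = 2` then `R` fixes a non-degenerate bilinear form, symmetric or skew. -/
theorem exists_bilinear_of_card_two [Nonempty ι]
    {R : Subgroup (GL ι F)} (h : ActsAbsolutelyIrreducibly (matrixSet R))
    (hcomm : ∀ x ∈ R, ∀ y ∈ R, x * y * x⁻¹ * y⁻¹ ∈ scalars ι F)
    (hz : Nat.card (Subgroup.center R) = 2) :
    ∃ f : (ι → F) → (ι → F) → F, IsBilinearForm f ∧ IsNondegenerateForm f ∧ FixesForm (matrixSet R) f ∧
      ((∀ u v, f u v = f v u) ∨ (∀ u v, f u v = - f v u)) := by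
  apply exists_bilinear_of_trace h
  intro g hg
  have := trace_inv_eq h hcomm (RingEquiv.refl F) (fun x hx c hc => by
    have h1 := pow_card_center h hx hc
    rw [hz, sq] at h1
    exact eq_inv_of_mul_eq_one_left h1) hg
  exact this

omit [Fintype ι] [DecidableEq ι] in
/-- A non-degenerate symmetric form gives a non-degenerate quadratic form in odd characteristic. -/
theorem isNondegenerateQuadraticForm_of_symm {f : (ι → F) → (ι → F) → F} (h2 : (2 : F) ≠ 0)
    (hf : IsBilinearForm f) (hnd : IsNondegenerateForm f) (hs : ∀ u v, f u v = f v u) :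
    IsNondegenerateQuadraticForm (fun v => f v v) := by
  have hpol : ∀ u v, QuadraticMap.polar (fun v => f v v) u v = 2 * f u v := by
    intro u v
    rw [QuadraticMap.polar]
    rw [hf.add_left, hf.add_right, hf.add_right, hs v u]
    ring
  refine ⟨fun c v => ?_, ⟨?_, ?_, ?_, ?_⟩, ?_⟩
  · rw [hf.smul_left, hf.smul_right]
    ring
  · intro x y v
    rw [hpol, hpol, hpol, hf.add_left]
    ring
  · intro c x v
    rw [hpol, hpol, hf.smul_left]
    ring
  · intro v x y
    rw [hpol, hpol, hpol, hf.add_right]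
    ring
  · intro c v x
    rw [hpol, hpol, hf.smul_right]
    ring
  · intro v hv
    obtain ⟨⟨x, hx⟩, ⟨y, hy⟩⟩ := hnd v hv
    refine ⟨⟨x, ?_⟩, ⟨y, ?_⟩⟩
    · rw [hpol]
      exact mul_ne_zero h2 hx
    · rw [hpol]
      exact mul_ne_zero h2 hy

omit [Fintype ι] [DecidableEq ι] in
/-- A non-degenerate skew form is symplectic in odd characteristic. -/
theorem isSymplecticForm_of_skew {f : (ι → F) → (ι → F) → F} (h2 : (2 : F) ≠ 0)
    (hf : IsBilinearForm f) (hnd : IsNondegenerateForm f) (hs : ∀ u v, f u v = - f v u) :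
    IsSymplecticForm f := by
  refine ⟨hf, hs, fun v => ?_, hnd⟩
  have h1 := hs v v
  have h3 : 2 * f v v = 0 := by linear_combination h1
  exact (mul_eq_zero.1 h3).resolve_left h2

/-- If `|Z(R)| = 2` and `R` is not abelian then the characteristic is not 2. -/
theorem two_ne_zero_of_center [Nonempty ι] {R : Subgroup (GL ι F)} (h : ActsAbsolutelyIrreducibly (matrixSet R))
    (hz : Even (Nat.card (Subgroup.center R))) (hfin : Finite F) : (2 : F) ≠ 0 := by
  classical
  intro h2
  have : Fintype F := Fintype.ofFinite F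
  have h1 := card_center_dvd h
  have h3 : 2 ∣ Fintype.card F - 1 := dvd_trans (even_iff_two_dvd.1 hz) h1
  have hchar : CharP F 2 := CharTwo.of_one_ne_zero_of_two_eq_zero one_ne_zero h2
  have : Fact (Nat.Prime 2) := ⟨Nat.prime_two⟩
  obtain ⟨n, _, hn⟩ := FiniteField.card F 2
  have h4 : 2 ∣ Fintype.card F := by rw [hn]; exact dvd_pow_self 2 n.ne_zero
  have h5 : 0 < Fintype.card F := Fintype.card_pos
  omega

/-- **Summary of C6 for the linear groups.** `R` as produced by `exists_symplecticType`, `3 ≤ |ι|`. -/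
theorem linear_cases [Fintype F] {r m : ℕ} {R : Subgroup (GL ι F)} (h3 : 3 ≤ Fintype.card ι)
    (h : ActsAbsolutelyIrreducibly (matrixSet R))
    (hcomm : ∀ x ∈ R, ∀ y ∈ R, x * y * x⁻¹ * y⁻¹ ∈ scalars ι F)
    (hR : IsSymplecticTypeGroup r R) (hchar : ringChar F ≠ r) (hm1 : 1 ≤ m) (hm : Fintype.card ι = r ^ m)
    (hcases : (Odd r ∧ Nat.card (Subgroup.center R) = r ∧ Nat.card R = r ^ (1 + 2 * m)) ∨
       (r = 2 ∧ Nat.card (Subgroup.center R) = 4 ∧ Nat.card R = 2 ^ (2 + 2 * m)) ∨
       (r = 2 ∧ Nat.card (Subgroup.center R) = 2 ∧ Nat.card R = 2 ^ (1 + 2 * m))) :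
    (∃ F₀ : Subfield F, F₀ ≠ ⊤ ∧ RealisableOver F₀ (matrixSet R)) ∨
    IsLinearSymplecticTypeData r R ∨
    (∃ Q : (ι → F) → F, Odd (Fintype.card F) ∧ IsNondegenerateQuadraticForm Q ∧ FixesQuadForm (matrixSet R) Q) ∨
    (∃ f : (ι → F) → (ι → F) → F, IsSymplecticForm f ∧ FixesForm (matrixSet R) f) ∨
    (∃ (σ : F ≃+* F) (f : (ι → F) → (ι → F) → F), IsUnitaryForm σ f ∧ FixesForm (matrixSet R) f) := by
  have hne : Nonempty ι := Fintype.card_pos_iff.1 (by omega)
  have hprime : (ringChar F).Prime :=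
    (CharP.char_is_prime_or_zero F (ringChar F)).resolve_right (CharP.char_ne_zero_of_finite F _)
  have : Fact (ringChar F).Prime := ⟨hprime⟩
  obtain ⟨e, _, he⟩ := FiniteField.card F (ringChar F)
  rcases realisable_or_minimal hprime he h hcomm with h1 | hmin
  · exact Or.inl h1
  right
  rcases hcases with ⟨hodd, hz, hcard⟩ | ⟨h2, hz, hcard⟩ | ⟨h2, hz, hcard⟩
  · rcases Nat.even_or_odd (e : ℕ) with ⟨d, hd⟩ | hoe
    · right; right; right
      have hd0 : 0 < d := by have := e.pos; omega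
      have hd2 : (e : ℕ) = 2 * d := by omega
      rw [hd2] at hmin
      obtain ⟨σ, f, hf, hfix, _⟩ := exists_unitary_of_minimal h hcomm (Or.inl (by rw [hz]; exact hR.prime)) hd0 hmin
      exact ⟨σ, f, hf, hfix⟩
    · left
      exact ⟨hR, h, ringChar F, e, hchar.symm, hmin, Or.inl ⟨hodd, hoe, hz, m, hm1, hcard⟩⟩
  · -- `|Z| = 4`
    by_cases he1 : (e : ℕ) = 1
    · left
      refine ⟨hR, h, ringChar F, e, hchar.symm, hmin, Or.inr (Or.inl ⟨h2, he1, hz, ?_, m, hcard⟩)⟩
      rw [hm, h2] at h3 ⊢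
      rcases m with _ | _ | m
      · omega
      · norm_num at h3
      · rw [pow_succ, pow_succ]
        have := Nat.one_le_two_pow (n := m)
        omega
    · right; right; right
      -- the degree is 2
      have hp2 : Odd (ringChar F) := by
        have h2' := hprime.eq_two_or_odd'
        rcases h2' with h2' | h2'
        · exact absurd (h2'.trans h2.symm) hchar
        · exact h2'
      have he2 : (e : ℕ) = 2 * 1 := by
        obtain ⟨_, _, _, _, hmin'⟩ := hmin
        by_contra hne2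
        have hpos := e.pos
        apply hmin' 2 (by norm_num) (by omega)
        rw [hz]
        obtain ⟨k, hk⟩ := hp2
        rw [hk]
        have : (2 * k + 1) ^ 2 - 1 = 4 * (k * (k + 1)) := by
          have : (2 * k + 1) ^ 2 = 4 * (k * (k + 1)) + 1 := by ring
          omega
        rw [this]
        exact dvd_mul_right _ _
      rw [he2] at hmin
      obtain ⟨σ, f, hf, hfix, _⟩ := exists_unitary_of_minimal h hcomm (Or.inr hz) one_pos hmin
      exact ⟨σ, f, hf, hfix⟩
  · -- `|Z| = 2`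
    have h2F : (2 : F) ≠ 0 := two_ne_zero_of_center h (by rw [hz]; exact even_two) inferInstance
    obtain ⟨f, hf, hnd, hfix, hs | hs⟩ := exists_bilinear_of_card_two h hcomm hz
    · right; left
      refine ⟨fun v => f v v, ?_, isNondegenerateQuadraticForm_of_symm h2F hf hnd hs, ?_⟩
      · have h2' := hprime.eq_two_or_odd'
        rcases h2' with h2' | h2'
        · exact absurd (h2'.trans h2.symm) hchar
        · rw [he]; exact h2'.pow
      · intro s hs' v
        exact hfix s hs' v v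
    · right; right; left
      exact ⟨f, isSymplecticForm_of_skew h2F hf hnd hs, hfix⟩

end Cfsg.Agent.H920
end
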