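import Cfsg.Agent.H920.SympA
import Cfsg.Agent.Prune
set_option linter.all false
prune_inst 0x7f00000000000000000000000000000000000000000000000000000000000000000000000000000000000000000000000000000000000000000000000000000000000000000000000000000000000000003fffffffffffffffffffffffffffbeffbdffffffff
open scoped Cfsg.Agent.FastGrp

/-!
# Uniqueness of invariant bilinear forms (helper920)

* `form_unique` : a bilinear form fixed by an absolutely irreducible group is a multiple of a given non-degenerate one;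
* `not_quadratic_of_symplectic` : a symplectic and a quadratic form are not both fixed in odd characteristic.
-/

set_option autoImplicit false

namespace Cfsg.Agent.H920

open Cfsg Cfsg.Geo Matrix

variable {ι : Type} [Fintype ι] [DecidableEq ι] {F : Type*} [Field F]

/-- The Gram matrix. -/
def gram (f : (ι → F) → (ι → F) → F) : Matrix ι ι F := Matrix.of fun i j => f (Pi.single i 1) (Pi.single j 1)

theorem gram_spec {f : (ι → F) → (ι → F) → F} (hf : IsBilinearForm f) (u v : ι → F) :
    f u v = u ⬝ᵥ (gram f *ᵥ v) := by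
  have h1 : ∀ (w : ι → F) (s : Finset ι) (x : ι → (ι → F)), f (∑ i ∈ s, x i) w = ∑ i ∈ s, f (x i) w := by
    intro w s x
    classical
    induction s using Finset.induction_on with
    | empty =>
      rw [Finset.sum_empty, Finset.sum_empty]
      have := hf.smul_left 0 0 w
      rwa [zero_smul, zero_mul] at this
    | insert a s ha ih => rw [Finset.sum_insert ha, Finset.sum_insert ha, hf.add_left, ih]
  have h2 : ∀ (w : ι → F) (s : Finset ι) (x : ι → (ι → F)), f w (∑ i ∈ s, x i) = ∑ i ∈ s, f w (x i) := by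
    intro w s x
    classical
    induction s using Finset.induction_on with
    | empty =>
      rw [Finset.sum_empty, Finset.sum_empty]
      have := hf.smul_right 0 w 0
      rwa [zero_smul, zero_mul] at this
    | insert a s ha ih => rw [Finset.sum_insert ha, Finset.sum_insert ha, hf.add_right, ih]
  have hu : ∀ u : ι → F, u = ∑ i, u i • Pi.single i (1 : F) := by
    intro u
    funext j
    rw [Finset.sum_apply]
    simp [Pi.single_apply]
  conv_lhs => rw [hu u, hu v]
  rw [h1]
  simp only [h2, hf.smul_left, hf.smul_right]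
  simp only [dotProduct, Matrix.mulVec, gram, Matrix.of_apply, Finset.mul_sum]
  refine Finset.sum_congr rfl fun i _ => Finset.sum_congr rfl fun j _ => ?_
  ring

theorem gram_invariant {f : (ι → F) → (ι → F) → F} (hf : IsBilinearForm f) {g : Matrix ι ι F}
    (hg : ∀ u v, f (g *ᵥ u) (g *ᵥ v) = f u v) : gᵀ * gram f * g = gram f := by
  have h1 : ∀ u v : ι → F, u ⬝ᵥ ((gᵀ * gram f * g) *ᵥ v) = u ⬝ᵥ (gram f *ᵥ v) := by
    intro u v
    rw [← gram_spec hf u v, ← hg u v, gram_spec hf, ← Matrix.mulVec_mulVec, ← Matrix.mulVec_mulVec,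
      Matrix.dotProduct_mulVec u, Matrix.vecMul_transpose]
  ext i j
  have := h1 (Pi.single i 1) (Pi.single j 1)
  simpa using this

theorem gram_det_ne {f : (ι → F) → (ι → F) → F} (hf : IsBilinearForm f) (hn : IsNondegenerateForm f) :
    (gram f).det ≠ 0 := by
  intro h
  obtain ⟨v, hv, hv'⟩ := Matrix.exists_mulVec_eq_zero_iff.2 h
  obtain ⟨⟨u, hu⟩, -⟩ := hn v hv
  apply hu
  rw [gram_spec hf, hv', dotProduct_zero]

/-- **Uniqueness of the invariant form.** -/
theorem form_unique {P : Subgroup (GL ι F)} (hP : ActsAbsolutelyIrreducibly (matrixSet P))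
    {f b : (ι → F) → (ι → F) → F} (hf : IsBilinearForm f) (hfn : IsNondegenerateForm f) (hfP : FixesForm (matrixSet P) f)
    (hb : IsBilinearForm b) (hbP : FixesForm (matrixSet P) b) : ∃ c : F, ∀ u v, b u v = c * f u v := by
  classical
  have hdet := gram_det_ne hf hfn
  have hinv : (gram f)⁻¹ * gram f = 1 := Matrix.nonsing_inv_mul _ (Ne.isUnit hdet)
  have hinv' : gram f * (gram f)⁻¹ = 1 := Matrix.mul_nonsing_inv _ (Ne.isUnit hdet)
  obtain ⟨c, hc⟩ := hP.2 ((gram f)⁻¹ * gram b) (by
    rintro _ ⟨x, hx, rfl⟩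
    change (gram f)⁻¹ * gram b * (x : Matrix ι ι F) = (x : Matrix ι ι F) * ((gram f)⁻¹ * gram b)
    have h1 := gram_invariant hf (g := (x : Matrix ι ι F)) (fun u v => hfP _ ⟨x, hx, rfl⟩ u v)
    have h2 := gram_invariant hb (g := (x : Matrix ι ι F)) (fun u v => hbP _ ⟨x, hx, rfl⟩ u v)
    have hx1 : (x : Matrix ι ι F) * ((x⁻¹ : GL ι F) : Matrix ι ι F) = 1 := by rw [← Units.val_mul, mul_inv_cancel]; rfl
    have hx2 : ((x⁻¹ : GL ι F) : Matrix ι ι F) * (x : Matrix ι ι F) = 1 := by rw [← Units.val_mul, inv_mul_cancel]; rfl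
    -- `x (gram f)⁻¹ xᵀ = (gram f)⁻¹`
    have h3 : (x : Matrix ι ι F) * (gram f)⁻¹ * (x : Matrix ι ι F)ᵀ = (gram f)⁻¹ := by
      have h4 : ((x : Matrix ι ι F) * (gram f)⁻¹ * (x : Matrix ι ι F)ᵀ) * (gram f * (x : Matrix ι ι F)) =
          (x : Matrix ι ι F) := by
        rw [Matrix.mul_assoc, ← Matrix.mul_assoc _ (gram f), h1, Matrix.mul_assoc, hinv, Matrix.mul_one]
      calc (x : Matrix ι ι F) * (gram f)⁻¹ * (x : Matrix ι ι F)ᵀ
          = ((x : Matrix ι ι F) * (gram f)⁻¹ * (x : Matrix ι ι F)ᵀ) * (gram f * (x : Matrix ι ι F)) *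
            (((x⁻¹ : GL ι F) : Matrix ι ι F) * (gram f)⁻¹) := by
            rw [Matrix.mul_assoc _ (gram f * _), Matrix.mul_assoc (gram f), ← Matrix.mul_assoc (x : Matrix ι ι F), hx1,
              Matrix.one_mul, hinv', Matrix.mul_one]
        _ = _ := by rw [h4, ← Matrix.mul_assoc, hx1, Matrix.one_mul]
    calc (gram f)⁻¹ * gram b * (x : Matrix ι ι F)
        = ((x : Matrix ι ι F) * (gram f)⁻¹ * (x : Matrix ι ι F)ᵀ) * gram b * (x : Matrix ι ι F) := by rw [h3]
      _ = (x : Matrix ι ι F) * ((gram f)⁻¹ * ((x : Matrix ι ι F)ᵀ * gram b * (x : Matrix ι ι F))) := by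
        simp only [Matrix.mul_assoc]
      _ = _ := by rw [h2])
  refine ⟨c, fun u v => ?_⟩
  have h1 : gram b = c • gram f := by
    calc gram b = gram f * ((gram f)⁻¹ * gram b) := by rw [← Matrix.mul_assoc, hinv', Matrix.one_mul]
      _ = _ := by rw [hc, Matrix.mul_smul, Matrix.mul_one]
  rw [gram_spec hb, gram_spec hf, h1, Matrix.smul_mulVec, dotProduct_smul, smul_eq_mul]

/-- A symplectic and a quadratic form are not both fixed in odd characteristic. -/
theorem not_quadratic_of_symplectic [Nonempty ι] (h2 : (2 : F) ≠ 0) {P : Subgroup (GL ι F)}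
    (hP : ActsAbsolutelyIrreducibly (matrixSet P)) {f : (ι → F) → (ι → F) → F} (hf : IsSymplecticForm f)
    (hfP : FixesForm (matrixSet P) f) :
    ¬ ∃ Q : (ι → F) → F, IsNondegenerateQuadraticForm Q ∧ FixesQuadForm (matrixSet P) Q := by
  rintro ⟨Q, hQ, hQP⟩
  obtain ⟨c, hc⟩ := form_unique hP hf.bilinear hf.nondegenerate hfP hQ.polar_bilinear (by
    intro x hx u v
    unfold QuadraticMap.polar
    rw [← Matrix.mulVec_add, hQP x hx, hQP x hx, hQP x hx])
  obtain ⟨i⟩ := (inferInstance : Nonempty ι)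
  obtain ⟨⟨u, hu⟩, -⟩ := hQ.nondegenerate (Pi.single i 1) (by
    intro h
    have := congrFun h i
    rw [Pi.single_eq_same] at this
    exact one_ne_zero this)
  apply hu
  have h1 := hc u (Pi.single i 1)
  have h3 := hc (Pi.single i 1) u
  have h4 : QuadraticMap.polar Q (Pi.single i 1) u = QuadraticMap.polar Q u (Pi.single i 1) := by
    unfold QuadraticMap.polar
    rw [add_comm (Pi.single i 1 : ι → F) u]; ring
  rw [h4, hf.skew, mul_neg, ← h1] at h3
  have h5 : (2 : F) * QuadraticMap.polar Q u (Pi.single i 1) = 0 := by linear_combination h3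
  exact (mul_eq_zero.1 h5).resolve_left h2

end Cfsg.Agent.H920

private theorem dce_4f6c723399a0 : _root_.True := by
  try have : _root_.True := by simp only [_root_.Cfsg.Agent.H920.gram.congr_simp]
  try have : _root_.True := by simp only [_root_.Cfsg.Agent.H920.gram.eq_1]
  exact _root_.True.intro
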