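import Cfsg.Agent.H920.Basic
set_option linter.all false

/-!
# Matrix groups with scalar commutators (helper920)

* `mem_scalars_of_comm` : what commutes with an absolutely irreducible set is scalar;
* `linearIndependent_of_comm` : in an absolutely irreducible group with scalar commutators, elements that are
  pairwise inequivalent modulo scalars are linearly independent;
* `card_quotient_scalars` : such a group has index `(card ι) ^ 2` over its scalars.
-/

set_option autoImplicit false

namespace Cfsg.Agent.H920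

open Cfsg.Geo Matrix

variable {ι : Type} [Fintype ι] [DecidableEq ι] {F : Type*} [Field F]

theorem scalars_comm {z : GL ι F} (hz : z ∈ scalars ι F) (g : GL ι F) : z * g = g * z := by
  obtain ⟨c, hc⟩ := (mem_scalars_iff z).1 hz
  apply Units.ext
  rw [Units.val_mul, Units.val_mul, hc, Matrix.smul_mul, Matrix.mul_smul, Matrix.one_mul, Matrix.mul_one]

theorem mem_scalars_of_val {g : GL ι F} {c : F} (h : (g : Matrix ι ι F) = c • (1 : Matrix ι ι F)) :
    g ∈ scalars ι F := by
  rcases isEmpty_or_nonempty ι with he | ⟨⟨i⟩⟩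
  · have : g = 1 := by
      apply Units.ext
      ext i
      exact (he.false i).elim
    rw [this]
    exact Subgroup.one_mem _
  · have hc : c ≠ 0 := by
      rintro rfl
      have h1 : (g : Matrix ι ι F) * ((g⁻¹ : GL ι F) : Matrix ι ι F) = 1 := by
        rw [← Units.val_mul, mul_inv_cancel, Units.val_one]
      rw [h, zero_smul, Matrix.zero_mul] at h1
      have := congrFun (congrFun h1 i) i
      simp at this
    exact (mem_scalars_iff g).2 ⟨Units.mk0 c hc, h⟩

theorem mem_scalars_of_comm {S : Set (Matrix ι ι F)} (h : ActsAbsolutelyIrreducibly S) {g : GL ι F}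
    (hg : ∀ s ∈ S, (g : Matrix ι ι F) * s = s * g) : g ∈ scalars ι F := by
  obtain ⟨c, hc⟩ := h.2 g hg
  exact mem_scalars_of_val hc

theorem mem_scalars_of_comm' {R : Subgroup (GL ι F)} (h : ActsAbsolutelyIrreducibly (matrixSet R)) {g : GL ι F}
    (hg : ∀ x ∈ R, g * x = x * g) : g ∈ scalars ι F := by
  apply mem_scalars_of_comm h
  rintro _ ⟨x, hx, rfl⟩
  have := congrArg (Units.val) (hg x hx)
  simpa using this

theorem center_eq {R : Subgroup (GL ι F)} (h : ActsAbsolutelyIrreducibly (matrixSet R)) :
    Subgroup.center R = (scalars ι F).subgroupOf R := by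
  ext z
  rw [Subgroup.mem_center_iff, Subgroup.mem_subgroupOf]
  constructor
  · intro hz
    apply mem_scalars_of_comm' h
    intro x hx
    exact (congrArg Subtype.val (hz ⟨x, hx⟩)).symm
  · intro hz x
    apply Subtype.ext
    exact (scalars_comm hz x).symm

theorem linearIndependent_of_comm [Nonempty ι] {R : Subgroup (GL ι F)}
    (h : ActsAbsolutelyIrreducibly (matrixSet R))
    (hcomm : ∀ x ∈ R, ∀ y ∈ R, x * y * x⁻¹ * y⁻¹ ∈ scalars ι F)
    {κ : Type*} (g : κ → GL ι F) (hg : ∀ i, g i ∈ R)
    (hne : ∀ i j, i ≠ j → (g i)⁻¹ * g j ∉ scalars ι F) :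
    LinearIndependent F (fun i => (g i : Matrix ι ι F)) := by
  classical
  -- conjugation by `x` multiplies `g i` by a scalar
  have hχ : ∀ x ∈ R, ∀ i, ∃ c : F, (x : Matrix ι ι F) * (g i : Matrix ι ι F) * ((x⁻¹ : GL ι F) : Matrix ι ι F) =
      c • (g i : Matrix ι ι F) := by
    intro x hx i
    obtain ⟨c, hc⟩ := (mem_scalars_iff _).1 (hcomm x hx (g i) (hg i))
    refine ⟨c, ?_⟩
    have h1 : x * g i * x⁻¹ = (x * g i * x⁻¹ * (g i)⁻¹) * g i := by group
    have h2 := congrArg Units.val h1
    rw [Units.val_mul, Units.val_mul, Units.val_mul (x * g i * x⁻¹ * (g i)⁻¹), hc, Matrix.smul_mul,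
      Matrix.one_mul] at h2
    exact h2
  choose! χ hχ' using hχ
  -- distinct elements are separated by some `x`
  have hsep : ∀ i j, i ≠ j → ∃ x ∈ R, χ x i ≠ χ x j := by
    intro i j hij
    by_contra hcon
    push Not at hcon
    apply hne i j hij
    apply mem_scalars_of_comm' h
    intro x hx
    have hi := hχ' x hx i
    have hj := hχ' x hx j
    have e1 : x * g i * x⁻¹ * (g i)⁻¹ = x * g j * x⁻¹ * (g j)⁻¹ := by
      apply Units.ext
      have a1 : ((x * g i * x⁻¹ * (g i)⁻¹ : GL ι F) : Matrix ι ι F) = χ x i • (1 : Matrix ι ι F) := by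
        rw [Units.val_mul, Units.val_mul, Units.val_mul, hi, Matrix.smul_mul, ← Units.val_mul, mul_inv_cancel,
          Units.val_one]
      have a2 : ((x * g j * x⁻¹ * (g j)⁻¹ : GL ι F) : Matrix ι ι F) = χ x j • (1 : Matrix ι ι F) := by
        rw [Units.val_mul, Units.val_mul, Units.val_mul, hj, Matrix.smul_mul, ← Units.val_mul, mul_inv_cancel,
          Units.val_one]
      rw [a1, a2, hcon x hx]
    -- `x g i x⁻¹ = z g i`, `x g j x⁻¹ = z g j`
    have hz : x * g i * x⁻¹ * (g i)⁻¹ ∈ scalars ι F := hcomm x hx (g i) (hg i)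
    set z := x * g i * x⁻¹ * (g i)⁻¹ with hzdef
    have f1 : x * g i * x⁻¹ = z * g i := by rw [hzdef]; group
    have f2 : x * g j * x⁻¹ = z * g j := by rw [e1]; group
    have f3 : x * ((g i)⁻¹ * g j) * x⁻¹ = (g i)⁻¹ * g j := by
      calc x * ((g i)⁻¹ * g j) * x⁻¹ = (x * g i * x⁻¹)⁻¹ * (x * g j * x⁻¹) := by group
        _ = (z * g i)⁻¹ * (z * g j) := by rw [f1, f2]
        _ = (g i)⁻¹ * g j := by group
    calc (g i)⁻¹ * g j * x = x * ((g i)⁻¹ * g j) * x⁻¹ * x := by rw [f3]
      _ = x * ((g i)⁻¹ * g j) := by group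
  rw [linearIndependent_iff']
  intro s
  induction s using Finset.induction_on with
  | empty => intro c _ i hi; simp at hi
  | insert a t ha ih =>
    intro c hc
    rw [Finset.sum_insert ha] at hc
    have ht : ∀ j ∈ t, c j = 0 := by
      intro j hj
      have hja : a ≠ j := by rintro rfl; exact ha hj
      obtain ⟨x, hx, hxne⟩ := hsep a j hja
      have hconj : ∀ k, (x : Matrix ι ι F) * (c k • (g k : Matrix ι ι F)) * ((x⁻¹ : GL ι F) : Matrix ι ι F) =
          (c k * χ x k) • (g k : Matrix ι ι F) := by
        intro k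
        rw [Matrix.mul_smul, Matrix.smul_mul, hχ' x hx k, smul_smul]
      have h1 : (c a * χ x a) • (g a : Matrix ι ι F) + ∑ k ∈ t, (c k * χ x k) • (g k : Matrix ι ι F) = 0 := by
        have := congrArg (fun M => (x : Matrix ι ι F) * M * ((x⁻¹ : GL ι F) : Matrix ι ι F)) hc
        simp only [Matrix.mul_add, Matrix.add_mul, Matrix.mul_sum, Matrix.sum_mul, Matrix.mul_zero,
          Matrix.zero_mul] at this
        rw [hconj a] at this
        rw [← this]
        congr 1
        exact Finset.sum_congr rfl fun k _ => (hconj k).symm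
      have h2 : (χ x a * c a) • (g a : Matrix ι ι F) + ∑ k ∈ t, (χ x a * c k) • (g k : Matrix ι ι F) = 0 := by
        have := congrArg (fun M => χ x a • M) hc
        simp only [smul_add, Finset.smul_sum, smul_smul, smul_zero] at this
        exact this
      have h3 : ∑ k ∈ t, (c k * (χ x k - χ x a)) • (g k : Matrix ι ι F) = 0 := by
        have : ∑ k ∈ t, (c k * (χ x k - χ x a)) • (g k : Matrix ι ι F) =
            ((c a * χ x a) • (g a : Matrix ι ι F) + ∑ k ∈ t, (c k * χ x k) • (g k : Matrix ι ι F)) -
            ((χ x a * c a) • (g a : Matrix ι ι F) + ∑ k ∈ t, (χ x a * c k) • (g k : Matrix ι ι F)) := by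
          rw [mul_comm (c a) (χ x a), add_sub_add_left_eq_sub, ← Finset.sum_sub_distrib]
          apply Finset.sum_congr rfl
          intro k _
          rw [← sub_smul]
          congr 1
          ring
        rw [this, h1, h2, sub_zero]
      have := ih (fun k => c k * (χ x k - χ x a)) h3 j hj
      rcases mul_eq_zero.1 this with h4 | h4
      · exact h4
      · exact absurd (sub_eq_zero.1 h4).symm hxne
    have hsum : ∑ k ∈ t, c k • (g k : Matrix ι ι F) = 0 :=
      Finset.sum_eq_zero fun k hk => by rw [ht k hk, zero_smul]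
    rw [hsum, add_zero] at hc
    have hca : c a = 0 := by
      rcases smul_eq_zero.1 hc with h5 | h5
      · exact h5
      · exact absurd h5 (g a).ne_zero
    intro i hi
    rcases Finset.mem_insert.1 hi with rfl | hi
    · exact hca
    · exact ht i hi

/-- An absolutely irreducible group with scalar commutators has index `n ^ 2` over its scalars. -/
theorem card_quotient_scalars [Nonempty ι] {R : Subgroup (GL ι F)}
    (h : ActsAbsolutelyIrreducibly (matrixSet R))
    (hcomm : ∀ x ∈ R, ∀ y ∈ R, x * y * x⁻¹ * y⁻¹ ∈ scalars ι F) :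
    Nat.card (R ⧸ (scalars ι F).subgroupOf R) = Fintype.card ι ^ 2 := by
  classical
  let g : R ⧸ (scalars ι F).subgroupOf R → GL ι F := fun q => (q.out : R)
  have hg : ∀ i, g i ∈ R := fun i => (Quotient.out i).2
  have hne : ∀ i j, i ≠ j → (g i)⁻¹ * g j ∉ scalars ι F := by
    intro i j hij hmem
    apply hij
    rw [← Quotient.out_eq' i, ← Quotient.out_eq' j]
    apply Quotient.sound'
    rw [QuotientGroup.leftRel_apply, Subgroup.mem_subgroupOf]
    exact hmem
  have hli := linearIndependent_of_comm h hcomm g hg hne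
  have hspan : ⊤ ≤ Submodule.span F (Set.range (fun i => (g i : Matrix ι ι F))) := by
    rw [← span_eq_top h, Submodule.span_le]
    rintro _ ⟨x, hx, rfl⟩
    set q : R ⧸ (scalars ι F).subgroupOf R := QuotientGroup.mk ⟨x, hx⟩ with hq
    have h1 : (g q)⁻¹ * x ∈ scalars ι F := by
      have : (q.out : R)⁻¹ * ⟨x, hx⟩ ∈ (scalars ι F).subgroupOf R := by
        rw [← QuotientGroup.eq, hq]
        exact QuotientGroup.out_eq' _
      exact this
    obtain ⟨c, hc⟩ := (mem_scalars_iff _).1 h1
    have h2 : (x : Matrix ι ι F) = (c : F) • (g q : Matrix ι ι F) := by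
      have : x = g q * ((g q)⁻¹ * x) := by group
      have := congrArg Units.val this
      rw [Units.val_mul, hc, Matrix.mul_smul, Matrix.mul_one] at this
      exact this
    change (x : Matrix ι ι F) ∈ _
    rw [h2]
    exact Submodule.smul_mem _ _ (Submodule.subset_span ⟨q, rfl⟩)
  have b := Module.Basis.mk hli hspan
  have h1 := Module.finrank_eq_nat_card_basis b
  rw [← h1, Module.finrank_matrix, Module.finrank_self, mul_one, sq]

end Cfsg.Agent.H920
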