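import Cfsg.Agent.H878.KerBase
import Cfsg.Agent.S2086
import Cfsg.Agent.S0302
import Cfsg.Agent.S1686
import Cfsg.Agent.H912.CrossList_m3
import Cfsg.Agent.S0248
import Cfsg.Agent.H251.GeoCardC
import Cfsg.Agent.FastGrp
import Cfsg.Agent.Prune
set_option linter.all false
prune_inst 0x7f00000000000000000000000000000000000000000000000000000000000000000000000000000000000000000000000000000000000000000000000000000000000000000000000000000000000000003fffffffffffffffffffffffffffbeffbdffffffff
open scoped Cfsg.Agent.FastGrp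

/-!
# Projective representations whose kernel has order prime to `r` from subquotients with multiplier prime to `r`
(helper920)

* `pr_of_section` : `P ≤ GL_n(F)`, `f : A → P / scalars`, `g : A → T'` onto with `f (ker g)` central in `f A`; if `T'` is
  perfect and its multiplier is prime to `r` then `PR F n r T'`.
* `le_of_psl_four`, `le_of_o_seven`, `le_of_fi22` : `L_4(3)`, `O_7(3)`, `Fi_22` in `P / scalars` give `26 ≤ n`.
-/

set_option autoImplicit false

universe u v w

namespace Cfsg.Agent.H920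

open Cfsg Cfsg.Geo Matrix Cfsg.Agent.H912.Bd Cfsg.Agent.H878

theorem central_of_perfect {M : Type u} {H : Type v} [Group M] [Group H] (hM : commutator M = ⊤) (φ : M →* H)
    (hφ : ∀ x, φ x = 1 → ∀ y, x * y = y * x) (x : M) (hx : ∀ y, φ x * φ y = φ y * φ x) (y : M) : x * y = y * x := by
  have h1 : ∀ y z : M, (x * y * x⁻¹ * y⁻¹) * z = z * (x * y * x⁻¹ * y⁻¹) := by
    intro y z
    apply hφ
    rw [map_mul, map_mul, map_mul, map_inv, map_inv, hx y, mul_inv_cancel_right, mul_inv_cancel]
  have h6 : ∀ y z : M, x * (y * z) * x⁻¹ * (y * z)⁻¹ = (x * y * x⁻¹ * y⁻¹) * (x * z * x⁻¹ * z⁻¹) := by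
    intro y z
    have h5 : x * (y * z) * x⁻¹ * (y * z)⁻¹ = (x * y * x⁻¹ * y⁻¹) * (y * (x * z * x⁻¹ * z⁻¹) * y⁻¹) := by group
    rw [h5, ← h1 z y, mul_inv_cancel_right]
  let χ : M →* M := MonoidHom.mk' (fun y => x * y * x⁻¹ * y⁻¹) h6
  have hχ' : commutator M ≤ χ.ker := by
    rw [commutator_def, Subgroup.commutator_le]
    intro a _ b _
    rw [MonoidHom.mem_ker, map_commutatorElement, commutatorElement_eq_one_iff_mul_comm]
    exact h1 a (χ b)
  rw [hM] at hχ'
  have h3 : x * y * x⁻¹ * y⁻¹ = 1 := hχ' (Subgroup.mem_top y)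
  rwa [mul_inv_eq_one, mul_inv_eq_iff_eq_mul] at h3

/-- A perfect group over `T'`. -/
theorem exists_perfect_over {L : Type u} {T' : Type w} [Group L] [Finite L] [Group T'] (φ : L →* T')
    (hφ : Function.Surjective φ) (hperf : commutator T' = ⊤) :
    ∃ M : Subgroup L, commutator M = ⊤ ∧ Function.Surjective (φ.comp M.subtype) := by
  obtain ⟨M, -, hM, k, hk⟩ := exists_perfect_residual L
  have h1 : ∀ k, (derivedSeries L k).map φ = ⊤ := by
    intro k
    induction k with
    | zero =>
      rw [derivedSeries_zero]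
      exact Subgroup.map_top_of_surjective φ hφ
    | succ k ih =>
      rw [derivedSeries_succ, Subgroup.map_commutator, ih]
      exact hperf
  refine ⟨M, ?_, ?_⟩
  · apply Subgroup.map_injective M.subtype_injective
    rw [Subgroup.map_subtype_commutator, hM, ← MonoidHom.range_eq_map, Subgroup.range_subtype]
  · intro t
    have : t ∈ M.map φ := by rw [← hk, h1]; trivial
    obtain ⟨x, hx, rfl⟩ := this
    exact ⟨⟨x, hx⟩, rfl⟩

theorem pr_of_perfect {n : ℕ} {F : Type u} [Field F] {r : ℕ} (hr : r.Prime) {M : Type u} [Group M] [Finite M]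
    {T' : Type w} [Group T'] (π : M →* T') (hπ : Function.Surjective π) (ρ : M →* GL (Fin n) F) (hρ : ρ.ker ≤ π.ker)
    (hM : commutator M = ⊤) (hc : ∀ x, π x = 1 → ∀ y, x * y = y * x) (haway : Away.{u} r T') : PR F n r T' := by
  obtain ⟨m, hm, hrm⟩ := haway
  have hexp := hm M π hπ (fun x hx => Subgroup.mem_center_iff.2 fun y => (hc x hx y).symm) hM
  refine ⟨M, inferInstance, π, ρ, hπ, hc, ?_, hρ⟩
  rw [Nat.coprime_comm, hr.coprime_iff_not_dvd]
  intro hdvd
  have : Fact r.Prime := ⟨hr⟩
  obtain ⟨z, hz⟩ := exists_prime_orderOf_dvd_card' r hdvd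
  have h1 : z ^ m = 1 := Subtype.ext (hexp z z.2)
  exact hrm (by rw [← hz]; exact orderOf_dvd_of_pow_eq_one h1)

/-- **The abstract form.** `π : C → T` central extension, `ρ : C → GL_n(F)` injective. -/
theorem pr_of_ext {n : ℕ} {F : Type u} [Field F] {r : ℕ} (hr : r.Prime) {C : Type u} [Group C] [Finite C]
    {T : Type*} [Group T] (π : C →* T) (hπ : Function.Surjective π) (hπc : π.ker ≤ Subgroup.center C)
    (ρ : C →* GL (Fin n) F) (hρ : Function.Injective ρ) {A : Type v} [Group A] {T' : Type w} [Group T']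
    (f : A →* T) (g : A →* T') (hg : Function.Surjective g)
    (hker : f.ker ≤ g.ker) (hcen : ∀ a, g a = 1 → ∀ b, f a * f b = f b * f a)
    (hperf : commutator T' = ⊤) (haway : Away.{u} r T') : PR F n r T' := by
  classical
  let L0 : Subgroup C := f.range.comap π
  -- the map to `T'`
  obtain ⟨g', hg'⟩ : ∃ g' : f.range →* T', ∀ a, g' (f.rangeRestrict a) = g a :=
    ⟨(f.rangeRestrict.liftOfSurjective f.rangeRestrict_surjective) ⟨g, by
      rw [MonoidHom.ker_rangeRestrict]; exact hker⟩, fun a => MonoidHom.liftOfRightInverse_comp_apply _ _ _ _ a⟩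
  obtain ⟨φ0, hφ0⟩ : ∃ φ0 : L0 →* f.range, ∀ x : L0, ((φ0 x : f.range) : T) = π (x : C) :=
    ⟨(π.comp L0.subtype).codRestrict f.range fun x => x.2, fun x => rfl⟩
  have hφ0s : Function.Surjective φ0 := by
    rintro ⟨q, hq⟩
    obtain ⟨x, rfl⟩ := hπ q
    refine ⟨⟨x, hq⟩, Subtype.ext ?_⟩
    rw [hφ0]
  have hg's : Function.Surjective g' := by
    intro t
    obtain ⟨a, rfl⟩ := hg t
    exact ⟨_, hg' a⟩
  have hg'c : ∀ y, g' y = 1 → ∀ z, y * z = z * y := by
    intro y hy z
    obtain ⟨a, rfl⟩ := f.rangeRestrict_surjective y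
    obtain ⟨b, rfl⟩ := f.rangeRestrict_surjective z
    rw [hg'] at hy
    exact Subtype.ext (hcen a hy b)
  obtain ⟨M, hMperf, hMs⟩ := exists_perfect_over (g'.comp φ0) (hg's.comp hφ0s) hperf
  -- the kernel of `π` is central
  have hφ1 : ∀ x : M, (φ0.comp M.subtype) x = 1 → ∀ y, x * y = y * x := by
    intro x hx y
    have h1 : (x : L0).1 ∈ π.ker := by
      have h2 := hφ0 (x : L0)
      have h3 : φ0 (x : L0) = 1 := hx
      rw [h3] at h2
      exact h2.symm
    exact Subtype.ext (Subtype.ext (Subgroup.mem_center_iff.1 (hπc h1) _).symm)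
  refine pr_of_perfect hr ((g'.comp φ0).comp M.subtype) hMs ((ρ.comp L0.subtype).comp M.subtype) ?_ hMperf ?_ haway
  · intro x hx
    have h1 : x = 1 := by
      apply Subtype.ext
      apply Subtype.ext
      apply hρ
      rw [OneMemClass.coe_one, OneMemClass.coe_one, map_one]
      exact hx
    rw [h1]
    exact Subgroup.one_mem _
  · intro x hx
    refine central_of_perfect hMperf (φ0.comp M.subtype) hφ1 x fun y => ?_
    exact hg'c _ hx _

/-! ### `L_4(3)` -/

section Three

variable {K : Type} [Field K] [Fintype K]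

theorem perfect_psl_four : commutator (ProjectiveSpecialLinearGroup (Fin 4) K) = ⊤ := by
  have h1 := congrArg (Subgroup.map (QuotientGroup.mk' (Subgroup.center (_root_.Matrix.SpecialLinearGroup (Fin 4) K))))
    (S0248.result (F := K) 4 (by norm_num))
  rw [Subgroup.map_top_of_surjective _ (QuotientGroup.mk'_surjective _), commutator_def, Subgroup.map_commutator,
    Subgroup.map_top_of_surjective _ (QuotientGroup.mk'_surjective _)] at h1
  exact h1

theorem away_psl_four (hK : Fintype.card K = 3) : Away.{u} 3 (ProjectiveSpecialLinearGroup (Fin 4) K) := by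
  have h := S2086.result hK 4 (by norm_num) (by norm_num) (by simp)
  exact away_cyc' h (by decide)

theorem le_of_pr_psl_four {F : Type u} [Field F] (h3 : (3 : F) ≠ 0) (hK : Fintype.card K = 3) {n : ℕ}
    (h : PR F n 3 (ProjectiveSpecialLinearGroup (Fin 4) K)) : 26 ≤ n := by
  have hchar : CharP K 3 := by
    obtain ⟨p', hp'⟩ := CharP.exists K
    obtain ⟨m, hp'', hm⟩ := FiniteField.card K p'
    rw [hK] at hm
    have h4 : p' ∣ 3 := by rw [hm]; exact dvd_pow_self _ m.2.ne'
    have : p' = 3 := (Nat.prime_dvd_prime_iff_eq hp'' Nat.prime_three).1 h4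
    rwa [this] at hp'
  have h1 := bd_psl (F := F) Nat.prime_three (by exact_mod_cast h3) (m := 4) (by norm_num) hchar n h
  rw [hK] at h1
  norm_num at h1
  exact h1

section Ext

variable {n : ℕ} {F : Type u} [Field F] {C : Type u} [Group C] [Finite C] {T : Type*} [Group T]

theorem le_of_psl_four' (h3 : (3 : F) ≠ 0) (hK : Fintype.card K = 3) (π : C →* T) (hπ : Function.Surjective π)
    (hπc : π.ker ≤ Subgroup.center C) (ρ : C →* GL (Fin n) F) (hρ : Function.Injective ρ)
    (f : ProjectiveSpecialLinearGroup (Fin 4) K →* T) (hf : Function.Injective f) : 26 ≤ n := by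
  refine le_of_pr_psl_four h3 hK (pr_of_ext Nat.prime_three π hπ hπc ρ hρ f (MonoidHom.id _) Function.surjective_id ?_ ?_
    perfect_psl_four (away_psl_four hK))
  · intro x hx
    rw [(MonoidHom.ker_eq_bot_iff f).2 hf, Subgroup.mem_bot] at hx
    rw [hx]; exact Subgroup.one_mem _
  · intro a ha b
    have : a = 1 := ha
    rw [this, map_one, one_mul, mul_one]

seal _root_.Finset.sum _root_.dotProduct in
/-- **`O_7(3)`**, abstract form. -/
theorem le_of_o_seven' (h3 : (3 : F) ≠ 0) (hK : Fintype.card K = 3) (π : C →* T) (hπ : Function.Surjective π)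
    (hπc : π.ker ≤ Subgroup.center C) (ρ : C →* GL (Fin n) F) (hρ : Function.Injective ρ)
    (f : POmega K (quadFormOdd 3 K) →* T) (hf : Function.Injective f) : 26 ≤ n := by
  obtain ⟨f0, hf0⟩ := exists_odd (K := K) (m := 3) (n := 3) (le_refl 3)
  obtain ⟨e⟩ := S0302.result (F := K)
  refine le_of_pr_psl_four h3 hK (pr_of_ext Nat.prime_three π hπ hπc ρ hρ (f.comp f0)
    (e.toMonoidHom.comp (QuotientGroup.mk' (Subgroup.center (Omega K (quadFormPlus 3 K)))))
    (e.surjective.comp (QuotientGroup.mk'_surjective _)) ?_ ?_ perfect_psl_four (away_psl_four hK))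
  · intro x hx
    have h1 : f (f0 x) = 1 := hx
    have h2 : f0 x = 1 := hf (by rw [h1, map_one])
    have h4 := hf0 h2
    rw [MonoidHom.mem_ker]
    change e (QuotientGroup.mk' _ x) = 1
    rw [show QuotientGroup.mk' (Subgroup.center (Omega K (quadFormPlus 3 K))) x = 1 from
      (QuotientGroup.eq_one_iff x).2 h4, map_one]
  · intro a ha b
    have h1 : e (QuotientGroup.mk' (Subgroup.center (Omega K (quadFormPlus 3 K))) a) = 1 := ha
    have h2 : QuotientGroup.mk' (Subgroup.center (Omega K (quadFormPlus 3 K))) a = 1 :=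
      e.injective (by simp only [h1, map_one])
    have h4 : a ∈ Subgroup.center (Omega K (quadFormPlus 3 K)) := (QuotientGroup.eq_one_iff a).1 h2
    simp only [← map_mul, ← map_mul, Subgroup.mem_center_iff.1 h4 b]

end Ext

variable {n : ℕ} {F : Type u} [Field F] [Finite F] {P : Subgroup (GL (Fin n) F)}

end Three

/-- **`Fi_22`**, abstract form. -/
theorem le_of_fi22' {n : ℕ} {F : Type u} [Field F] {C : Type u} [Group C] [Finite C] {T : Type*} [Group T]
    (h3 : (3 : F) ≠ 0) (π : C →* T) (hπ : Function.Surjective π)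
    (hπc : π.ker ≤ Subgroup.center C) (ρ : C →* GL (Fin n) F) (hρ : Function.Injective ρ)
    (f : Spor.Fi22 →* T) (hf : Function.Injective f) : 26 ≤ n := by
  obtain ⟨e⟩ := S1686.result
  have hK : Fintype.card (ZMod 3) = 3 := by simp
  refine le_of_o_seven' (K := ZMod 3) h3 hK π hπ hπc ρ hρ (f.comp ((Subgroup.subtype _).comp e.symm.toMonoidHom)) ?_
  exact hf.comp ((Subgroup.subtype_injective _).comp e.symm.injective)

/-- The form asked by helper878. -/
theorem exc_le {n : ℕ} {F : Type u} [Field F] {C : Type u} [Group C] [Finite C] {T : Type*} [Group T]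
    (h3 : (3 : F) ≠ 0) (π : C →* T) (hπ : Function.Surjective π)
    (hπc : π.ker ≤ Subgroup.center C) (ρ : C →* GL (Fin n) F) (hρ : Function.Injective ρ)
    (h : (∃ (K : Type) (_ : Field K) (_ : Fintype K), Fintype.card K = 3 ∧ Nonempty (T ≃* POmega K (quadFormOdd 3 K))) ∨
      Spor.IsoFi22 T) : 26 ≤ n := by
  rcases h with ⟨K, _, _, hK, ⟨e⟩⟩ | ⟨⟨e⟩⟩
  · exact le_of_o_seven' h3 hK π hπ hπc ρ hρ e.symm.toMonoidHom e.symm.injective
  · exact le_of_fi22' h3 π hπ hπc ρ hρ e.symm.toMonoidHom e.symm.injective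

end Cfsg.Agent.H920
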