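import Cfsg.Agent.H920.SympD
set_option linter.all false

/-!
# Symplectic-type groups fixing a symplectic form are of minus type (helper920)

`isOfMinusType_of_symplectic` : `R ≤ GL(ι, F)` absolutely irreducible with scalar commutators, `|ι| = 2 ^ m`,
fixing a non-degenerate symplectic form, odd characteristic ⇒ `R` has no elementary abelian subgroup of order
`2 ^ (m + 1)`.
-/

set_option autoImplicit false

namespace Cfsg.Agent.H920

open Cfsg.Geo Matrix

variable {ι : Type} [Fintype ι] [DecidableEq ι] {F : Type*} [Field F]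

/-- The scalar of a commutator. -/
def cs (i₀ : ι) (x y : GL ι F) : F := ((x * y * x⁻¹ * y⁻¹ : GL ι F) : Matrix ι ι F) i₀ i₀

theorem cs_spec (i₀ : ι) {x y : GL ι F} (h : x * y * x⁻¹ * y⁻¹ ∈ scalars ι F) :
    ((x * y * x⁻¹ * y⁻¹ : GL ι F) : Matrix ι ι F) = cs i₀ x y • (1 : Matrix ι ι F) := by
  obtain ⟨c, hc⟩ := (mem_scalars_iff _).1 h
  rw [cs, hc]
  simp

theorem cs_mul (i₀ : ι) {x y : GL ι F} (h : x * y * x⁻¹ * y⁻¹ ∈ scalars ι F) :
    (x : Matrix ι ι F) * (y : Matrix ι ι F) = cs i₀ x y • ((y : Matrix ι ι F) * (x : Matrix ι ι F)) := by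
  have h1 : x * y = (x * y * x⁻¹ * y⁻¹) * (y * x) := by group
  have h2 := congrArg Units.val h1
  rw [Units.val_mul, Units.val_mul (x * y * x⁻¹ * y⁻¹), cs_spec i₀ h, Matrix.smul_mul, Matrix.one_mul,
    Units.val_mul] at h2
  exact h2

theorem cs_eq_of (i₀ : ι) {x y : GL ι F} (h : x * y * x⁻¹ * y⁻¹ ∈ scalars ι F) {c : F}
    (hc : (x : Matrix ι ι F) * (y : Matrix ι ι F) = c • ((y : Matrix ι ι F) * (x : Matrix ι ι F))) :
    cs i₀ x y = c := by
  have h1 := cs_mul i₀ h
  rw [hc] at h1
  have h2 : (c - cs i₀ x y) • ((y * x : GL ι F) : Matrix ι ι F) = 0 := by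
    rw [Units.val_mul, sub_smul, h1, sub_self]
  have : Nonempty ι := ⟨i₀⟩
  rcases smul_eq_zero.1 h2 with h3 | h3
  · exact (sub_eq_zero.1 h3).symm
  · exact absurd h3 (y * x).ne_zero

theorem cs_eq_one_iff (i₀ : ι) {x y : GL ι F} (h : x * y * x⁻¹ * y⁻¹ ∈ scalars ι F) :
    cs i₀ x y = 1 ↔ x * y = y * x := by
  constructor
  · intro h1
    apply Units.ext
    rw [Units.val_mul, Units.val_mul, cs_mul i₀ h, h1, one_smul]
  · intro h1
    apply cs_eq_of i₀ h
    rw [one_smul, ← Units.val_mul, h1, Units.val_mul]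

/-- `cs` is multiplicative in the second variable. -/
theorem cs_mul_right (i₀ : ι) {R : Subgroup (GL ι F)}
    (hcomm : ∀ x ∈ R, ∀ y ∈ R, x * y * x⁻¹ * y⁻¹ ∈ scalars ι F) {x y z : GL ι F} (hx : x ∈ R) (hy : y ∈ R)
    (hz : z ∈ R) : cs i₀ x (y * z) = cs i₀ x y * cs i₀ x z := by
  apply cs_eq_of i₀ (hcomm x hx _ (R.mul_mem hy hz))
  rw [Units.val_mul, ← Matrix.mul_assoc, cs_mul i₀ (hcomm x hx y hy), Matrix.smul_mul, Matrix.mul_assoc,
    cs_mul i₀ (hcomm x hx z hz), Matrix.mul_smul, smul_smul, Matrix.mul_assoc]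

/-- A common eigenvector of finitely many commuting involutions. -/
theorem exists_common_eigenvector [Nonempty ι] (s : Finset (GL ι F))
    (hs : ∀ x ∈ s, ∀ y ∈ s, x * y = y * x) (hinv : ∀ x ∈ s, x * x = 1) :
    ∃ v : ι → F, v ≠ 0 ∧ ∀ x ∈ s, (x : Matrix ι ι F) *ᵥ v = v ∨ (x : Matrix ι ι F) *ᵥ v = -v := by
  classical
  induction s using Finset.induction_on with
  | empty =>
    obtain ⟨v, hv⟩ := exists_ne (0 : ι → F)
    exact ⟨v, hv, by simp⟩
  | insert a t ha ih =>
    obtain ⟨v, hv0, hv⟩ := ih (fun x hx y hy => hs x (Finset.mem_insert_of_mem hx) y (Finset.mem_insert_of_mem hy))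
      (fun x hx => hinv x (Finset.mem_insert_of_mem hx))
    have haa : (a : Matrix ι ι F) *ᵥ ((a : Matrix ι ι F) *ᵥ v) = v := by
      rw [Matrix.mulVec_mulVec, ← Units.val_mul, hinv a (Finset.mem_insert_self a t), Units.val_one,
        Matrix.one_mulVec]
    have hcom : ∀ x ∈ t, (x : Matrix ι ι F) *ᵥ ((a : Matrix ι ι F) *ᵥ v) =
        (a : Matrix ι ι F) *ᵥ ((x : Matrix ι ι F) *ᵥ v) := by
      intro x hx
      rw [Matrix.mulVec_mulVec, Matrix.mulVec_mulVec, ← Units.val_mul, ← Units.val_mul,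
        hs x (Finset.mem_insert_of_mem hx) a (Finset.mem_insert_self a t)]
    by_cases hp : v + (a : Matrix ι ι F) *ᵥ v = 0
    · -- `a v = - v`
      refine ⟨v, hv0, ?_⟩
      intro x hx
      rcases Finset.mem_insert.1 hx with rfl | hx
      · right
        exact (neg_eq_of_add_eq_zero_right hp).symm
      · exact hv x hx
    · refine ⟨v + (a : Matrix ι ι F) *ᵥ v, hp, ?_⟩
      intro x hx
      rcases Finset.mem_insert.1 hx with rfl | hx
      · left
        rw [Matrix.mulVec_add, haa, add_comm]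
      · rcases hv x hx with h | h
        · left
          rw [Matrix.mulVec_add, hcom x hx, h]
        · right
          rw [Matrix.mulVec_add, hcom x hx, h, Matrix.mulVec_neg, neg_add]

/-- Joint eigenvectors with distinct characters are linearly independent. -/
theorem linearIndependent_of_joint {V α κ : Type*} [AddCommGroup V] [Module F V] (T : α → V →ₗ[F] V)
    (w : κ → V) (hw : ∀ i, w i ≠ 0) (μ : κ → α → F) (hμ : ∀ i a, T a (w i) = μ i a • w i)
    (hne : ∀ i j, i ≠ j → ∃ a, μ i a ≠ μ j a) : LinearIndependent F w := by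
  classical
  rw [linearIndependent_iff']
  intro s
  induction s using Finset.induction_on with
  | empty => intro c _ i hi; simp at hi
  | insert b t hb ih =>
    intro c hc
    rw [Finset.sum_insert hb] at hc
    have ht : ∀ j ∈ t, c j = 0 := by
      intro j hj
      have hjb : b ≠ j := by rintro rfl; exact hb hj
      obtain ⟨a, ha⟩ := hne b j hjb
      have h1 : (c b * μ b a) • w b + ∑ k ∈ t, (c k * μ k a) • w k = 0 := by
        have h0 := congrArg (T a) hc
        rw [map_add, map_sum, map_smul, hμ, smul_smul, map_zero] at h0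
        rw [← h0]
        congr 1
        apply Finset.sum_congr rfl
        intro k _
        rw [map_smul, hμ, smul_smul]
      have h2 : (μ b a * c b) • w b + ∑ k ∈ t, (μ b a * c k) • w k = 0 := by
        have h0 := congrArg (fun x => μ b a • x) hc
        simp only [smul_add, Finset.smul_sum, smul_smul, smul_zero] at h0
        exact h0
      have h3 : ∑ k ∈ t, (c k * (μ k a - μ b a)) • w k = 0 := by
        have : ∑ k ∈ t, (c k * (μ k a - μ b a)) • w k =
            ((c b * μ b a) • w b + ∑ k ∈ t, (c k * μ k a) • w k) -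
            ((μ b a * c b) • w b + ∑ k ∈ t, (μ b a * c k) • w k) := by
          rw [mul_comm (c b) (μ b a), add_sub_add_left_eq_sub, ← Finset.sum_sub_distrib]
          apply Finset.sum_congr rfl
          intro k _
          rw [← sub_smul]
          congr 1
          ring
        rw [this, h1, h2, sub_zero]
      rcases mul_eq_zero.1 (ih (fun k => c k * (μ k a - μ b a)) h3 j hj) with h4 | h4
      · exact h4
      · exact absurd (sub_eq_zero.1 h4).symm ha
    have hsum : ∑ k ∈ t, c k • w k = 0 :=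
      Finset.sum_eq_zero fun k hk => by rw [ht k hk, zero_smul]
    rw [hsum, add_zero] at hc
    have hcb : c b = 0 := (smul_eq_zero.1 hc).resolve_right (hw b)
    intro i hi
    rcases Finset.mem_insert.1 hi with rfl | hi
    · exact hcb
    · exact ht i hi

/-- **C6, type**: `R` fixing a symplectic form is of minus type. -/
theorem isOfMinusType_of_symplectic [Finite F] {R : Subgroup (GL ι F)}
    (h : ActsAbsolutelyIrreducibly (matrixSet R))
    (hcomm : ∀ x ∈ R, ∀ y ∈ R, x * y * x⁻¹ * y⁻¹ ∈ scalars ι F) {m : ℕ} (hm : Fintype.card ι = 2 ^ m)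
    {f : (ι → F) → (ι → F) → F} (hf : IsSymplecticForm f) (hfix : FixesForm (matrixSet R) f) :
    IsOfMinusType m R := by
  classical
  have hne : Nonempty ι := Fintype.card_pos_iff.1 (by rw [hm]; positivity)
  obtain ⟨i₀⟩ := hne
  have hne : Nonempty ι := ⟨i₀⟩
  have : Fintype F := Fintype.ofFinite F
  intro A hAc hA2
  by_contra hcon
  push Not at hcon
  -- `A'` as a subgroup of `GL`
  set A' : Subgroup (GL ι F) := A.map R.subtype with hA'
  have hA'R : A' ≤ R := by
    rintro _ ⟨x, _, rfl⟩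
    exact x.2
  have hA'c : ∀ x ∈ A', ∀ y ∈ A', x * y = y * x := by
    rintro _ ⟨x, hx, rfl⟩ _ ⟨y, hy, rfl⟩
    have := hAc.is_comm.comm (⟨x, hx⟩ : A) ⟨y, hy⟩
    exact congrArg (fun w : A => ((w : R) : GL ι F)) this
  have hA'2 : ∀ x ∈ A', x * x = 1 := by
    rintro _ ⟨x, hx, rfl⟩
    exact congrArg (fun w : R => (w : GL ι F)) (hA2 x hx)
  have hA'card : Nat.card A' = Nat.card A := Subgroup.card_map_of_injective (Subgroup.subtype_injective R)
  -- common eigenvector
  obtain ⟨v, hv0, hv⟩ := exists_common_eigenvector (Finset.univ.filter (fun x : GL ι F => x ∈ A'))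
    (fun x hx y hy => hA'c x (Finset.mem_filter.1 hx).2 y (Finset.mem_filter.1 hy).2)
    (fun x hx => hA'2 x (Finset.mem_filter.1 hx).2)
  have hχ : ∀ a ∈ A', ∃ c : F, (a : Matrix ι ι F) *ᵥ v = c • v ∧ c * c = 1 := by
    intro a ha
    rcases hv a (Finset.mem_filter.2 ⟨Finset.mem_univ a, ha⟩) with h0 | h0
    · exact ⟨1, by rw [one_smul]; exact h0, by ring⟩
    · exact ⟨-1, by rw [neg_one_smul]; exact h0, by ring⟩
  choose! χ hχ1 hχ2 using hχ
  -- cosets of the centraliser
  let C : Subgroup R := Subgroup.centralizer (A : Set R)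
  let g : R ⧸ C → GL ι F := fun q => if q = QuotientGroup.mk 1 then 1 else (q.out : R)
  have hgR : ∀ q, g q ∈ R := by
    intro q
    change (if q = QuotientGroup.mk 1 then (1 : GL ι F) else (q.out : R)) ∈ R
    split_ifs
    · exact R.one_mem
    · exact (Quotient.out q).2
  have hgq : ∀ q, QuotientGroup.mk (⟨g q, hgR q⟩ : R) = q := by
    intro q
    by_cases hq : q = QuotientGroup.mk 1
    · have h1 : (⟨g q, hgR q⟩ : R) = 1 := by
        apply Subtype.ext
        change (if q = QuotientGroup.mk 1 then (1 : GL ι F) else (q.out : R)) = 1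
        rw [if_pos hq]
      rw [h1, hq]
    · have h1 : (⟨g q, hgR q⟩ : R) = q.out := by
        apply Subtype.ext
        change (if q = QuotientGroup.mk 1 then (1 : GL ι F) else (q.out : R)) = q.out
        rw [if_neg hq]
      rw [h1]
      exact QuotientGroup.out_eq' q
  have hCmem : ∀ y : R, y ∈ C ↔ ∀ a ∈ A', cs i₀ a (y : GL ι F) = 1 := by
    intro y
    rw [Subgroup.mem_centralizer_iff]
    constructor
    · rintro hy _ ⟨a, ha, rfl⟩
      exact (cs_eq_one_iff i₀ (hcomm _ a.2 _ y.2)).2 (congrArg (fun w : R => (w : GL ι F)) (hy a ha))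
    · intro hy a ha
      apply Subtype.ext
      exact (cs_eq_one_iff i₀ (hcomm _ a.2 _ y.2)).1 (hy (a : GL ι F) ⟨a, ha, rfl⟩)
  have hcs0 : ∀ a ∈ R, ∀ y ∈ R, cs i₀ a y ≠ 0 := by
    intro a ha y hy h0
    have h1 := cs_mul i₀ (hcomm a ha y hy)
    rw [h0, zero_smul, ← Units.val_mul] at h1
    exact (a * y).ne_zero h1
  -- `cs` depends only on the coset
  have hcsq : ∀ a ∈ A', ∀ y : R, cs i₀ a (y : GL ι F) = cs i₀ a (g (QuotientGroup.mk y)) := by
    intro a ha y
    have h1 := hgq (QuotientGroup.mk y)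
    rw [QuotientGroup.eq, hCmem] at h1
    have h2 := h1 a ha
    have h3 : (y : GL ι F) = g (QuotientGroup.mk y) * ((g (QuotientGroup.mk y))⁻¹ * y) := by group
    rw [h3, cs_mul_right i₀ hcomm (hA'R ha) (hgR _) (R.mul_mem (R.inv_mem (hgR _)) y.2)]
    have h4 : cs i₀ a ((g (QuotientGroup.mk y))⁻¹ * y) = 1 := h2
    rw [h4, mul_one]
  have hsep : ∀ q q', q ≠ q' → ∃ a ∈ A', cs i₀ a (g q) ≠ cs i₀ a (g q') := by
    intro q q' hqq
    by_contra hcon'
    push Not at hcon'
    apply hqq
    rw [← hgq q, ← hgq q', QuotientGroup.eq, hCmem]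
    intro a ha
    have h1 := hcon' a ha
    have h2 : g q' = g q * ((g q)⁻¹ * g q') := by group
    rw [h2, cs_mul_right i₀ hcomm (hA'R ha) (hgR _) (R.mul_mem (R.inv_mem (hgR _)) (hgR _))] at h1
    have h3 : cs i₀ a ((g q)⁻¹ * g q') = 1 := by
      have h4 := hcs0 a (hA'R ha) (g q) (hgR q)
      field_simp at h1
      exact h1.symm
    exact h3
  -- the vectors `w q = g q v`
  let w : R ⧸ C → (ι → F) := fun q => (g q : Matrix ι ι F) *ᵥ v
  have hw0 : ∀ q, w q ≠ 0 := by
    intro q h0
    apply hv0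
    have := congrArg (fun x => (((g q)⁻¹ : GL ι F) : Matrix ι ι F) *ᵥ x) h0
    beta_reduce at this
    rw [Matrix.mulVec_zero] at this
    change (((g q)⁻¹ : GL ι F) : Matrix ι ι F) *ᵥ ((g q : Matrix ι ι F) *ᵥ v) = 0 at this
    rw [Matrix.mulVec_mulVec, ← Units.val_mul, inv_mul_cancel, Units.val_one, Matrix.one_mulVec] at this
    exact this
  have hwa : ∀ q, ∀ a ∈ A', (a : Matrix ι ι F) *ᵥ w q = (cs i₀ a (g q) * χ a) • w q := by
    intro q a ha
    change (a : Matrix ι ι F) *ᵥ ((g q : Matrix ι ι F) *ᵥ v) = _ • ((g q : Matrix ι ι F) *ᵥ v)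
    rw [Matrix.mulVec_mulVec, cs_mul i₀ (hcomm a (hA'R ha) _ (hgR q)), Matrix.smul_mulVec,
      ← Matrix.mulVec_mulVec, hχ1 a ha, Matrix.mulVec_smul, smul_smul]
  have hχ0 : ∀ a ∈ A', χ a ≠ 0 := by
    intro a ha h0
    have := hχ2 a ha
    rw [h0, zero_mul] at this
    exact zero_ne_one this
  have hli : LinearIndependent F w := by
    apply linearIndependent_of_joint (fun a : A' => Matrix.toLin' ((a : GL ι F) : Matrix ι ι F)) w hw0
      (fun q a => cs i₀ a (g q) * χ a)
    · intro q a
      rw [Matrix.toLin'_apply]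
      exact hwa q a a.2
    · intro q q' hqq
      obtain ⟨a, ha, hne'⟩ := hsep q q' hqq
      exact ⟨⟨a, ha⟩, fun h0 => hne' (mul_right_cancel₀ (hχ0 a ha) h0)⟩
  -- characters: `|R / C| ≥ |A / A ∩ Z| ≥ n`
  let J := A' ⧸ (scalars ι F).subgroupOf A'
  let aj : J → GL ι F := fun j => (j.out : A')
  have haj : ∀ j, aj j ∈ A' := fun j => (Quotient.out j).2
  let θ : J → (R →* F) := fun j =>
    { toFun := fun y => cs i₀ (aj j) y
      map_one' := (cs_eq_one_iff i₀ (hcomm _ (hA'R (haj j)) _ R.one_mem)).2 (by rw [mul_one, one_mul])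
      map_mul' := fun y z => cs_mul_right i₀ hcomm (hA'R (haj j)) y.2 z.2 }
  have hθinj : Function.Injective θ := by
    intro j j' hjj
    have h1 : (aj j)⁻¹ * aj j' ∈ scalars ι F := by
      apply mem_scalars_of_comm' h
      intro y hy
      have h2 : cs i₀ (aj j) y = cs i₀ (aj j') y := congrArg (fun φ : R →* F => φ ⟨y, hy⟩) hjj
      have h3 := cs_mul i₀ (hcomm _ (hA'R (haj j)) y hy)
      have h4 := cs_mul i₀ (hcomm _ (hA'R (haj j')) y hy)
      -- commutators are equal scalars
      have h5 : aj j * y * (aj j)⁻¹ * y⁻¹ = aj j' * y * (aj j')⁻¹ * y⁻¹ := by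
        apply Units.ext
        rw [cs_spec i₀ (hcomm _ (hA'R (haj j)) y hy), cs_spec i₀ (hcomm _ (hA'R (haj j')) y hy), h2]
      have h6 : aj j * y * (aj j)⁻¹ = aj j' * y * (aj j')⁻¹ := mul_right_cancel h5
      calc (aj j)⁻¹ * aj j' * y = (aj j)⁻¹ * (aj j' * y * (aj j')⁻¹) * aj j' := by group
        _ = (aj j)⁻¹ * (aj j * y * (aj j)⁻¹) * aj j' := by rw [h6]
        _ = y * ((aj j)⁻¹ * aj j') := by group
    rw [← QuotientGroup.out_eq' j, ← QuotientGroup.out_eq' j', QuotientGroup.eq, Subgroup.mem_subgroupOf]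
    exact h1
  have hθli : LinearIndependent F (fun j : J => (θ j : R → F)) :=
    (linearIndependent_monoidHom R F).comp θ hθinj
  let L : ((R ⧸ C) → F) →ₗ[F] (R → F) :=
    { toFun := fun φ y => φ (QuotientGroup.mk y)
      map_add' := fun _ _ => rfl
      map_smul' := fun _ _ => rfl }
  let θ' : J → ((R ⧸ C) → F) := fun j q => cs i₀ (aj j) (g q)
  have hθ' : ∀ j, L (θ' j) = (θ j : R → F) := by
    intro j
    funext y
    exact (hcsq (aj j) (haj j) y).symm
  have hθ'li : LinearIndependent F θ' := by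
    apply LinearIndependent.of_comp L
    have : (L ∘ θ') = fun j : J => (θ j : R → F) := funext hθ'
    rw [this]
    exact hθli
  have hJ1 : Nat.card J ≤ Nat.card (R ⧸ C) := by
    have h1 := hθ'li.fintype_card_le_finrank
    rw [Module.finrank_fintype_fun_eq_card] at h1
    rw [Nat.card_eq_fintype_card, Nat.card_eq_fintype_card]
    exact h1
  have hsc : Nat.card ((scalars ι F).subgroupOf A') ≤ 2 := by
    -- scalar elements of `A'` are `± 1`
    have h1 : ∀ x : (scalars ι F).subgroupOf A', (((x : A') : GL ι F) : Matrix ι ι F) = 1 ∨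
        (((x : A') : GL ι F) : Matrix ι ι F) = -1 := by
      intro x
      obtain ⟨c, hc⟩ := (mem_scalars_iff _).1 (show ((x : A') : GL ι F) ∈ scalars ι F from x.2)
      have h2 := congrArg Units.val (hA'2 _ (x : A').2)
      rw [Units.val_mul, hc, Matrix.smul_mul, Matrix.one_mul, smul_smul, Units.val_one] at h2
      have h3 := congrFun (congrFun h2 i₀) i₀
      have h4 : (c : F) * c = 1 := by simpa using h3
      rcases mul_self_eq_one_iff.1 h4 with h5 | h5
      · left; rw [hc, h5, one_smul]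
      · right; rw [hc, h5, neg_one_smul]
    let φ : (scalars ι F).subgroupOf A' → Bool := fun x => decide ((((x : A') : GL ι F) : Matrix ι ι F) = 1)
    have hφ : Function.Injective φ := by
      intro x y hxy
      apply Subtype.ext
      apply Subtype.ext
      apply Units.ext
      by_cases hx : (((x : A') : GL ι F) : Matrix ι ι F) = 1
      · have : φ x = true := decide_eq_true hx
        rw [hxy] at this
        rw [hx, of_decide_eq_true this]
      · have hfx : φ x = false := decide_eq_false hx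
        rw [hxy] at hfx
        have hy := of_decide_eq_false hfx
        rw [(h1 x).resolve_left hx, (h1 y).resolve_left hy]
    have := Nat.card_le_card_of_injective φ hφ
    rw [Nat.card_eq_fintype_card (α := Bool), Fintype.card_bool] at this
    exact this
  have hJ2 : Fintype.card ι ≤ Nat.card J := by
    have h1 := Subgroup.card_eq_card_quotient_mul_card_subgroup ((scalars ι F).subgroupOf A')
    rw [hA'card] at h1
    rw [h1, pow_succ] at hcon
    have h2 : Nat.card J * Nat.card ((scalars ι F).subgroupOf A') ≤ Nat.card J * 2 :=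
      Nat.mul_le_mul_left _ hsc
    rw [hm]
    have h3 : 2 ^ m * 2 ≤ Nat.card J * 2 := le_trans hcon h2
    omega
  have hcardκ : Fintype.card (R ⧸ C) = Module.finrank F (ι → F) := by
    apply le_antisymm
    · exact hli.fintype_card_le_finrank
    · rw [Module.finrank_fintype_fun_eq_card, ← Nat.card_eq_fintype_card (α := R ⧸ C)]
      exact le_trans hJ2 hJ1
  have hspan : Submodule.span F (Set.range w) = ⊤ := hli.span_eq_top_of_card_eq_finrank' hcardκ
  -- `f v` vanishes on all `w q`
  have hfw : ∀ q, f v (w q) = 0 := by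
    intro q
    by_cases hq : q = QuotientGroup.mk 1
    · have : w q = v := by
        change ((if q = QuotientGroup.mk 1 then (1 : GL ι F) else (q.out : R) : GL ι F) : Matrix ι ι F) *ᵥ v = v
        rw [if_pos hq, Units.val_one, Matrix.one_mulVec]
      rw [this]
      exact hf.alternating v
    · obtain ⟨a, ha, hne'⟩ := hsep q (QuotientGroup.mk 1) hq
      have h1 : g (QuotientGroup.mk 1) = 1 := by
        change (if (QuotientGroup.mk 1 : R ⧸ C) = QuotientGroup.mk 1 then (1 : GL ι F) else _) = 1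
        rw [if_pos rfl]
      have h2 : cs i₀ a (1 : GL ι F) = 1 := by
        rw [cs_eq_one_iff i₀ (hcomm _ (hA'R ha) _ R.one_mem)]
        simp
      rw [h1, h2] at hne'
      have h3 := hfix (a : Matrix ι ι F) ⟨a, hA'R ha, rfl⟩ v (w q)
      rw [hχ1 a ha, hwa q a ha, hf.bilinear.smul_left, hf.bilinear.smul_right] at h3
      have h4 : (cs i₀ a (g q) - 1) * f v (w q) = 0 := by
        have := hχ2 a ha
        linear_combination h3 - cs i₀ a (g q) * f v (w q) * this
      exact (mul_eq_zero.1 h4).resolve_left (sub_ne_zero.2 hne')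
  have hfall : ∀ x, f v x = 0 := by
    intro x
    have hx : x ∈ Submodule.span F (Set.range w) := by rw [hspan]; trivial
    induction hx using Submodule.span_induction with
    | mem x hx =>
      obtain ⟨q, rfl⟩ := hx
      exact hfw q
    | zero =>
      have := hf.bilinear.smul_right 0 v 0
      rwa [zero_smul, zero_mul] at this
    | add x y _ _ hx hy => rw [hf.bilinear.add_right, hx, hy, add_zero]
    | smul c x _ hx => rw [hf.bilinear.smul_right, hx, mul_zero]
  obtain ⟨_, x, hx⟩ := hf.nondegenerate v hv0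
  exact hx (hfall x)

end Cfsg.Agent.H920
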