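import Cfsg.Agent.H906.Cover_m3
import Cfsg.Agent.H920.Realise
import Mathlib
import Cfsg.Agent.H464.L2StageOne_m3
import Cfsg.Agent.ClassicalGeometry.AutPSL.Main
import Cfsg.Agent.H571.JGU
import Cfsg.Agent.ClassicalGeometry.GUBasic
import Cfsg.Agent.H912.FiveList
import Cfsg.Agent.FastGrp
import Cfsg.Agent.Prune
set_option linter.all false

section
prune_inst 0x7ffebdf96bb999dfdfff7e75a6dccdfc38959fffa6dff94bffe061ffabdf23024dc52b8d0de018fe1e96401410a87843f9ffdeffe86bfc7ffffdfff41ffbee5fe5f7b508511488340fbc2ff703f0678e7f3fffffffffffffffffffffffffffbeffbfffffffff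

-- part: H920/NineDefs
section
set_option linter.all false
open scoped Cfsg.Agent.FastGrp

/-!
# Dimension nine: tensor products of two 3-dimensional matrices (helper920)
-/

set_option autoImplicit false

namespace Cfsg.Agent.H920.Nine

open Cfsg Cfsg.Geo Matrix
open scoped Kronecker

variable {F : Type*} [Field F]

/-- `a ⊗ b` as a `9 × 9` matrix -/
def kron9 (a b : Matrix (Fin 3) (Fin 3) F) : Matrix (Fin 9) (Fin 9) F :=
  Matrix.reindex finProdFinEquiv finProdFinEquiv (a ⊗ₖ b)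

theorem kron9_apply (a b : Matrix (Fin 3) (Fin 3) F) (i j k l : Fin 3) :
    kron9 a b (finProdFinEquiv (i, j) : Fin (3 * 3)) (finProdFinEquiv (k, l) : Fin (3 * 3)) = a i k * b j l := by
  unfold kron9
  rw [Matrix.reindex_apply, Matrix.submatrix_apply, Equiv.symm_apply_apply, Equiv.symm_apply_apply]
  rfl

theorem kron9_mul (a b a' b' : Matrix (Fin 3) (Fin 3) F) : kron9 (a * a') (b * b') = kron9 a b * kron9 a' b' := by
  unfold kron9
  rw [Matrix.mul_kronecker_mul, Matrix.reindex_apply, Matrix.reindex_apply, Matrix.reindex_apply,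
    Matrix.submatrix_mul_equiv]

theorem kron9_one : kron9 (1 : Matrix (Fin 3) (Fin 3) F) 1 = 1 := by
  unfold kron9
  rw [Matrix.one_kronecker_one, Matrix.reindex_apply]
  exact Matrix.submatrix_one_equiv _

theorem trace_kron9 (a b : Matrix (Fin 3) (Fin 3) F) : (kron9 a b).trace = a.trace * b.trace := by
  unfold kron9
  rw [← Matrix.trace_kronecker]
  rw [Matrix.reindex_apply]
  exact Fintype.sum_equiv (finProdFinEquiv (m := 3) (n := 3)).symm _ _ (fun x => rfl)

end Cfsg.Agent.H920.Nine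
end

-- part: H920/NineField
section
set_option linter.all false
open scoped Cfsg.Agent.FastGrp

/-!
# Dimension nine: fields of definition of `N^σ ⊗ N^τ` (helper920)
-/

set_option autoImplicit false

namespace Cfsg.Agent.H920.Nine

open Cfsg Cfsg.Geo Matrix
open scoped Kronecker

theorem half_of_dvd {p s e j : ℕ} (hp : 2 ≤ p) (he : 0 < e) (hes : 2 * e ≤ s) (hj : 0 < j) (hjs : j < s)
    (h : (p ^ s - 1) ∣ (1 + p ^ j) * (p ^ e - 1)) : s = 2 * e := by
  have key : ∀ j, 0 < j → 2 * j ≤ s → (p ^ s - 1) ∣ (1 + p ^ j) * (p ^ e - 1) → s = 2 * e := by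
    intro j hj hj2 h
    by_contra hne
    have h1 : 0 < p ^ e - 1 := by
      have : 1 < p ^ e := Nat.one_lt_pow (by omega) (by omega)
      omega
    have h2 := Nat.le_of_dvd (Nat.mul_pos (by omega) h1) h
    have h3 : (1 + p ^ j) * (p ^ e - 1) + (1 + p ^ j) = p ^ e + p ^ (j + e) := by
      have h4 : p ^ e - 1 + 1 = p ^ e := by omega
      calc (1 + p ^ j) * (p ^ e - 1) + (1 + p ^ j) = (1 + p ^ j) * (p ^ e - 1 + 1) := by ring
        _ = p ^ e + p ^ (j + e) := by rw [h4, pow_add]; ring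
    have h5 : p ^ e ≤ p ^ (s - 1) := Nat.pow_le_pow_right (by omega) (by omega)
    have h6 : p ^ (j + e) ≤ p ^ (s - 1) := Nat.pow_le_pow_right (by omega) (by omega)
    have h7 : 2 * p ^ (s - 1) ≤ p ^ s := by
      have h8 : p ^ s = p ^ (s - 1) * p := by rw [← pow_succ]; congr 1; omega
      rw [h8, mul_comm]
      exact Nat.mul_le_mul_left _ hp
    have h8 : 0 < p ^ j := pow_pos (by omega) _
    omega
  by_cases hj2 : 2 * j ≤ s
  · exact key j hj hj2 h
  · refine key (s - j) (by omega) (by omega) ?_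
    have h1 : (p ^ s - 1) ∣ p ^ (s - j) * ((1 + p ^ j) * (p ^ e - 1)) := Dvd.dvd.mul_left h _
    have h2 : p ^ (s - j) * ((1 + p ^ j) * (p ^ e - 1)) =
        (1 + p ^ (s - j)) * (p ^ e - 1) + (p ^ s - 1) * (p ^ e - 1) := by
      have h3 : p ^ (s - j) * p ^ j = p ^ s := by rw [← pow_add]; congr 1; omega
      have h4 : 1 ≤ p ^ s := Nat.one_le_pow _ _ (by omega)
      have h5 : p ^ (s - j) * (1 + p ^ j) = (1 + p ^ (s - j)) + (p ^ s - 1) := by
        rw [mul_add, mul_one, h3]; omega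
      rw [← mul_assoc, h5, add_mul]
    rw [h2] at h1
    exact (Nat.dvd_add_left (Dvd.intro _ rfl)).1 h1

section emb

variable {E : Type*} {K : Type*} [Field E] [Finite E] [Field K]

/-- the image of an embedding of a finite field: the roots of `x ^ |E| = x` -/
theorem mem_range_of_pow (σ : E →+* K) {x : K} (hx : x ^ Nat.card E = x) : ∃ a, σ a = x := by
  classical
  have := Fintype.ofFinite E
  have hq : 1 < Nat.card E := Finite.one_lt_card
  have h2 := FiniteField.X_pow_card_sub_X_natDegree_eq K hq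
  have h3 : (Polynomial.X ^ Nat.card E - Polynomial.X : Polynomial K) ≠ 0 := by
    intro h0
    rw [h0, Polynomial.natDegree_zero] at h2
    omega
  set R := (Polynomial.X ^ Nat.card E - Polynomial.X : Polynomial K).roots.toFinset with hR
  have hmem : ∀ y : K, y ∈ R ↔ y ^ Nat.card E = y := by
    intro y
    rw [hR, Multiset.mem_toFinset, Polynomial.mem_roots h3, Polynomial.IsRoot.def, Polynomial.eval_sub,
      Polynomial.eval_pow, Polynomial.eval_X, sub_eq_zero]
  have hcard : R.card ≤ Nat.card E := by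
    refine (Multiset.toFinset_card_le _).trans ((Polynomial.card_roots' _).trans h2.le)
  have hsub : Finset.univ.image σ ⊆ R := by
    intro y hy
    obtain ⟨a, -, rfl⟩ := Finset.mem_image.1 hy
    rw [hmem, ← map_pow, Nat.card_eq_fintype_card, FiniteField.pow_card]
  have heq : Finset.univ.image σ = R := by
    refine Finset.eq_of_subset_of_card_le hsub ?_
    rw [Finset.card_image_of_injective _ σ.injective, Finset.card_univ, ← Nat.card_eq_fintype_card]
    exact hcard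
  have h5 : x ∈ Finset.univ.image σ := by rw [heq, hmem]; exact hx
  obtain ⟨a, -, ha⟩ := Finset.mem_image.1 h5
  exact ⟨a, ha⟩

/-- factorisation of an embedding through another one -/
theorem exists_factor {E' : Type*} [Field E'] [Finite E'] (hcard : Nat.card E = Nat.card E') (σ : E →+* K)
    (τ : E' →+* K) : ∃ ρ : E ≃+* E', ∀ a, τ (ρ a) = σ a := by
  have h1 : ∀ a : E, ∃ b : E', τ b = σ a := by
    intro a
    apply mem_range_of_pow
    have := Fintype.ofFinite E
    rw [← hcard, ← map_pow, Nat.card_eq_fintype_card, FiniteField.pow_card]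
  choose f hf using h1
  let g : E →+* E' :=
    { toFun := f
      map_one' := τ.injective (by rw [hf, map_one, map_one])
      map_mul' := fun a b => τ.injective (by rw [hf, map_mul, map_mul, hf, hf])
      map_zero' := τ.injective (by rw [hf, map_zero, map_zero])
      map_add' := fun a b => τ.injective (by rw [hf, map_add, map_add, hf, hf]) }
  have hbij : Function.Bijective g :=
    (Nat.bijective_iff_injective_and_card g).2 ⟨g.injective, hcard⟩
  exact ⟨RingEquiv.ofBijective g hbij, fun a => hf a⟩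

/-- two embeddings of a finite field differ by a power of the Frobenius -/
theorem exists_frob_emb {p : ℕ} [Fact p.Prime] [CharP E p] {s : ℕ} (hs : Nat.card E = p ^ s) (σ τ : E →+* K) :
    ∃ j < s, ∀ a, τ a = σ a ^ p ^ j := by
  obtain ⟨ρ, hρ⟩ := exists_factor rfl τ σ
  let _ : Algebra (ZMod p) E := ZMod.algebra E p
  have hcomm : ∀ r : ZMod p, ρ (algebraMap (ZMod p) E r) = algebraMap (ZMod p) E r := by
    intro r
    obtain ⟨n, rfl⟩ := ZMod.natCast_zmod_surjective r
    rw [map_natCast, map_natCast]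
  obtain ⟨i, hi⟩ := (FiniteField.bijective_frobeniusAlgEquivOfAlgebraic_pow (ZMod p) E).2
    (AlgEquiv.ofRingEquiv (f := ρ) hcomm)
  have hfin : Module.finrank (ZMod p) E = s := by
    have h3 := Module.natCard_eq_pow_finrank (K := ZMod p) (V := E)
    rw [hs, Nat.card_zmod] at h3
    exact (Nat.pow_right_injective (Fact.out (p := p.Prime)).two_le h3).symm
  refine ⟨i, hfin ▸ i.2, fun a => ?_⟩
  have h5 : ∀ j : ℕ, ((FiniteField.frobeniusAlgEquivOfAlgebraic (ZMod p) E) ^ j) a = a ^ p ^ j := by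
    intro j
    induction j with
    | zero => simp
    | succ j ih =>
      rw [pow_succ', AlgEquiv.mul_apply, ih, FiniteField.coe_frobeniusAlgEquivOfAlgebraic]
      simp only [ZMod.card]
      rw [← pow_mul, pow_succ]
  have h6 : ρ a = a ^ p ^ (i : ℕ) := by
    have h1 := DFunLike.congr_fun hi a
    have h3 : (AlgEquiv.ofRingEquiv (f := ρ) hcomm) a = ρ a := rfl
    rw [← h3, ← h1]
    exact h5 i
  rw [← hρ, h6, map_pow]

end emb

/-- `a ^ p ^ m = a` for all `a` in the field of order `p ^ n` implies `n ∣ m`. -/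
theorem dvd_of_pow_eq {F : Type*} [Field F] [Finite F] {p n m : ℕ} (hp : p.Prime)
    (hn : Nat.card F = p ^ n) (h : ∀ a : F, a ^ p ^ m = a) : n ∣ m := by
  obtain ⟨u, hu⟩ := IsCyclic.exists_ofOrder_eq_natCard (α := Fˣ)
  have hm1 : 1 ≤ p ^ m := Nat.one_le_pow _ _ hp.pos
  have h1 : u ^ (p ^ m - 1) = 1 := by
    have h3 : u ^ p ^ m = u := by
      apply Units.ext
      rw [Units.val_pow_eq_pow_val]
      exact h u
    have h5 : u * u ^ (p ^ m - 1) = u * 1 := by
      rw [← pow_succ', Nat.sub_add_cancel hm1, h3, mul_one]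
    exact mul_left_cancel h5
  have h3 := orderOf_dvd_of_pow_eq_one h1
  rw [hu, Nat.card_units, hn] at h3
  have h5 := Nat.pow_sub_one_gcd_pow_sub_one p n m
  rw [Nat.gcd_eq_left h3] at h5
  have h6 : p ^ n = p ^ n.gcd m := by
    have := Nat.one_le_pow n p hp.pos
    have := Nat.one_le_pow (n.gcd m) p hp.pos
    omega
  have h7 := Nat.pow_right_injective hp.two_le h6
  rw [h7]
  exact Nat.gcd_dvd_right n m

/-- `(a ^ (1 + p ^ j)) ^ p ^ e = a ^ (1 + p ^ j)` on the field of order `p ^ s` -/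
theorem half_of_pow {E : Type*} [Field E] [Finite E] {p s e j : ℕ} (hp : p.Prime) (hs : Nat.card E = p ^ s)
    (he : 0 < e) (hes : 2 * e ≤ s) (hj : 0 < j) (hjs : j < s)
    (h : ∀ a : E, (a * a ^ p ^ j) ^ p ^ e = a * a ^ p ^ j) : s = 2 * e := by
  obtain ⟨u, hu⟩ := IsCyclic.exists_ofOrder_eq_natCard (α := Eˣ)
  refine half_of_dvd hp.two_le he hes hj hjs ?_
  rw [← hs, ← Nat.card_units, ← hu]
  apply orderOf_dvd_of_pow_eq_one
  have h1 : (u * u ^ p ^ j) ^ p ^ e = u * u ^ p ^ j := by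
    apply Units.ext
    rw [Units.val_pow_eq_pow_val, Units.val_mul, Units.val_pow_eq_pow_val]
    exact h u
  have h2 : u * u ^ p ^ j = u ^ (1 + p ^ j) := by rw [pow_add, pow_one]
  rw [h2] at h1
  have hm1 : 1 ≤ p ^ e := Nat.one_le_pow _ _ hp.pos
  rw [pow_mul]
  have h5 : u ^ (1 + p ^ j) * (u ^ (1 + p ^ j)) ^ (p ^ e - 1) = u ^ (1 + p ^ j) * 1 := by
    rw [← pow_succ', Nat.sub_add_cancel hm1, h1, mul_one]
  exact mul_left_cancel h5

/-- the traces of `x` and `x⁻¹` are arbitrary -/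
theorem exists_trace {E : Type*} [Field E] (a b : E) :
    ∃ x : SpecialLinearGroup (Fin 3) E, x.1.trace = a ∧ (x⁻¹).1.trace = b := by
  have hdet : (!![0, 0, 1; 1, 0, -b; 0, 1, a] : Matrix (Fin 3) (Fin 3) E).det = 1 := by
    rw [Matrix.det_fin_three]
    simp
  refine ⟨⟨!![0, 0, 1; 1, 0, -b; 0, 1, a], hdet⟩, ?_, ?_⟩
  · simp [Matrix.trace_fin_three]
  · change (Matrix.adjugate !![0, 0, 1; 1, 0, -b; 0, 1, a]).trace = b
    rw [Matrix.adjugate_fin_three_of]
    simp [Matrix.trace_fin_three]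

end Cfsg.Agent.H920.Nine
end

-- part: H920/NineBase
section
prune_inst 0x100001000200000000002000000000100000000000000000000000000000000000000800000000020020000000010000000000000000000000000000000000000000000000000000000000000100000000000000000000000000000000000000000000000
set_option linter.all false
open scoped Cfsg.Agent.FastGrp

-- part: H920/NineSL
section
/-!
# Dimension nine: `P = SL_3(E)` acting as `N^σ ⊗ N^τ` or `N^σ ⊗ N*^τ` (helper920)
-/

set_option autoImplicit false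
set_option linter.unusedSectionVars false

namespace Cfsg.Agent.H920.Nine

open Cfsg Cfsg.Geo Matrix
open H915.LD (Core Soc tr SD Fr Cj)

universe u

variable {F : Type u} [Field F] [Finite F] {P : Subgroup (GL (Fin 9) F)} {E : Type*} [Field E] [Finite E]
  (p : ℕ) [hp : Fact p.Prime] [hFp : CharP F p] [hEp : CharP E p]

/-- type A : `N^σ ⊗ N^τ` -/
def TypA (φ : _root_.Matrix.SpecialLinearGroup (Fin 3) E →* GL (Fin 9) F) (σ τ : E →+* AlgebraicClosure F) : Prop :=
  ∀ x, algebraMap F (AlgebraicClosure F) ((φ x : Matrix (Fin 9) (Fin 9) F).trace) = σ (x.1.trace) * τ (x.1.trace)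

/-- type B : `N^σ ⊗ N*^τ` -/
def TypB (φ : _root_.Matrix.SpecialLinearGroup (Fin 3) E →* GL (Fin 9) F) (σ τ : E →+* AlgebraicClosure F) : Prop :=
  ∀ x, algebraMap F (AlgebraicClosure F) ((φ x : Matrix (Fin 9) (Fin 9) F).trace) = σ (x.1.trace) * τ ((x⁻¹).1.trace)

variable {φ : _root_.Matrix.SpecialLinearGroup (Fin 3) E →* GL (Fin 9) F} {σ τ : E →+* AlgebraicClosure F}

omit [Finite F] in
theorem algebraMap_inj {a b : F} (h : algebraMap F (AlgebraicClosure F) a = algebraMap F (AlgebraicClosure F) b) :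
    a = b := (algebraMap F (AlgebraicClosure F)).injective h

omit hp in
theorem exists_s : ∃ s : ℕ, 0 < s ∧ Nat.card E = p ^ s := by
  have := Fintype.ofFinite E
  obtain ⟨s, -, hs⟩ := FiniteField.card E p
  exact ⟨s, s.pos, by rw [Nat.card_eq_fintype_card, hs]⟩

include hEp in
theorem frob_pow {s : ℕ} (hs : Nat.card E = p ^ s) (a : E) : a ^ p ^ s = a := by
  have := Fintype.ofFinite E
  rw [← hs, Nat.card_eq_fintype_card, FiniteField.pow_card]

theorem fr_of_A (hφ : φ.range = P) (h : TypA φ σ τ) {s : ℕ} (hs : Nat.card E = p ^ s) : Fr P (p ^ s) := by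
  intro g hg
  rw [← hφ] at hg
  obtain ⟨x, rfl⟩ := hg
  apply algebraMap_inj
  rw [map_pow]
  unfold tr
  rw [h x, mul_pow, ← map_pow, ← map_pow, frob_pow p hs]

theorem fr_of_B (hφ : φ.range = P) (h : TypB φ σ τ) {s : ℕ} (hs : Nat.card E = p ^ s) : Fr P (p ^ s) := by
  intro g hg
  rw [← hφ] at hg
  obtain ⟨x, rfl⟩ := hg
  apply algebraMap_inj
  rw [map_pow]
  unfold tr
  rw [h x, mul_pow, ← map_pow, ← map_pow, frob_pow p hs, frob_pow p hs]

/-- the embeddings come from isomorphisms if the orders are equal -/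
theorem exists_lift (hcard : Nat.card E = Nat.card F) (σ : E →+* AlgebraicClosure F) :
    ∃ σ' : E ≃+* F, ∀ a, algebraMap F (AlgebraicClosure F) (σ' a) = σ a :=
  exists_factor hcard σ (algebraMap F (AlgebraicClosure F))

include p hp hFp hEp in
theorem card_B (hC : Core P) (hφ : φ.range = P) (h : TypB φ σ τ) : Nat.card E = Nat.card F := by
  obtain ⟨s, hs0, hs⟩ := exists_s (E := E) p
  have h1 := fr_of_B p hφ h hs
  have := Fintype.ofFinite F
  apply le_antisymm
  · -- `σ(E)` is contained in `F`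
    have h2 : ∀ a : E, ∃ b : F, algebraMap F (AlgebraicClosure F) b = σ a := by
      intro a
      obtain ⟨x, hx, hx'⟩ := exists_trace a 1
      refine ⟨_, (h x).trans ?_⟩
      rw [hx, hx', map_one, mul_one]
    choose f hf using h2
    refine Nat.card_le_card_of_injective f ?_
    intro a b hab
    apply σ.injective
    rw [← hf, ← hf, hab]
  · rw [hs, Nat.card_eq_fintype_card]
    exact hC.card_le p hs0.ne' h1

include p hp hFp hEp in
theorem card_A (hC : Core P) (hφ : φ.range = P) (hne : σ ≠ τ) (h : TypA φ σ τ) :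
    Nat.card E = Nat.card F ^ 2 ∨ Nat.card E = Nat.card F := by
  obtain ⟨s, hs0, hs⟩ := exists_s (E := E) p
  obtain ⟨e, he0, he⟩ := exists_s (E := F) p
  have h1 := fr_of_A p hφ h hs
  have hdvd : e ∣ s := dvd_of_pow_eq hp.out he (hC.pow_eq p h1)
  obtain ⟨j, hjs, hj⟩ := exists_frob_emb (p := p) hs σ τ
  have hj0 : 0 < j := by
    rcases Nat.eq_zero_or_pos j with h0 | h0
    · exfalso
      apply hne
      ext a
      rw [hj, h0, pow_zero, pow_one]
    · exact h0
  by_cases hes : s = e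
  · right; rw [hs, he, hes]
  · left
    have h2e : 2 * e ≤ s := by
      obtain ⟨c, rfl⟩ := hdvd
      have h3 : 2 ≤ c := by
        by_contra hc
        have h4 : c = 0 ∨ c = 1 := by omega
        rcases h4 with rfl | rfl <;> simp at hs0 hes
      nlinarith only [h3]
    have h3 := half_of_pow (E := E) hp.out hs he0 h2e hj0 hjs (by
      intro a
      apply σ.injective
      obtain ⟨x, hx, -⟩ := exists_trace a 1
      have h4 := h x
      rw [hx, hj, ← map_pow, ← map_mul] at h4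
      rw [map_pow, ← h4, ← map_pow, frob_pow (E := F) p he])
    rw [hs, he, h3, ← pow_mul, mul_comm]

/-- the unitary trace condition excludes type A -/
theorem not_cj_of_A (hφ : φ.range = P) (h : TypA φ σ τ) {Q : ℕ} (hQ : Q ≠ 0) : ¬ Cj P Q := by
  intro hcj
  obtain ⟨x, hx, hx'⟩ := exists_trace (E := E) 0 1
  have h1 := congrArg (algebraMap F (AlgebraicClosure F)) (hcj (φ x) (by rw [← hφ]; exact ⟨x, rfl⟩))
  rw [map_pow] at h1
  unfold tr at h1
  rw [h x, ← map_inv, h x⁻¹, hx, hx', map_zero, map_one, zero_mul, zero_pow hQ, map_one, one_mul] at h1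
  exact zero_ne_one h1

end Cfsg.Agent.H920.Nine
end

-- part: H920/NineForm
section
/-!
# Dimension nine: explicit form of `P` when `|E| = |F|` (helper920)
-/

set_option autoImplicit false
set_option linter.unusedSectionVars false

namespace Cfsg.Agent.H920.Nine

open Cfsg Cfsg.Geo Matrix
open H915.LD (Core Soc tr SD Fr Cj)

universe u

section general

variable {F : Type u} [Field F]

/-- `y ↦ y ⊗ τ y` -/
def kronHom (τ : F ≃+* F) : _root_.Matrix.SpecialLinearGroup (Fin 3) F →* GL (Fin 9) F :=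
  MonoidHom.toHomUnits
    { toFun := fun y => kron9 y.1 (y.1.map τ)
      map_one' := by
        change kron9 (1 : Matrix (Fin 3) (Fin 3) F) ((1 : Matrix (Fin 3) (Fin 3) F).map τ) = 1
        rw [Matrix.map_one _ (map_zero τ) (map_one τ), kron9_one]
      map_mul' := fun a b => by
        change kron9 (a.1 * b.1) ((a.1 * b.1).map τ) = _
        rw [Matrix.map_mul, kron9_mul] }

theorem kronHom_val (τ : F ≃+* F) (y : _root_.Matrix.SpecialLinearGroup (Fin 3) F) :
    ((kronHom τ y : GL (Fin 9) F) : Matrix (Fin 9) (Fin 9) F) = kron9 y.1 (y.1.map τ) := rfl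

/-- `y ↦ y ⊗ τ y⁻ᵀ` -/
def kronHom' (τ : F ≃+* F) : _root_.Matrix.SpecialLinearGroup (Fin 3) F →* GL (Fin 9) F :=
  MonoidHom.toHomUnits
    { toFun := fun y => kron9 y.1 (((y⁻¹).1.map τ)ᵀ)
      map_one' := by
        rw [inv_one]
        change kron9 (1 : Matrix (Fin 3) (Fin 3) F) (((1 : Matrix (Fin 3) (Fin 3) F).map τ)ᵀ) = 1
        rw [Matrix.map_one _ (map_zero τ) (map_one τ), Matrix.transpose_one, kron9_one]
      map_mul' := fun a b => by
        rw [_root_.mul_inv_rev]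
        change kron9 (a.1 * b.1) ((((b⁻¹).1 * (a⁻¹).1).map τ)ᵀ) = _
        rw [Matrix.map_mul, Matrix.transpose_mul, kron9_mul] }

theorem kronHom'_val (τ : F ≃+* F) (y : _root_.Matrix.SpecialLinearGroup (Fin 3) F) :
    ((kronHom' τ y : GL (Fin 9) F) : Matrix (Fin 9) (Fin 9) F) = kron9 y.1 (((y⁻¹).1.map τ)ᵀ) := rfl

theorem trace_map_ringEquiv {R S : Type*} [Semiring R] [Semiring S] {n : Type*} [Fintype n] (τ : R ≃+* S) (M : Matrix n n R) :
    (M.map τ).trace = τ M.trace := by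
  simp only [Matrix.trace, Matrix.diag, _root_.Matrix.map_apply, _root_.map_sum]

/-- a homomorphism with image `P` and the traces of `ρ` : `P` is conjugate to the image of `ρ` -/
theorem exists_conj_form [Finite F] {P : Subgroup (GL (Fin 9) F)} (hP : ActsAbsolutelyIrreducibly (matrixSet P))
    {G : Type*} [Group G] {ψ ρ : G →* GL (Fin 9) F} (hψ : ψ.range = P)
    (htr : ∀ y, (ψ y : Matrix (Fin 9) (Fin 9) F).trace = (ρ y : Matrix (Fin 9) (Fin 9) F).trace) :
    ∃ g : GL (Fin 9) F, ∀ y, y ∈ P ↔ ∃ x : G, (y : Matrix (Fin 9) (Fin 9) F) =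
      (g : Matrix (Fin 9) (Fin 9) F) * (ρ x : Matrix (Fin 9) (Fin 9) F) * ((g⁻¹ : GL (Fin 9) F) : Matrix (Fin 9) (Fin 9) F) := by
  obtain ⟨J, hJ⟩ := exists_conj_of_trace ψ ρ
    (by
      rw [← adjoin_eq_top hP]
      congr 1
      ext M
      constructor
      · rintro ⟨g, rfl⟩
        exact ⟨ψ g, by rw [← hψ]; exact ⟨g, rfl⟩, rfl⟩
      · rintro ⟨g, hg, rfl⟩
        rw [← hψ] at hg
        obtain ⟨x, rfl⟩ := hg
        exact ⟨x, rfl⟩) htr
  refine ⟨J⁻¹, fun y => ?_⟩
  have key : ∀ x, J⁻¹ * ρ x * J⁻¹⁻¹ = ψ x := by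
    intro x
    rw [hJ]
    group
  constructor
  · intro hy
    rw [← hψ] at hy
    obtain ⟨x, rfl⟩ := hy
    refine ⟨x, ?_⟩
    rw [← key x, Units.val_mul, Units.val_mul]
  · rintro ⟨x, hx⟩
    have h1 : y = J⁻¹ * ρ x * J⁻¹⁻¹ := by
      apply Units.ext
      rw [Units.val_mul, Units.val_mul]
      exact hx
    rw [h1, key, ← hψ]
    exact ⟨x, rfl⟩

end general

variable {F : Type u} [Field F] [Finite F] {P : Subgroup (GL (Fin 9) F)} {E : Type*} [Field E] [Finite E]
variable {φ : _root_.Matrix.SpecialLinearGroup (Fin 3) E →* GL (Fin 9) F} {σ τ : E →+* AlgebraicClosure F}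

theorem form_A (hC : Core P) (hφ : φ.range = P) (hne : σ ≠ τ) (h : TypA φ σ τ) (hcard : Nat.card E = Nat.card F) :
    ∃ (α : F ≃+* F) (g : GL (Fin 9) F), α ≠ RingEquiv.refl F ∧ ∀ y, y ∈ P ↔
      ∃ x : _root_.Matrix.SpecialLinearGroup (Fin 3) F, (y : Matrix (Fin 9) (Fin 9) F) =
        (g : Matrix (Fin 9) (Fin 9) F) * kron9 x.1 (x.1.map α) * ((g⁻¹ : GL (Fin 9) F) : Matrix (Fin 9) (Fin 9) F) := by
  obtain ⟨σ', hσ'⟩ := exists_lift hcard σ
  obtain ⟨τ', hτ'⟩ := exists_lift hcard τ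
  let m : _root_.Matrix.SpecialLinearGroup (Fin 3) F →* _root_.Matrix.SpecialLinearGroup (Fin 3) E :=
    SpecialLinearGroup.map (σ'.symm : F →+* E)
  have hm : Function.Surjective m := by
    intro x
    refine ⟨SpecialLinearGroup.map (σ' : E →+* F) x, ?_⟩
    apply Subtype.ext
    ext i j
    change σ'.symm (σ' (x.1 i j)) = _
    rw [σ'.symm_apply_apply]
  have hmt : ∀ y : _root_.Matrix.SpecialLinearGroup (Fin 3) F, (m y).1.trace = σ'.symm y.1.trace := by
    intro y
    exact trace_map_ringEquiv σ'.symm y.1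
  obtain ⟨g, hg⟩ := exists_conj_form hC.absIrred (ψ := φ.comp m) (ρ := kronHom (σ'.symm.trans τ'))
    (by rw [MonoidHom.range_comp, MonoidHom.range_eq_top.2 hm, ← MonoidHom.range_eq_map, hφ]) (by
      intro y
      apply algebraMap_inj
      rw [MonoidHom.comp_apply, h, hmt, kronHom_val, trace_kron9, trace_map_ringEquiv, map_mul, ← hσ', ← hτ',
        σ'.apply_symm_apply]
      rfl)
  refine ⟨σ'.symm.trans τ', g, ?_, hg⟩
  intro h1
  apply hne
  ext a
  rw [← hσ', ← hτ']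
  have h2 := RingEquiv.congr_fun h1 (σ' a)
  rw [RingEquiv.trans_apply, σ'.symm_apply_apply] at h2
  rw [h2]
  rfl

theorem form_B (hC : Core P) (hφ : φ.range = P) (hne : σ ≠ τ) (h : TypB φ σ τ) (hcard : Nat.card E = Nat.card F) :
    ∃ (α : F ≃+* F) (g : GL (Fin 9) F), α ≠ RingEquiv.refl F ∧ ∀ y, y ∈ P ↔
      ∃ x : _root_.Matrix.SpecialLinearGroup (Fin 3) F, (y : Matrix (Fin 9) (Fin 9) F) =
        (g : Matrix (Fin 9) (Fin 9) F) * kron9 x.1 (((x⁻¹).1.map α)ᵀ) *
          ((g⁻¹ : GL (Fin 9) F) : Matrix (Fin 9) (Fin 9) F) := by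
  obtain ⟨σ', hσ'⟩ := exists_lift hcard σ
  obtain ⟨τ', hτ'⟩ := exists_lift hcard τ
  let m : _root_.Matrix.SpecialLinearGroup (Fin 3) F →* _root_.Matrix.SpecialLinearGroup (Fin 3) E :=
    SpecialLinearGroup.map (σ'.symm : F →+* E)
  have hm : Function.Surjective m := by
    intro x
    refine ⟨SpecialLinearGroup.map (σ' : E →+* F) x, ?_⟩
    apply Subtype.ext
    ext i j
    change σ'.symm (σ' (x.1 i j)) = _
    rw [σ'.symm_apply_apply]
  have hmt : ∀ y : _root_.Matrix.SpecialLinearGroup (Fin 3) F, (m y).1.trace = σ'.symm y.1.trace := by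
    intro y
    exact trace_map_ringEquiv σ'.symm y.1
  obtain ⟨g, hg⟩ := exists_conj_form hC.absIrred (ψ := φ.comp m) (ρ := kronHom' (σ'.symm.trans τ'))
    (by rw [MonoidHom.range_comp, MonoidHom.range_eq_top.2 hm, ← MonoidHom.range_eq_map, hφ]) (by
      intro y
      apply algebraMap_inj
      rw [MonoidHom.comp_apply, h, ← map_inv, hmt, hmt, kronHom'_val, trace_kron9, Matrix.trace_transpose,
        trace_map_ringEquiv, map_mul, ← hσ', ← hτ', σ'.apply_symm_apply]
      rfl)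
  refine ⟨σ'.symm.trans τ', g, ?_, hg⟩
  intro h1
  apply hne
  ext a
  rw [← hσ', ← hτ']
  have h2 := RingEquiv.congr_fun h1 (σ' a)
  rw [RingEquiv.trans_apply, σ'.symm_apply_apply] at h2
  rw [h2]
  rfl

end Cfsg.Agent.H920.Nine
end

-- part: H464/RegularPart
section
/-!
# The trace of a matrix of finite order over a field of characteristic `p` is the trace of its `p`-regular part
(helper464; task 85 of the task market)
-/

set_option autoImplicit false
set_option linter.unusedSectionVars false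

namespace Cfsg.Agent.H464.Reg

open Matrix Polynomial

variable {ι F : Type*} [Fintype ι] [DecidableEq ι] [Field F] (p : ℕ) [Fact p.Prime] [CharP F p]

theorem expand_charpoly_pow (M : Matrix ι ι F) : expand F p (M ^ p).charpoly = M.charpoly ^ p := by
  rcases isEmpty_or_nonempty ι with h | h
  · simp [Matrix.charpoly]
  · unfold Matrix.charpoly
    have h1 : expand F p (M ^ p).charmatrix.det =
        ((expand F p : F[X] →+* F[X]).mapMatrix (charmatrix (M ^ p))).det := by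
      rw [← RingHom.map_det]
      rfl
    rw [h1, ← coe_detMonoidHom, ← (detMonoidHom : Matrix ι ι F[X] →* F[X]).map_pow]
    apply congr_arg det
    refine matPolyEquiv.injective ?_
    rw [map_pow, matPolyEquiv_charmatrix, sub_pow_char_of_commute, ← C_pow]
    · exact (id (matPolyEquiv_eq_X_pow_sub_C p M) : _)
    · exact (C M).commute_X

theorem charpoly_pow (M : Matrix ι ι F) : (M ^ p).charpoly = M.charpoly.map (frobenius F p) := by
  apply expand_injective (Fact.out : p.Prime).pos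
  rw [expand_charpoly_pow, ← map_frobenius_expand, map_expand]

theorem trace_pow (M : Matrix ι ι F) : (M ^ p).trace = M.trace ^ p := by
  rcases isEmpty_or_nonempty ι with h | h
  · have h1 : ∀ N : Matrix ι ι F, N.trace = 0 := fun N => by simp [Matrix.trace]
    rw [h1, h1, zero_pow (Fact.out : p.Prime).ne_zero]
  · rw [Matrix.trace_eq_neg_charpoly_coeff, Matrix.trace_eq_neg_charpoly_coeff, charpoly_pow, coeff_map,
      ← frobenius_def, map_neg]

end Cfsg.Agent.H464.Reg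
end

-- part: H571/JWeil
section
/-!
# Nontrivial `9`-dimensional representations of `SL₂(19)` in characteristic 2 (helper571)

* `span_top` : they are absolutely irreducible;
* `om` : the trace `τ` of `u 1` satisfies `τ² + τ + 1 = 0`;
* `trace_eq` : two of them with the same `τ` have the same character.
-/

set_option autoImplicit false
set_option linter.unusedSectionVars false

namespace Cfsg.Agent.H571.JWeil

open Matrix Module Cfsg Cfsg.Geo Cfsg.Agent.H464.Sl2

instance fact19 : Fact (Nat.Prime 19) := ⟨by norm_num⟩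

/-- `SL₂(19)` -/
abbrev S19 := _root_.Matrix.SpecialLinearGroup (Fin 2) (ZMod 19)

section Alg

variable {k : Type*} [Field k] [IsAlgClosed k] {V : Type*} [AddCommGroup V] [Module k V]
  [FiniteDimensional k V] (R : S19 →* Module.End k V) {ψ : AddChar (ZMod 19) k}
  (hψ : ψ.IsPrimitive) (hK : (Fintype.card (ZMod 19) : k) ≠ 0)

theorem card_sq : ∀ b : ZMod 19, b ≠ 0 →
    (Finset.univ.filter fun c : ZMod 19 => ∃ a : ZMod 19, a ≠ 0 ∧ a ^ 2 * b = c).card = 9 := by
  decide +kernel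

include hψ hK

theorem nine_le_sum (hR : R ≠ 1) :
    9 ≤ ∑ b ∈ Finset.univ.erase (0 : ZMod 19), finrank k (LinearMap.range (E R ψ b)) := by
  obtain ⟨b, hb, hne⟩ := exists_E_ne R hψ hK hR
  rw [← card_sq b hb, Finset.card_eq_sum_ones]
  have h1 : (Finset.univ.filter fun c : ZMod 19 => ∃ a : ZMod 19, a ≠ 0 ∧ a ^ 2 * b = c) ⊆
      Finset.univ.erase (0 : ZMod 19) := by
    intro c hc
    obtain ⟨-, a, ha, rfl⟩ := Finset.mem_filter.1 hc
    exact Finset.mem_erase.2 ⟨mul_ne_zero (pow_ne_zero 2 ha) hb, Finset.mem_univ _⟩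
  refine le_trans ?_ (Finset.sum_le_sum_of_subset h1)
  refine Finset.sum_le_sum fun c hc => ?_
  obtain ⟨-, a, ha, rfl⟩ := Finset.mem_filter.1 hc
  have h2 := finrank_E_mul_sq R (ψ := ψ) (Units.mk0 a ha) b
  rw [Units.val_mk0] at h2
  rw [h2]
  omega

theorem nine_le_finrank (hR : R ≠ 1) : 9 ≤ finrank k V := by
  have h1 := finrank_eq_sum R hψ hK
  have h2 := nine_le_sum R hψ hK hR
  rw [h1]
  exact h2.trans (Finset.sum_le_sum_of_subset (Finset.subset_univ _))

theorem E_zero (hR : R ≠ 1) (h9 : finrank k V = 9) : E R ψ 0 = 0 := by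
  have h1 := finrank_eq_sum R hψ hK
  have h2 := nine_le_sum R hψ hK hR
  rw [h9, ← Finset.add_sum_erase _ _ (Finset.mem_univ (0 : ZMod 19))] at h1
  have h3 : finrank k (LinearMap.range (E R ψ 0)) = 0 := by omega
  rw [Submodule.finrank_eq_zero] at h3
  exact LinearMap.range_eq_bot.1 h3

/-- restriction to an invariant subspace -/
noncomputable def res (W : Submodule k V) (hW : ∀ g, ∀ w ∈ W, R g w ∈ W) : S19 →* Module.End k W where
  toFun g := (R g).restrict (hW g)
  map_one' := by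
    ext w
    simp only [_root_.map_one, _root_.LinearMap.coe_restrict_apply, _root_.Module.End.one_apply]
  map_mul' g h := by
    ext w
    simp only [_root_.map_mul, _root_.LinearMap.coe_restrict_apply, _root_.Module.End.mul_apply]

theorem irred (hR : R ≠ 1) (h9 : finrank k V = 9) (W : Submodule k V)
    (hW : ∀ g, ∀ w ∈ W, R g w ∈ W) : W = ⊥ ∨ W = ⊤ := by
  by_cases h : res R W hW = 1
  · left
    rw [eq_bot_iff]
    intro w hw
    have h1 : ∀ x, R (u x) w = w := by
      intro x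
      have h2 := congrArg (fun f => ((f ⟨w, hw⟩ : W) : V)) (DFunLike.congr_fun h (u x))
      exact h2
    have h2 : E R ψ 0 w = w := by
      unfold E
      rw [LinearMap.smul_apply, LinearMap.sum_apply]
      have h3 : ∀ x ∈ (Finset.univ : Finset (ZMod 19)), (ψ (-(0 * x)) • R (u x)) w = w := by
        intro x _
        rw [LinearMap.smul_apply, zero_mul, neg_zero, AddChar.map_zero_eq_one, one_smul, h1]
      rw [Finset.sum_congr rfl h3, Finset.sum_const, Finset.card_univ, ← Nat.cast_smul_eq_nsmul k,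
        smul_smul, inv_mul_cancel₀ hK, one_smul]
    rw [E_zero R hψ hK hR h9, LinearMap.zero_apply] at h2
    exact h2.symm
  · right
    have h1 := nine_le_finrank (res R W hW) hψ hK h
    apply Submodule.eq_top_of_finrank_eq
    have h2 := Submodule.finrank_le W
    omega

theorem scalar_of_commute (hR : R ≠ 1) (h9 : finrank k V = 9) (M : Module.End k V)
    (hM : ∀ g, M * R g = R g * M) : ∃ c : k, M = c • 1 := by
  have hnt : Nontrivial V := by
    apply Module.nontrivial_of_finrank_pos (R := k)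
    omega
  obtain ⟨c, hc⟩ := Module.End.exists_eigenvalue M
  refine ⟨c, ?_⟩
  have h1 := irred R hψ hK hR h9 (Module.End.eigenspace M c) (by
    intro g w hw
    rw [Module.End.mem_eigenspace_iff] at hw ⊢
    rw [← Module.End.mul_apply, hM, Module.End.mul_apply, hw, map_smul])
  rcases h1 with h1 | h1
  · exact absurd h1 hc
  · ext v
    have h2 : v ∈ Module.End.eigenspace M c := by rw [h1]; trivial
    rw [Module.End.mem_eigenspace_iff] at h2
    rw [h2]
    simp

end Alg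

section Fld

variable {F : Type*} [Field F] [CharP F 2] (ρ : S19 →* GL (Fin 9) F)

theorem card_ne (k : Type*) [Field k] [CharP k 2] : (Fintype.card (ZMod 19) : k) ≠ 0 := by
  rw [ZMod.card]
  intro h
  have h1 := (CharP.cast_eq_zero_iff k 2 19).1 h
  omega

/-- the extension to `k` as a matrix representation -/
noncomputable def extG (k : Type*) [Field k] [Algebra F k] : S19 →* GL (Fin 9) k :=
  (GeneralLinearGroup.map (algebraMap F k)).comp ρ

theorem extG_coe (k : Type*) [Field k] [Algebra F k] (g : S19) :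
    (extG ρ k g : Matrix (Fin 9) (Fin 9) k) = (ρ g : Matrix (Fin 9) (Fin 9) F).map (algebraMap F k) := rfl

theorem absIrr_ext (k : Type*) [Field k] [IsAlgClosed k] [Algebra F k] [CharP k 2] (hρ : ρ ≠ 1) :
    ActsAbsolutelyIrreducibly (matrixSet (extG ρ k).range) := by
  have hKk := card_ne k
  obtain ⟨ψ, hψ⟩ := exists_prim (K := ZMod 19) hKk
  have hne := ext_ne_one ρ k hρ
  have h9 : finrank k (Fin 9 → k) = 9 := Module.finrank_fin_fun k
  constructor
  · intro W hW
    apply irred (_root_.Cfsg.Agent.H464.Sl2.ext ρ k) hψ hKk hne h9 W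
    intro g w hw
    have h1 := hW (extG ρ k g : Matrix (Fin 9) (Fin 9) k) ⟨_, ⟨g, rfl⟩, rfl⟩
    exact h1 (Submodule.mem_map_of_mem hw)
  · intro M hM
    obtain ⟨c, hc⟩ := scalar_of_commute (_root_.Cfsg.Agent.H464.Sl2.ext ρ k) hψ hKk hne h9 (Matrix.toLin' M) (by
      intro g
      have h1 := hM (extG ρ k g : Matrix (Fin 9) (Fin 9) k) ⟨_, ⟨g, rfl⟩, rfl⟩
      rw [extG_coe] at h1
      rw [ext_apply]
      change Matrix.toLin' M ∘ₗ Matrix.toLin' _ = Matrix.toLin' _ ∘ₗ Matrix.toLin' M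
      rw [← Matrix.toLin'_mul, ← Matrix.toLin'_mul, h1])
    refine ⟨c, ?_⟩
    apply Matrix.toLin'.injective
    rw [hc, map_smul, Matrix.toLin'_one]
    rfl

/-- **Absolute irreducibility.** -/
theorem span_top (hρ : ρ ≠ 1) :
    Submodule.span F (Set.range fun g : S19 => (ρ g : Matrix (Fin 9) (Fin 9) F)) = ⊤ := by
  classical
  set k := AlgebraicClosure F
  have hc : CharP k 2 := charP_of_injective_algebraMap (algebraMap F k).injective 2
  have h1 := span_eq_top (extG ρ k) (absIrr_ext ρ k hρ)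
  by_contra hne
  have h2 : ∃ f : Module.Dual F (Matrix (Fin 9) (Fin 9) F), f ≠ 0 ∧
      ∀ g : S19, f (ρ g : Matrix (Fin 9) (Fin 9) F) = 0 := by
    obtain ⟨f, hf, hf2⟩ := Submodule.exists_le_ker_of_lt_top _ (lt_top_iff_ne_top.2 hne)
    exact ⟨f, hf, fun g => hf2 (Submodule.subset_span ⟨g, rfl⟩)⟩
  obtain ⟨f, hf, hfg⟩ := h2
  -- the functional over `k`
  let f' : Matrix (Fin 9) (Fin 9) k →ₗ[k] k :=
    { toFun := fun X => ∑ i, ∑ j, algebraMap F k (f (Matrix.single i j 1)) * X i j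
      map_add' := by
        intro X Y
        simp only [Matrix.add_apply, mul_add, Finset.sum_add_distrib]
      map_smul' := by
        intro c X
        change (∑ i, ∑ j, algebraMap F k (f (Matrix.single i j 1)) * (c * X i j)) =
          c * ∑ i, ∑ j, algebraMap F k (f (Matrix.single i j 1)) * X i j
        rw [Finset.mul_sum]
        refine Finset.sum_congr rfl fun i _ => ?_
        rw [Finset.mul_sum]
        refine Finset.sum_congr rfl fun j _ => ?_
        ring }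
  have hf' : ∀ X : Matrix (Fin 9) (Fin 9) F, f' (X.map (algebraMap F k)) = algebraMap F k (f X) := by
    intro X
    change (∑ i, ∑ j, algebraMap F k (f (Matrix.single i j 1)) * (algebraMap F k (X i j))) = _
    conv_rhs => rw [Matrix.matrix_eq_sum_single X]
    rw [map_sum, map_sum]
    refine Finset.sum_congr rfl fun i _ => ?_
    rw [map_sum, map_sum]
    refine Finset.sum_congr rfl fun j _ => ?_
    have h3 : Matrix.single i j (X i j) = X i j • (Matrix.single i j 1 : Matrix (Fin 9) (Fin 9) F) := by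
      rw [Matrix.smul_single, smul_eq_mul, mul_one]
    rw [h3, map_smul, smul_eq_mul, map_mul, mul_comm]
  have hz : f' = 0 := by
    have h4 : ⊤ ≤ LinearMap.ker f' := by
      rw [← h1, Submodule.span_le]
      rintro _ ⟨g, rfl⟩
      change f' (extG ρ k g : Matrix (Fin 9) (Fin 9) k) = 0
      rw [extG_coe, hf', hfg, map_zero]
    exact LinearMap.ker_eq_top.1 (top_le_iff.1 h4)
  apply hf
  apply LinearMap.ext
  intro X
  have h5 := hf' X
  rw [hz, LinearMap.zero_apply] at h5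
  exact (algebraMap F k).injective (by rw [← h5, LinearMap.zero_apply, map_zero])

theorem absIrr (hρ : ρ ≠ 1) : ActsAbsolutelyIrreducibly (matrixSet ρ.range) := by
  apply Cfsg.Agent.H919.absIrr_of_adjoin_eq_top
  rw [eq_top_iff]
  intro X _
  have hX : X ∈ Submodule.span F (Set.range fun g : S19 => (ρ g : Matrix (Fin 9) (Fin 9) F)) := by
    rw [span_top ρ hρ]; trivial
  refine Submodule.span_induction ?_ ?_ ?_ ?_ hX
  · rintro _ ⟨g, rfl⟩
    exact Algebra.subset_adjoin ⟨_, ⟨g, rfl⟩, rfl⟩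
  · exact Subalgebra.zero_mem _
  · intro x y _ _ hx hy
    exact Subalgebra.add_mem _ hx hy
  · intro c x _ hx
    exact Subalgebra.smul_mem _ hx c

/-! ### traces -/

theorem conj_t (a : (ZMod 19)ˣ) (x : ZMod 19) : t a * u x * (t a)⁻¹ = u ((a : ZMod 19) ^ 2 * x) := by
  rw [t_mul_u, mul_inv_cancel_right]

theorem trace_conj (g h : S19) : (ρ (g * h * g⁻¹) : Matrix (Fin 9) (Fin 9) F).trace =
    (ρ h : Matrix (Fin 9) (Fin 9) F).trace := by
  rw [map_mul, map_mul, Units.val_mul, Units.val_mul, Matrix.trace_mul_comm, ← mul_assoc,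
    ← Units.val_mul, ← map_mul, inv_mul_cancel, map_one, Units.val_one, one_mul]

theorem trace_sq_mul {a : ZMod 19} (ha : a ≠ 0) (x : ZMod 19) :
    (ρ (u (a ^ 2 * x)) : Matrix (Fin 9) (Fin 9) F).trace = (ρ (u x) : Matrix (Fin 9) (Fin 9) F).trace := by
  have h := conj_t (Units.mk0 a ha) x
  rw [Units.val_mk0] at h
  rw [← h, trace_conj]

theorem trace_two_mul (x : ZMod 19) : (ρ (u (2 * x)) : Matrix (Fin 9) (Fin 9) F).trace =
    (ρ (u x) : Matrix (Fin 9) (Fin 9) F).trace ^ 2 := by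
  have h2 : Fact (Nat.Prime 2) := ⟨Nat.prime_two⟩
  rw [two_mul, u_add, map_mul, Units.val_mul, ← sq]
  exact Cfsg.Agent.H464.Reg.trace_pow 2 _

theorem cases : ∀ x : ZMod 19, x = 0 ∨ (∃ a : ZMod 19, a ≠ 0 ∧ a ^ 2 * 1 = x) ∨
    (∃ a : ZMod 19, a ≠ 0 ∧ a ^ 2 * (2 * 1) = x) := by
  decide +kernel

/-- The trace at `u x` is a function of the trace at `u 1`. -/
theorem trace_u_eq (x : ZMod 19) : (ρ (u x) : Matrix (Fin 9) (Fin 9) F).trace =
    if x = 0 then 1 else if (∃ a : ZMod 19, a ≠ 0 ∧ a ^ 2 * 1 = x) then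
      (ρ (u 1) : Matrix (Fin 9) (Fin 9) F).trace else (ρ (u 1) : Matrix (Fin 9) (Fin 9) F).trace ^ 2 := by
  by_cases h0 : x = 0
  · rw [if_pos h0, h0, u_zero, map_one, Units.val_one, Matrix.trace_one, Fintype.card_fin]
    have h2 : (2 : F) = 0 := by
      have := CharP.cast_eq_zero F 2
      exact_mod_cast this
    have : ((9 : ℕ) : F) = 4 * 2 + 1 := by norm_num
    rw [this, h2, mul_zero, zero_add]
  · rw [if_neg h0]
    by_cases h1 : ∃ a : ZMod 19, a ≠ 0 ∧ a ^ 2 * 1 = x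
    · rw [if_pos h1]
      obtain ⟨a, ha, rfl⟩ := h1
      rw [trace_sq_mul ρ ha]
    · rw [if_neg h1]
      rcases cases x with h | h | ⟨a, ha, rfl⟩
      · exact absurd h h0
      · exact absurd h h1
      · rw [trace_sq_mul ρ ha, trace_two_mul]

theorem sum_trace (hρ : ρ ≠ 1) : ∑ x : ZMod 19, (ρ (u x) : Matrix (Fin 9) (Fin 9) F).trace = 0 := by
  set k := AlgebraicClosure F
  have hc : CharP k 2 := charP_of_injective_algebraMap (algebraMap F k).injective 2
  have hKk := card_ne k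
  obtain ⟨ψ, hψ⟩ := exists_prim (K := ZMod 19) hKk
  have h1 := E_zero (_root_.Cfsg.Agent.H464.Sl2.ext ρ k) hψ hKk (ext_ne_one ρ k hρ) (Module.finrank_fin_fun k)
  have h2 := trace_E_eq (_root_.Cfsg.Agent.H464.Sl2.ext ρ k) ψ 0
  rw [h1, map_zero] at h2
  have h3 : ∀ x : ZMod 19, ψ (-(0 * x)) * LinearMap.trace k _ (_root_.Cfsg.Agent.H464.Sl2.ext ρ k (u x)) =
      algebraMap F k ((ρ (u x) : Matrix (Fin 9) (Fin 9) F).trace) := by
    intro x
    rw [zero_mul, neg_zero, AddChar.map_zero_eq_one, one_mul, trace_ext]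
  rw [Finset.sum_congr rfl fun x _ => h3 x, ← map_sum] at h2
  have h4 := (mul_eq_zero.1 h2.symm).resolve_left (inv_ne_zero hKk)
  exact (algebraMap F k).injective (by rw [h4, map_zero])

theorem card_a : (Finset.univ.filter fun x : ZMod 19 => x = 0).card = 1 ∧
    ((Finset.univ.filter fun x : ZMod 19 => ¬ x = 0).filter
      fun x => ∃ a : ZMod 19, a ≠ 0 ∧ a ^ 2 * 1 = x).card = 9 ∧
    ((Finset.univ.filter fun x : ZMod 19 => ¬ x = 0).filter
      fun x => ¬ ∃ a : ZMod 19, a ≠ 0 ∧ a ^ 2 * 1 = x).card = 9 := by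
  decide +kernel

/-- The trace `τ` of `u 1` is a primitive cube root of unity. -/
theorem om (hρ : ρ ≠ 1) : (ρ (u 1) : Matrix (Fin 9) (Fin 9) F).trace ^ 2 +
    (ρ (u 1) : Matrix (Fin 9) (Fin 9) F).trace + 1 = 0 := by
  have h := sum_trace ρ hρ
  rw [Finset.sum_congr rfl fun x _ => trace_u_eq ρ x, Finset.sum_ite, Finset.sum_ite,
    Finset.sum_const, Finset.sum_const, Finset.sum_const, card_a.1, card_a.2.1, card_a.2.2] at h
  have h2 : (2 : F) = 0 := by
    have := CharP.cast_eq_zero F 2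
    exact_mod_cast this
  simp only [nsmul_eq_mul] at h
  push_cast at h
  linear_combination h - (4 * (ρ (u 1) : Matrix (Fin 9) (Fin 9) F).trace +
    4 * (ρ (u 1) : Matrix (Fin 9) (Fin 9) F).trace ^ 2) * h2

/-- The central involution acts trivially. -/
theorem central (hρ : ρ ≠ 1) : (ρ (t (-1)) : Matrix (Fin 9) (Fin 9) F) = (1 : F) • 1 := by
  obtain ⟨c, hc2, hc⟩ := exists_central ρ (absIrr ρ hρ) (by norm_num)
  have h2 : (2 : F) = 0 := by
    have := CharP.cast_eq_zero F 2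
    exact_mod_cast this
  have h3 : (c - 1) * (c - 1) = 0 := by linear_combination hc2 + (1 - c) * h2
  have h4 : c = 1 := sub_eq_zero.1 (mul_self_eq_zero.1 h3)
  rw [hc, h4]

/-- **Uniqueness of the character.** -/
theorem trace_eq (ρ₁ ρ₂ : S19 →* GL (Fin 9) F) (h₁ : ρ₁ ≠ 1) (h₂ : ρ₂ ≠ 1)
    (h : (ρ₁ (u 1) : Matrix (Fin 9) (Fin 9) F).trace = (ρ₂ (u 1) : Matrix (Fin 9) (Fin 9) F).trace)
    (g : S19) : (ρ₁ g : Matrix (Fin 9) (Fin 9) F).trace = (ρ₂ g : Matrix (Fin 9) (Fin 9) F).trace := by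
  refine weil_trace_eq ρ₁ ρ₂ (card_ne F) h₁ h₂ (span_top ρ₁ h₁) (span_top ρ₂ h₂) ?_ ?_ ?_ ?_ ?_ g
  · rw [ZMod.card]; norm_num
  · rw [ZMod.ringChar_zmod_n]; norm_num
  · rw [ZMod.card]; norm_num
  · intro x
    rw [trace_u_eq ρ₁ x, trace_u_eq ρ₂ x, h]
  · exact ⟨1, central ρ₁ h₁, central ρ₂ h₂⟩

/-- **Uniqueness of the representation.** -/
theorem exists_conj (ρ₁ ρ₂ : S19 →* GL (Fin 9) F) (h₁ : ρ₁ ≠ 1) (h₂ : ρ₂ ≠ 1)
    (h : (ρ₁ (u 1) : Matrix (Fin 9) (Fin 9) F).trace = (ρ₂ (u 1) : Matrix (Fin 9) (Fin 9) F).trace) :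
    ∃ B : GL (Fin 9) F, ∀ g, ρ₂ g = B * ρ₁ g * B⁻¹ := by
  obtain ⟨B, hB⟩ := Cfsg.Agent.H906.exists_conj_of_trace
    ((Units.coeHom (Matrix (Fin 9) (Fin 9) F)).comp ρ₁) ((Units.coeHom (Matrix (Fin 9) (Fin 9) F)).comp ρ₂)
    (span_top ρ₁ h₁) (span_top ρ₂ h₂) (trace_eq ρ₁ ρ₂ h₁ h₂ h)
  exact ⟨B, fun g => Units.ext (hB g)⟩

end Fld

end Cfsg.Agent.H571.JWeil
end

-- part: H571/JNorm
section
/-!
# The normaliser of `PSL₂(19)` in `GL₉(F)`, characteristic 2 (helper571)
-/

set_option autoImplicit false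
set_option linter.unusedSectionVars false

namespace Cfsg.Agent.H571.JNorm

open Matrix Cfsg Cfsg.Geo Cfsg.Agent.H464.Sl2 Cfsg.Agent.H571.JWeil
open Cfsg.Agent.ClassicalGeometry.AutPSL.Root (pr pr_surjective)
open Cfsg.Agent.ClassicalGeometry.AutPSL.Auto (cj fld lift lift_pr coe_cj)

/-- `PSL₂(19)` -/
abbrev L19 := ProjectiveSpecialLinearGroup (Fin 2) (ZMod 19)

theorem ringEquiv_eq (σ : ZMod 19 ≃+* ZMod 19) : σ = 1 := by
  ext x
  have h : (σ : ZMod 19 →+* ZMod 19) = RingHom.id _ := Subsingleton.elim _ _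
  exact congrArg (fun f => f x) h

theorem cj_eq {A : GL (Fin 2) (ZMod 19)} {S : S19} {x y : S19}
    (D : Matrix (Fin 2) (Fin 2) (ZMod 19)) (hS : (S : Matrix (Fin 2) (Fin 2) (ZMod 19)) = A * D)
    (hD : (x : Matrix (Fin 2) (Fin 2) (ZMod 19)) * D = D * y) : cj A x = S * y * S⁻¹ := by
  rw [eq_mul_inv_iff_mul_eq]
  apply Subtype.ext
  change (cj A x : Matrix (Fin 2) (Fin 2) (ZMod 19)) * (S : Matrix (Fin 2) (Fin 2) (ZMod 19)) =
    (S : Matrix (Fin 2) (Fin 2) (ZMod 19)) * (y : Matrix (Fin 2) (Fin 2) (ZMod 19))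
  have h1 : ((A⁻¹ : GL (Fin 2) (ZMod 19)) : Matrix (Fin 2) (Fin 2) (ZMod 19)) *
      (A : Matrix (Fin 2) (Fin 2) (ZMod 19)) = 1 := by
    rw [← Units.val_mul, inv_mul_cancel, Units.val_one]
  have h2 : (cj A x : Matrix (Fin 2) (Fin 2) (ZMod 19)) = (A : Matrix (Fin 2) (Fin 2) (ZMod 19)) *
      (x : Matrix (Fin 2) (Fin 2) (ZMod 19)) * ((A⁻¹ : GL (Fin 2) (ZMod 19)) : Matrix _ _ _) := coe_cj A x
  rw [h2, hS, Matrix.mul_assoc, ← Matrix.mul_assoc _ (A : Matrix (Fin 2) (Fin 2) (ZMod 19)) D, h1,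
    Matrix.one_mul, Matrix.mul_assoc, hD, Matrix.mul_assoc]

/-- Every automorphism of `PSL₂(19)` is inner or moves the class of `u 1` to the class of `u 2`. -/
theorem inner_or (α : MulAut L19) : (∃ S : S19, ∀ x : S19, α (pr x) = pr (S * x * S⁻¹)) ∨
    (∃ S : S19, α (pr (u 1)) = pr (S * u 2 * S⁻¹)) := by
  obtain ⟨A, σ, rfl⟩ := Cfsg.Agent.ClassicalGeometry.AutPSL.Main.surj_two 19 α
  rw [ringEquiv_eq σ, map_one, mul_one]
  have hdet : (A : Matrix (Fin 2) (Fin 2) (ZMod 19)).det ≠ 0 := by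
    intro h
    have := A.isUnit
    rw [Matrix.isUnit_iff_isUnit_det, h] at this
    exact not_isUnit_zero this
  rcases cases (A : Matrix (Fin 2) (Fin 2) (ZMod 19)).det with h | ⟨a, ha, h⟩ | ⟨a, ha, h⟩
  · exact absurd h hdet
  · left
    have h1 : ((A : Matrix (Fin 2) (Fin 2) (ZMod 19)) * (a⁻¹ • 1)).det = 1 := by
      rw [Matrix.det_mul, ← h, Matrix.det_smul, Matrix.det_one, Fintype.card_fin]
      field_simp
    refine ⟨⟨_, h1⟩, fun x => ?_⟩
    rw [lift_pr]
    congr 1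
    refine cj_eq (a⁻¹ • 1) rfl ?_
    rw [Matrix.mul_smul, Matrix.smul_mul, Matrix.mul_one, Matrix.one_mul]
  · right
    have h2 : (2 : ZMod 19) ≠ 0 := by decide
    have h1 : ((A : Matrix (Fin 2) (Fin 2) (ZMod 19)) * !![(2 * a)⁻¹, 0; 0, a⁻¹]).det = 1 := by
      rw [Matrix.det_mul, ← h, Matrix.det_fin_two_of]
      field_simp
      ring
    refine ⟨⟨_, h1⟩, ?_⟩
    rw [lift_pr]
    congr 1
    refine cj_eq !![(2 * a)⁻¹, 0; 0, a⁻¹] rfl ?_
    rw [u_coe, u_coe]
    ext i j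
    (revert i j; simp only [Matrix.mul_apply, Fin.sum_univ_two, _root_.Fin.forall_fin_succ, _root_.mul_inv_rev, _root_.Matrix.of_apply, _root_.Matrix.cons_val', _root_.Matrix.cons_val_fin_one, Fin.isValue, _root_.Matrix.cons_val_zero, _root_.Matrix.cons_val_one, _root_.MulZeroClass.mul_zero, _root_.add_zero, _root_.mul_one, _root_.Matrix.cons_val_succ, _root_.zero_add, _root_.forall_const, _root_.one_mul, _root_.MulZeroClass.zero_mul, _root_.implies_true, _root_.and_true, _root_.true_and]) <;> (repeat' with_reducible apply And.intro)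
    field_simp

section
variable {F : Type*} [Field F] [CharP F 2] (ρ : S19 →* GL (Fin 9) F)

theorem center_ker (hρ : ρ ≠ 1) : ∀ g ∈ Subgroup.center S19, ρ g = 1 := by
  intro g hg
  obtain ⟨r, hr, hg⟩ := Matrix.SpecialLinearGroup.mem_center_iff.1 hg
  rw [Fintype.card_fin] at hr
  rw [sq] at hr
  rcases mul_self_eq_one_iff.1 hr with rfl | rfl
  · have h1 : g = 1 := by
      apply Subtype.ext
      rw [← hg, map_one]
      rfl
    rw [h1, map_one]
  · have h1 : g = t (-1) := by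
      apply Subtype.ext
      rw [← hg]
      change _ = !![((-1 : (ZMod 19)ˣ) : ZMod 19), 0; 0, (((-1 : (ZMod 19)ˣ)⁻¹ : (ZMod 19)ˣ) : ZMod 19)]
      ext i j
      (revert i j; simp only [_root_.Fin.forall_fin_succ, _root_.Matrix.scalar_apply, _root_.Units.val_neg, _root_.Units.val_one, _root_.inv_neg, _root_.inv_one, _root_.Matrix.of_apply, _root_.Matrix.cons_val', _root_.Matrix.cons_val_fin_one, Fin.isValue, _root_.Matrix.cons_val_zero, _root_.Matrix.cons_val_succ, _root_.Fin.succ_zero_eq_one, _root_.IsEmpty.forall_iff, _root_.and_true, _root_.Matrix.diagonal_apply_eq, _root_.ne_eq, _root_.zero_ne_one, _root_.not_false_eq_true, _root_.Matrix.diagonal_apply_ne, _root_.and_self, _root_.Fin.succ_ne_zero, _root_.true_and])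
    rw [h1]
    apply Units.ext
    rw [central ρ hρ, one_smul, Units.val_one]

/-- the map on `PSL₂(19)` -/
noncomputable def bar (hρ : ρ ≠ 1) : L19 →* GL (Fin 9) F :=
  QuotientGroup.lift (Subgroup.center S19) ρ (center_ker ρ hρ)

theorem bar_pr (hρ : ρ ≠ 1) (g : S19) : bar ρ hρ (pr g) = ρ g := rfl

theorem bar_injective (hρ : ρ ≠ 1) (hker : ∀ g, ρ g = 1 → pr g = 1) :
    Function.Injective (bar ρ hρ) := by
  rw [injective_iff_map_eq_one]
  intro x hx
  obtain ⟨g, rfl⟩ := pr_surjective x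
  exact hker g hx

theorem bar_range (hρ : ρ ≠ 1) : (bar ρ hρ).range = ρ.range := by
  ext x
  constructor
  · rintro ⟨y, rfl⟩
    obtain ⟨g, rfl⟩ := pr_surjective y
    exact ⟨g, rfl⟩
  · rintro ⟨g, rfl⟩
    exact ⟨pr g, rfl⟩

/-- The automorphism of `PSL₂(19)` given by an element normalising the image. -/
theorem exists_aut (hρ : ρ ≠ 1) (hker : ∀ g, ρ g = 1 → pr g = 1) (h : GL (Fin 9) F)
    (hn : ∀ x ∈ ρ.range, h * x * h⁻¹ ∈ ρ.range) (hn' : ∀ x ∈ ρ.range, h⁻¹ * x * h ∈ ρ.range) :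
    ∃ α : MulAut L19, ∀ x, bar ρ hρ (α x) = h * bar ρ hρ x * h⁻¹ := by
  have hmap : (bar ρ hρ).range.map (MulAut.conj h).toMonoidHom = (bar ρ hρ).range := by
    rw [bar_range]
    apply le_antisymm
    · rintro _ ⟨x, hx, rfl⟩
      exact hn x hx
    · intro x hx
      refine ⟨h⁻¹ * x * h, hn' x hx, ?_⟩
      change h * (h⁻¹ * x * h) * h⁻¹ = x
      group
  let e : L19 ≃* (bar ρ hρ).range := MonoidHom.ofInjective (bar_injective ρ hρ hker)
  let f : (bar ρ hρ).range ≃* (bar ρ hρ).range :=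
    ((MulAut.conj h).subgroupMap (bar ρ hρ).range).trans (MulEquiv.subgroupCongr hmap)
  refine ⟨(e.trans f).trans e.symm, fun x => ?_⟩
  have h1 : e (((e.trans f).trans e.symm) x) = f (e x) := by
    rw [MulEquiv.trans_apply, MulEquiv.apply_symm_apply, MulEquiv.trans_apply]
  exact congrArg Subtype.val h1

/-- **The normaliser.** -/
theorem eq_smul_of_normalizes (hρ : ρ ≠ 1) (hker : ∀ g, ρ g = 1 → pr g = 1) (h : GL (Fin 9) F)
    (hn : ∀ x ∈ ρ.range, h * x * h⁻¹ ∈ ρ.range) (hn' : ∀ x ∈ ρ.range, h⁻¹ * x * h ∈ ρ.range) :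
    ∃ (g : S19) (c : F), (h : Matrix (Fin 9) (Fin 9) F) = c • (ρ g : Matrix (Fin 9) (Fin 9) F) := by
  obtain ⟨α, hα⟩ := exists_aut ρ hρ hker h hn hn'
  rcases inner_or α with ⟨S, hS⟩ | ⟨S, hS⟩
  · have h1 : ∀ x : S19, ρ S * ρ x * (ρ S)⁻¹ = h * ρ x * h⁻¹ := by
      intro x
      have h2 := hα (pr x)
      rw [hS, bar_pr, bar_pr, map_mul, map_mul, map_inv] at h2
      exact h2
    obtain ⟨c, hc⟩ := (absIrr ρ hρ).2 (((ρ S)⁻¹ * h : GL (Fin 9) F) : Matrix (Fin 9) (Fin 9) F) (by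
      rintro _ ⟨_, ⟨x, rfl⟩, rfl⟩
      change (((ρ S)⁻¹ * h : GL (Fin 9) F) : Matrix (Fin 9) (Fin 9) F) * (ρ x : Matrix (Fin 9) (Fin 9) F) =
        (ρ x : Matrix (Fin 9) (Fin 9) F) * (((ρ S)⁻¹ * h : GL (Fin 9) F) : Matrix (Fin 9) (Fin 9) F)
      rw [← Units.val_mul, ← Units.val_mul]
      congr 1
      have h2 := h1 x
      rw [eq_mul_inv_iff_mul_eq] at h2
      rw [mul_assoc, inv_mul_eq_iff_eq_mul, ← h2]
      simp only [mul_assoc])
    refine ⟨S, c, ?_⟩
    have h3 : h = ρ S * ((ρ S)⁻¹ * h) := by group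
    rw [h3, Units.val_mul, hc, Matrix.mul_smul, Matrix.mul_one]
  · exfalso
    have h1 := hα (pr (u 1))
    rw [hS, bar_pr, bar_pr, map_mul, map_mul, map_inv] at h1
    have h2 : (ρ (u 2) : Matrix (Fin 9) (Fin 9) F).trace = (ρ (u 1) : Matrix (Fin 9) (Fin 9) F).trace := by
      have h3 : ∀ A B : GL (Fin 9) F, ((A * B * A⁻¹ : GL (Fin 9) F) : Matrix (Fin 9) (Fin 9) F).trace =
          (B : Matrix (Fin 9) (Fin 9) F).trace := by
        intro A B
        rw [Units.val_mul, Units.val_mul, Matrix.trace_mul_comm, ← Matrix.mul_assoc, ← Units.val_mul,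
          inv_mul_cancel, Units.val_one, Matrix.one_mul]
      rw [← h3 (ρ S) (ρ (u 2)), h1, h3]
    have h3 := trace_two_mul ρ 1
    rw [mul_one, h2] at h3
    have h4 := om ρ hρ
    rw [← h3] at h4
    have h5 : (2 : F) = 0 := by
      have := CharP.cast_eq_zero F 2
      exact_mod_cast this
    have h6 : (1 : F) = 0 := by
      linear_combination h4 - (ρ (u 1) : Matrix (Fin 9) (Fin 9) F).trace * h5
    exact one_ne_zero h6

end

end Cfsg.Agent.H571.JNorm
end

-- part: H571/JMain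
section
/-!
# `L₂(19)` in `SU₉(2)` is contained in `3·J₃` (helper571)

`not_core` : a maximal subgroup of `SU₉(2)` has no residual core with socle `PSL₂(19)`.
-/

set_option autoImplicit false

namespace Cfsg.Agent.H571.JMain

open Matrix Cfsg Cfsg.Geo Cfsg.Spor Cfsg.Agent.H464.Sl2 Cfsg.Agent.H915.LD
open Cfsg.Agent.J3.Core Cfsg.Agent.J3.Elts
open Cfsg.Agent.H571.JWeil Cfsg.Agent.H571.JNorm Cfsg.Agent.H571.JUnit
open Cfsg.Agent.ClassicalGeometry.AutPSL.Root (pr)

universe u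

variable {F : Type u} [Field F]

/-- a bijection `F9 ≃ Fin 9` -/
noncomputable def e9 : F9 ≃ Fin 9 := Fintype.equivFinOfCardEq (by decide)

theorem trace_reindex (e : F9 ≃ Fin 9) (g : GL F9 F) :
    (glReindex e g : Matrix (Fin 9) (Fin 9) F).trace = (g : Matrix F9 F9 F).trace := by
  change (Matrix.reindex e e (g : Matrix F9 F9 F)).trace = _
  rw [Matrix.trace, Matrix.trace]
  exact Fintype.sum_equiv e.symm _ _ fun i => rfl

theorem det_reindex (e : F9 ≃ Fin 9) (g : GL F9 F) :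
    Matrix.GeneralLinearGroup.det (glReindex e g) = Matrix.GeneralLinearGroup.det g := by
  apply Units.ext
  rw [Matrix.GeneralLinearGroup.val_det_apply, Matrix.GeneralLinearGroup.val_det_apply]
  exact Matrix.det_reindex_self e (g : Matrix F9 F9 F)

theorem up_eq : Cfsg.Agent.H731.up (ZMod 19) 1 = u (1 : ZMod 19) := Subtype.ext rfl

/-- The embedding of `SL₂(19)/⟨-1⟩` in the reindexed `3·J₃`. -/
theorem exists_rho [Fintype F] (hF : Fintype.card F = 4) {ω : F} (H : Good ω) :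
    ∃ ρ : S19 →* GL (Fin 9) F, (∀ g, ρ g ∈ (threeJ3 F ω).map (glReindex e9).toMonoidHom) ∧
      (ρ (u 1) : Matrix (Fin 9) (Fin 9) F).trace = ω ∧ ρ ≠ 1 := by
  obtain ⟨φ, hφ⟩ := Cfsg.Agent.H571.JSub.exists_hom_J3 hF H
  have htr : ((glReindex e9).toMonoidHom.comp ((threeJ3 F ω).subtype.comp φ) (u 1) :
      Matrix (Fin 9) (Fin 9) F).trace = ω := by
    rw [← up_eq]
    exact (trace_reindex e9 _).trans hφ
  refine ⟨(glReindex e9).toMonoidHom.comp ((threeJ3 F ω).subtype.comp φ), fun g => ?_, htr, ?_⟩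
  · exact ⟨((φ g : threeJ3 F ω) : GL F9 F), (φ g).2, rfl⟩
  · intro h
    rw [h, MonoidHom.one_apply, Units.val_one, Matrix.trace_one, Fintype.card_fin] at htr
    apply H.ne_one
    rw [← htr]
    have h2 := H.two
    push_cast
    linear_combination 4 * h2

/-- A conjugating element between two unitary representations is unitary. -/
theorem conj_unitary [Finite F] {ρ₁ ρ₂ : S19 →* GL (Fin 9) F} [CharP F 2] (h₁ : ρ₁ ≠ 1)
    {σ : F ≃+* F} (hσ : ∀ x, σ x = x ^ 2) (hσσ : ∀ x, σ (σ x) = x)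
    (hu₁ : ∀ g, ρ₁ g ∈ UU (Fin 9) σ) (hu₂ : ∀ g, ρ₂ g ∈ UU (Fin 9) σ) {B : GL (Fin 9) F}
    (hB : ∀ g, ρ₂ g = B * ρ₁ g * B⁻¹) : B ∈ UU (Fin 9) σ := by
  have hBB : (B : Matrix (Fin 9) (Fin 9) F) * ((B⁻¹ : GL (Fin 9) F) : Matrix (Fin 9) (Fin 9) F) = 1 := by
    rw [← Units.val_mul, mul_inv_cancel, Units.val_one]
  have hinv : ∀ g : S19, (ρ₁ g : Matrix (Fin 9) (Fin 9) F)ᵀ *
      ((B : Matrix (Fin 9) (Fin 9) F)ᵀ * (B : Matrix (Fin 9) (Fin 9) F).map σ) *
      (ρ₁ g : Matrix (Fin 9) (Fin 9) F).map σ =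
      (B : Matrix (Fin 9) (Fin 9) F)ᵀ * (B : Matrix (Fin 9) (Fin 9) F).map σ := by
    intro g
    have h1 := mem_UU.1 (hu₂ g)
    have h2 : (B : Matrix (Fin 9) (Fin 9) F) * (ρ₁ g : Matrix (Fin 9) (Fin 9) F) =
        (ρ₂ g : Matrix (Fin 9) (Fin 9) F) * (B : Matrix (Fin 9) (Fin 9) F) := by
      rw [← Units.val_mul, ← Units.val_mul, hB g, inv_mul_cancel_right]
    calc (ρ₁ g : Matrix (Fin 9) (Fin 9) F)ᵀ *
        ((B : Matrix (Fin 9) (Fin 9) F)ᵀ * (B : Matrix (Fin 9) (Fin 9) F).map σ) *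
        (ρ₁ g : Matrix (Fin 9) (Fin 9) F).map σ
        = ((B : Matrix (Fin 9) (Fin 9) F) * (ρ₁ g : Matrix (Fin 9) (Fin 9) F))ᵀ *
          ((B : Matrix (Fin 9) (Fin 9) F) * (ρ₁ g : Matrix (Fin 9) (Fin 9) F)).map σ := by
          rw [Matrix.transpose_mul, Matrix.map_mul]
          simp only [Matrix.mul_assoc]
      _ = (B : Matrix (Fin 9) (Fin 9) F)ᵀ * ((ρ₂ g : Matrix (Fin 9) (Fin 9) F)ᵀ *
          (ρ₂ g : Matrix (Fin 9) (Fin 9) F).map σ) * (B : Matrix (Fin 9) (Fin 9) F).map σ := by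
          rw [h2, Matrix.transpose_mul, Matrix.map_mul]
          simp only [Matrix.mul_assoc]
      _ = _ := by rw [h1, Matrix.mul_one]
  obtain ⟨c, hc⟩ := Cfsg.Agent.H906.exists_smul_of_invariant (absIrr ρ₁ h₁) σ
    (M := (1 : Matrix (Fin 9) (Fin 9) F)) isUnit_one (by
      rintro _ ⟨g, rfl⟩
      rw [Matrix.mul_one]
      exact mem_UU.1 (hu₁ g)) (by
      rintro _ ⟨g, rfl⟩
      exact hinv g)
  have hMT : (((B : Matrix (Fin 9) (Fin 9) F)ᵀ * (B : Matrix (Fin 9) (Fin 9) F).map σ)ᵀ).map σ =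
      (B : Matrix (Fin 9) (Fin 9) F)ᵀ * (B : Matrix (Fin 9) (Fin 9) F).map σ := by
    have h3 : (((B : Matrix (Fin 9) (Fin 9) F)ᵀ).map σ).map σ = (B : Matrix (Fin 9) (Fin 9) F)ᵀ := by
      ext i j
      rw [Matrix.map_apply, Matrix.map_apply, hσσ]
    rw [Matrix.transpose_mul, Matrix.transpose_transpose, Matrix.map_mul, ← Matrix.transpose_map, h3]
  rw [hc] at hMT
  have hcc : σ c = c := by
    have h4 := congrFun (congrFun hMT 0) 0
    rw [Matrix.map_apply, Matrix.transpose_apply, Matrix.smul_apply, Matrix.one_apply_eq, smul_eq_mul,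
      mul_one] at h4
    exact h4
  have hc0 : c ≠ 0 := by
    rintro rfl
    rw [zero_smul] at hc
    have h5 : (B : Matrix (Fin 9) (Fin 9) F).map σ = 0 := by
      have h6 : IsUnit ((B : Matrix (Fin 9) (Fin 9) F))ᵀ := (Matrix.isUnit_transpose _).2 B.isUnit
      exact (h6.mul_right_eq_zero).1 hc
    have h7 : (1 : Matrix (Fin 9) (Fin 9) F).map σ = 0 := by
      rw [← hBB, Matrix.map_mul, h5, Matrix.zero_mul]
    have h8 := congrFun (congrFun h7 0) 0
    rw [Matrix.map_apply, Matrix.one_apply_eq, map_one] at h8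
    exact one_ne_zero h8
  rw [hσ] at hcc
  have hc1 : c = 1 := by
    have h9 : c * (c - 1) = 0 := by linear_combination hcc
    exact sub_eq_zero.1 ((mul_eq_zero.1 h9).resolve_left hc0)
  rw [mem_UU, hc, hc1, one_smul]

/-- The conjugate of `3·J₃`. -/
noncomputable def JJ (ω : F) (B : GL (Fin 9) F) : Subgroup (GL (Fin 9) F) :=
  ((threeJ3 F ω).map (glReindex e9).toMonoidHom).map (MulAut.conj B).toMonoidHom

theorem mem_JJ {ω : F} {B x : GL (Fin 9) F} : x ∈ JJ ω B ↔
    ∃ y ∈ threeJ3 F ω, x = B * glReindex e9 y * B⁻¹ := by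
  constructor
  · rintro ⟨_, ⟨y, hy, rfl⟩, rfl⟩
    exact ⟨y, hy, rfl⟩
  · rintro ⟨y, hy, rfl⟩
    exact ⟨_, ⟨y, hy, rfl⟩, rfl⟩

theorem card_JJ [Fintype F] (hF : Fintype.card F = 4) {ω : F} (H : Good ω) (B : GL (Fin 9) F) :
    Nat.card (JJ ω B) = 150698880 := by
  unfold JJ
  rw [Subgroup.card_map_of_injective (f := (MulAut.conj B).toMonoidHom) (MulAut.conj B).injective,
    Subgroup.card_map_of_injective (f := (glReindex e9 : GL F9 F ≃* GL (Fin 9) F).toMonoidHom)
      (glReindex e9).injective,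
    Cfsg.Agent.J3.Order.card_threeJ3 hF H]

theorem JJ_le [Fintype F] (hF : Fintype.card F = 4) {ω : F} (H : Good ω) {σ : F ≃+* F}
    (hσ : ∀ x, σ x = x ^ 2) {B : GL (Fin 9) F} (hB : B ∈ UU (Fin 9) σ) :
    JJ ω B ≤ Cfsg.GU 9 F 2 ⊓ specialLinear (Fin 9) F := by
  intro x hx
  obtain ⟨y, hy, rfl⟩ := mem_JJ.1 hx
  refine ⟨?_, ?_⟩
  · exact (mem_GU_iff hσ).2
      (mul_mem (mul_mem hB ((reindex_mem e9).2 (threeJ3_le hF H hσ hy))) (inv_mem hB))
  · change Matrix.GeneralLinearGroup.det (B * glReindex e9 y * B⁻¹) = 1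
    rw [map_mul, map_mul, map_inv, det_reindex, det_eq_one hF H hy, mul_one, mul_inv_cancel]

/-- Scalars are in the conjugate of `3·J₃`. -/
theorem scalar_mem_JJ [Fintype F] (hF : Fintype.card F = 4) {ω : F} (H : Good ω) (B : GL (Fin 9) F)
    {z : GL (Fin 9) F} {c : F} (hz : (z : Matrix (Fin 9) (Fin 9) F) = c • 1) : z ∈ JJ ω B := by
  have h2 : z * B = B * z := by
    apply Units.ext
    rw [Units.val_mul, Units.val_mul, hz, Matrix.smul_mul, Matrix.one_mul, Matrix.mul_smul, Matrix.mul_one]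
  refine mem_JJ.2 ⟨(glReindex e9).symm z, ?_, ?_⟩
  · refine scalar_mem hF H (c := c) ?_
    have h3 : ((glReindex e9).symm z : Matrix F9 F9 F) =
        (Matrix.reindexAlgEquiv F F e9).symm (z : Matrix (Fin 9) (Fin 9) F) := rfl
    rw [h3, hz, map_smul, map_one]
  · rw [MulEquiv.apply_symm_apply, ← h2, mul_inv_cancel_right]

/-- The product of scalars and the image of `SL₂(19)` is too small. -/
theorem card_small [Fintype F] (hF : Fintype.card F = 4) (ρ : S19 →* GL (Fin 9) F)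
    {J : Subgroup (GL (Fin 9) F)} (h : ∀ x ∈ J, ∃ (g : S19) (c : F),
      (x : Matrix (Fin 9) (Fin 9) F) = c • (ρ g : Matrix (Fin 9) (Fin 9) F)) :
    Nat.card J < 150698880 := by
  classical
  choose g c hgc using fun x : J => h x x.2
  have hinj : Function.Injective (fun x : J => (g x, c x)) := by
    intro x y hxy
    have h1 : g x = g y := congrArg Prod.fst hxy
    have h2 : c x = c y := congrArg Prod.snd hxy
    apply Subtype.ext
    apply Units.ext
    rw [hgc x, hgc y, h1, h2]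
  have h1 : Nat.card J ≤ Nat.card (S19 × F) := Nat.card_le_card_of_injective _ hinj
  have h2 : Nat.card S19 ≤ 130321 := by
    have h3 : Nat.card S19 ≤ Nat.card (Matrix (Fin 2) (Fin 2) (ZMod 19)) :=
      Nat.card_le_card_of_injective (fun g : S19 => (g : Matrix (Fin 2) (Fin 2) (ZMod 19)))
        Subtype.val_injective
    have h4 : Nat.card (Matrix (Fin 2) (Fin 2) (ZMod 19)) = 130321 := by
      unfold Matrix
      rw [Nat.card_fun, Nat.card_fun, Nat.card_eq_fintype_card, Nat.card_eq_fintype_card, ZMod.card,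
        Fintype.card_fin]
      norm_num
    omega
  rw [Nat.card_prod, Nat.card_eq_fintype_card (α := F), hF] at h1
  omega

theorem charP_two [Fintype F] (hF : Fintype.card F = 4) : CharP F 2 := by
  have h1 : ((4 : ℕ) : F) = 0 := by rw [← hF]; exact Nat.cast_card_eq_zero F
  have h2 : (2 : F) = 0 := by
    have h3 : (2 : F) * 2 = 0 := by
      have : ((4 : ℕ) : F) = 2 * 2 := by push_cast; norm_num
      rw [← this]; exact h1
    rcases mul_eq_zero.1 h3 with h | h <;> exact h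
  exact CharTwo.of_one_ne_zero_of_two_eq_zero one_ne_zero h2

/-- The Frobenius of `F_4`. -/
theorem exists_frob [Fintype F] (hF : Fintype.card F = 4) : ∃ σ : F ≃+* F, (∀ x, σ x = x ^ 2) ∧
    ∀ x, σ (σ x) = x := by
  have h2 := charP_two hF
  have hp : Fact (Nat.Prime 2) := ⟨Nat.prime_two⟩
  refine ⟨RingEquiv.ofBijective (frobenius F 2)
    (Finite.injective_iff_bijective.1 (frobenius F 2).injective), fun x => rfl, fun x => ?_⟩
  change (x ^ 2) ^ 2 = x
  rw [← pow_mul, show 2 * 2 = Fintype.card F by rw [hF], FiniteField.pow_card]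

/-- **`L₂(19)` in `SU₉(2)`.** -/
theorem not_core [Fintype F] (hF : Fintype.card F = 2 ^ 2) {H P : Subgroup (GL (Fin 9) F)}
    (hH : IsMaximalIn (Cfsg.GU 9 F 2 ⊓ specialLinear (Fin 9) F) H)
    (hP : IsResidualCore H P)
    (e : Soc P ≃* Matrix.ProjectiveSpecialLinearGroup (Fin 2) (ZMod 19)) : False := by
  have hF4 : Fintype.card F = 4 := by rw [hF]; norm_num
  have hchar := charP_two hF4
  have hC : Core P := core_of_residual hP
  obtain ⟨σ, hσ, hσσ⟩ := exists_frob hF4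
  obtain ⟨ρ, hρ, he⟩ := l2_rep hC (K := ZMod 19) (by rw [ZMod.card]; norm_num)
    (by rw [ZMod.card]; norm_num) e
  have hmem : ∀ g, ρ g ∈ P := fun g => by rw [← hρ]; exact ⟨g, rfl⟩
  have hker : ∀ g, ρ g = 1 → pr g = 1 := by
    intro g hg
    have h1 := he g (hmem g)
    have h2 : (⟨ρ g, hmem g⟩ : P) = 1 := Subtype.ext hg
    rw [h2, map_one, map_one] at h1
    exact h1.symm
  have hρ1 : ρ ≠ 1 := by
    intro h
    have h1 := hker (u 1) (by rw [h]; rfl)
    have h2 := (QuotientGroup.eq_one_iff (u (1 : ZMod 19))).1 h1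
    obtain ⟨r, -, hr⟩ := Matrix.SpecialLinearGroup.mem_center_iff.1 h2
    have h3 := congrFun (congrFun hr 0) 1
    rw [u_coe] at h3
    simp only [_root_.Fin.isValue, _root_.Matrix.scalar_apply, _root_.ne_eq, _root_.zero_ne_one, _root_.not_false_eq_true, _root_.Matrix.diagonal_apply_ne, _root_.Matrix.of_apply, _root_.Matrix.cons_val', _root_.Matrix.cons_val_one, _root_.Matrix.cons_val_fin_one, _root_.Matrix.cons_val_zero] at h3
  have hom := om ρ hρ1
  have hgood : Good ((ρ (u 1) : Matrix (Fin 9) (Fin 9) F).trace) := good_of_card hF4 hom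
  obtain ⟨ρ₂, hρ₂, htr, hρ₂1⟩ := exists_rho hF4 hgood
  obtain ⟨B, hB⟩ := exists_conj ρ₂ ρ hρ₂1 hρ1 htr
  have hHU : ∀ x ∈ H, x ∈ UU (Fin 9) σ := fun x hx => (mem_GU_iff hσ).1 (hH.1.le hx).1
  have hBU : B ∈ UU (Fin 9) σ := by
    refine conj_unitary hρ₂1 hσ hσσ (fun g => ?_) (fun g => hHU _ (hP.le (hmem g))) hB
    obtain ⟨y, hy, h1⟩ := hρ₂ g
    rw [← h1]
    exact (reindex_mem e9).2 (threeJ3_le hF4 hgood hσ hy)
  set J := JJ ((ρ (u 1) : Matrix (Fin 9) (Fin 9) F).trace) B with hJ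
  have hρJ : ∀ g, ρ g ∈ J := by
    intro g
    obtain ⟨y, hy, h1⟩ := hρ₂ g
    refine mem_JJ.2 ⟨y, hy, ?_⟩
    rw [hB g, ← h1]
    rfl
  have hsm : ∀ x ∈ H, ∃ (g : S19) (c : F),
      (x : Matrix (Fin 9) (Fin 9) F) = c • (ρ g : Matrix (Fin 9) (Fin 9) F) := by
    intro x hx
    refine eq_smul_of_normalizes ρ hρ1 hker x ?_ ?_
    · rw [hρ]
      exact hP.normal x hx
    · rw [hρ]
      intro y hy
      have h1 := hP.normal x⁻¹ (inv_mem hx) y hy
      rwa [inv_inv] at h1
  have hHJ : H ≤ J := by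
    intro x hx
    obtain ⟨g, c, hgc⟩ := hsm x hx
    have h1 : x * (ρ g)⁻¹ ∈ J := by
      refine scalar_mem_JJ hF4 hgood B (c := c) ?_
      rw [Units.val_mul, hgc, Matrix.smul_mul, ← Units.val_mul, mul_inv_cancel, Units.val_one]
    have h2 := mul_mem h1 (hρJ g)
    rwa [inv_mul_cancel_right] at h2
  have hcard := card_JJ hF4 hgood B
  rcases hH.2 J hHJ (JJ_le hF4 hgood hσ hBU) with h | h
  · have h1 := card_small hF4 ρ hsm
    rw [← h, hJ, hcard] at h1
    omega
  · have h1 : (dia : (Fin 8 → Fˣ) →* GL (Fin 9) F).range ≤ J := by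
      rw [h]
      rintro _ ⟨d, rfl⟩
      exact ⟨(mem_GU_iff hσ).2 (dia_mem hF4 hσ d), dia_det d⟩
    have h2 := Subgroup.card_dvd_of_le h1
    rw [card_dia hF4, hJ, hcard] at h2
    norm_num at h2

end Cfsg.Agent.H571.JMain
end

-- part: H920/NineBase
section
/-!
# Dimension nine: base of the two rows, `L₂(q)` in cross characteristic (helper920)
-/

set_option autoImplicit false
set_option linter.unusedSectionVars false
set_option linter.style.haveILetI false

namespace Cfsg.Agent.H920.Nine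

open Cfsg Cfsg.Geo Matrix
open H915.LD (Core Soc tr SD Fr Cj)

universe u

variable {F : Type u} [Field F] [Fintype F]

theorem exists_q_pow (p : ℕ) [hp : Fact p.Prime] [CharP F p] {q : ℕ} (hF : Fintype.card F = q ^ 2) :
    ∃ k, q = p ^ k := by
  obtain ⟨n, -, hn⟩ := FiniteField.card F p
  have h1 : q ∣ p ^ (n : ℕ) := by rw [← hn, hF]; exact dvd_pow_self q two_ne_zero
  obtain ⟨b, -, rfl⟩ := (Nat.dvd_prime_pow hp.out).1 h1
  exact ⟨b, rfl⟩

/-- in `GU` : `tr g⁻¹ = (tr g) ^ q` -/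
theorem cj_of_le_GU {n q : ℕ} (hF : Fintype.card F = q ^ 2) {P : Subgroup (GL (Fin n) F)} (hP : P ≤ Cfsg.GU n F q) :
    Cj P q := by
  intro g hg
  obtain ⟨p, hpc⟩ := CharP.exists F
  haveI := Fact.mk (CharP.char_is_prime F p)
  obtain ⟨k, rfl⟩ := exists_q_pow p hF
  have hq0 : p ^ k ≠ 0 := pow_ne_zero _ (Fact.out (p := p.Prime)).ne_zero
  have h1 := ClassicalGeometry.GUBasic.transpose_mul_map hq0
    ((ClassicalGeometry.GUBasic.mem_GU_iff _).1 (hP hg))
  have h2 : ((g : Matrix (Fin n) (Fin n) F).map (fun x => x ^ p ^ k))ᵀ * (g : Matrix (Fin n) (Fin n) F) = 1 := by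
    have h3 := congrArg Matrix.transpose h1
    rw [Matrix.transpose_mul, Matrix.transpose_transpose, Matrix.transpose_one] at h3
    exact h3
  have h3 : ((g⁻¹ : GL (Fin n) F) : Matrix (Fin n) (Fin n) F) =
      ((g : Matrix (Fin n) (Fin n) F).map (fun x => x ^ p ^ k))ᵀ := by
    calc ((g⁻¹ : GL (Fin n) F) : Matrix (Fin n) (Fin n) F)
        = (((g : Matrix (Fin n) (Fin n) F).map (fun x => x ^ p ^ k))ᵀ * (g : Matrix (Fin n) (Fin n) F)) *
            ((g⁻¹ : GL (Fin n) F) : Matrix (Fin n) (Fin n) F) := by rw [h2, one_mul]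
      _ = _ := by
        rw [mul_assoc, ← Units.val_mul, mul_inv_cancel, Units.val_one, mul_one]
  unfold tr
  rw [h3, Matrix.trace_transpose, Matrix.trace, Matrix.trace, sum_pow_char_pow]
  rfl

theorem sq19 : ∀ x : ZMod 19, x ≠ 0 → (IsSquare x ↔ (x = 1 ∨ x = 4 ∨ x = 5 ∨ x = 6 ∨ x = 7 ∨ x = 9 ∨ x = 11 ∨ x = 16 ∨
    x = 17)) := by decide +kernel

theorem mod19 (p : ℕ) (j : ℕ) (hj : j < 19) : (p : ZMod 19) = (j : ZMod 19) ↔ p % 19 = j := by
  rw [ZMod.natCast_eq_natCast_iff, Nat.ModEq, Nat.mod_eq_of_lt hj]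

theorem isSquare_19 {p : ℕ} (hp : p.Prime) (h19 : ¬ p ∣ 19) : IsSquare (p : ZMod 19) ↔
    (p % 19 = 1 ∨ p % 19 = 4 ∨ p % 19 = 5 ∨ p % 19 = 6 ∨ p % 19 = 7 ∨ p % 19 = 9 ∨ p % 19 = 11 ∨ p % 19 = 16 ∨
      p % 19 = 17) := by
  have h0 : (p : ZMod 19) ≠ 0 := by
    intro h0
    rw [ZMod.natCast_eq_zero_iff] at h0
    exact h19 (((Nat.prime_dvd_prime_iff_eq (by norm_num) hp).1 h0) ▸ dvd_rfl)
  rw [sq19 _ h0]
  have key := fun j hj => mod19 p j hj
  rw [← key 1 (by norm_num), ← key 4 (by norm_num), ← key 5 (by norm_num), ← key 6 (by norm_num), ← key 7 (by norm_num),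
    ← key 9 (by norm_num), ← key 11 (by norm_num), ← key 16 (by norm_num), ← key 17 (by norm_num)]
  norm_num only []

theorem nonsq_mod {p : ℕ} (hp : p.Prime) (h19 : ¬ p ∣ 19) (h : ¬ IsSquare (p : ZMod 19)) :
    p % 19 = 2 ∨ p % 19 = 3 ∨ p % 19 = 8 ∨ p % 19 = 10 ∨ p % 19 = 12 ∨ p % 19 = 13 ∨ p % 19 = 14 ∨ p % 19 = 15 ∨
      p % 19 = 18 := by
  rw [isSquare_19 hp h19] at h
  have h0 : p % 19 ≠ 0 := by
    intro h0
    exact h19 (((Nat.prime_dvd_prime_iff_eq (by norm_num) hp).1 (Nat.dvd_of_mod_eq_zero h0)) ▸ dvd_rfl)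
  omega

/-- `L₂(K)`, cross characteristic, linear case -/
theorem l2_lin {P : Subgroup (GL (Fin 9) F)} (p : ℕ) [hp : Fact p.Prime] [CharP F p] (hC : Core P) (hsd : ¬ SD P)
    (hcj : ¬ Cj P p) {K : Type} [Field K] [Fintype K] (h5 : 5 ≤ Fintype.card K) (h9 : Fintype.card K ≠ 9)
    (hpK : ¬ p ∣ Fintype.card K) (e : Soc P ≃* ProjectiveSpecialLinearGroup (Fin 2) K) :
    Nonempty (Soc P ≃* ProjectiveSpecialLinearGroup (Fin 2) (ZMod 19)) ∧ (Fintype.card F).Prime ∧
      (Fintype.card F % 19 = 1 ∨ Fintype.card F % 19 = 4 ∨ Fintype.card F % 19 = 5 ∨ Fintype.card F % 19 = 6 ∨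
        Fintype.card F % 19 = 7 ∨ Fintype.card F % 19 = 9 ∨ Fintype.card F % 19 = 11 ∨ Fintype.card F % 19 = 16 ∨
        Fintype.card F % 19 = 17) := by
  rcases H464.Sl2.l2_stage1_le p hC h5 h9 hpK e (by simp) with h | ⟨h1, h2, h3⟩
  · exact (hsd h).elim
  · rw [Fintype.card_fin] at h1
    have hK : Fintype.card K = 19 := by omega
    rw [hK] at h2 h3 hpK
    have hsq : IsSquare (p : ZMod 19) := by
      by_contra hcon
      exact hcj (h3 hcon)
    have hF := hC.card_eq p (h2 hsq)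
    refine ⟨H912.Five.psl_zmod (by norm_num) ⟨K, inferInstance, inferInstance, hK, ⟨e⟩⟩, by rw [hF]; exact hp.out, ?_⟩
    rw [hF]
    exact (isSquare_19 hp.out hpK).1 hsq

/-- `L₂(K)`, cross characteristic, unitary case -/
theorem l2_uni {H P : Subgroup (GL (Fin 9) F)} (p : ℕ) [hp : Fact p.Prime] [CharP F p] {q : ℕ}
    (hF : Fintype.card F = q ^ 2) (hH : IsMaximalIn (Cfsg.GU 9 F q ⊓ specialLinear (Fin 9) F) H)
    (hR : IsResidualCore H P) (hC : Core P) (hsd : ¬ SD P)
    {K : Type} [Field K] [Fintype K] (h5 : 5 ≤ Fintype.card K) (h9 : Fintype.card K ≠ 9)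
    (hpK : ¬ p ∣ Fintype.card K) (e : Soc P ≃* ProjectiveSpecialLinearGroup (Fin 2) K) :
    Nonempty (Soc P ≃* ProjectiveSpecialLinearGroup (Fin 2) (ZMod 19)) ∧ q.Prime ∧ q ≠ 2 ∧
      (q % 19 = 2 ∨ q % 19 = 3 ∨ q % 19 = 8 ∨ q % 19 = 10 ∨ q % 19 = 12 ∨ q % 19 = 13 ∨ q % 19 = 14 ∨ q % 19 = 15 ∨
        q % 19 = 18) := by
  rcases H464.Sl2.l2_stage1_le p hC h5 h9 hpK e (by simp) with h | ⟨h1, h2, h3⟩
  · exact (hsd h).elim
  · rw [Fintype.card_fin] at h1
    have hK : Fintype.card K = 19 := by omega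
    rw [hK] at h2 h3 hpK
    have hnsq : ¬ IsSquare (p : ZMod 19) := fun hcon => H915.LD.not_fr_of_card hC p hF (h2 hcon)
    have hfr : Fr P (p ^ 2) := by
      have := (h3 hnsq).fr
      rwa [← pow_two] at this
    have hqp := H915.LD.q_eq_of_fr hC p hF hfr
    obtain ⟨e'⟩ := H912.Five.psl_zmod (q := 19) (by norm_num) ⟨K, inferInstance, inferInstance, hK, ⟨e⟩⟩
    refine ⟨⟨e'⟩, by rw [hqp]; exact hp.out, ?_, ?_⟩
    · intro hq2
      subst hq2
      exact H571.JMain.not_core hF hH hR e'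
    · rw [hqp]
      exact nonsq_mod hp.out hpK hnsq

end Cfsg.Agent.H920.Nine
end
end
end
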