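import Cfsg.Agent.S0277
import Cfsg.Agent.ClassicalGeometry.GUBasic
import Cfsg.Prelude.Def_GeometricClasses
import Cfsg.Agent.H793.TA.Two_m3
import Cfsg.Agent.H906.Cover_m3
import Cfsg.Agent.H920.Basic
import Cfsg.Agent.H920.NineBase
import Cfsg.Agent.H936.List12
import Cfsg.Agent.H937.T2Rep_m3
import Cfsg.Agent.H916.SpSixK_mg
import Cfsg.Agent.H614.AMod.Main
import Cfsg.Agent.H614.AMod.EightF_m3
import Cfsg.Agent.H36.U52.Main
import Cfsg.Agent.H203.LSTor_m3
import Cfsg.Agent.H219.HerSmall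
import Cfsg.Agent.H175.LD.Core33
import Cfsg.Agent.H918.U43.Main
import Cfsg.Agent.H878.Sz.MainThree
import Cfsg.Agent.H876.D3.Main5_m3
import Cfsg.Agent.H637.A7NineMain_m3
import Cfsg.Agent.H814.SzEightCore
import Cfsg.Agent.H936.U33All
import Cfsg.Agent.H6.M11.Main11
import Cfsg.Agent.H48.M12Three
import Cfsg.Agent.H4.LDM.Stage24
import Cfsg.Agent.H1.TJ1
import Cfsg.Agent.H1.TJ2
import Cfsg.Agent.H95.JT.Core
import Cfsg.Agent.H13.M22.Twelve
import Cfsg.Agent.H921.M22.Final_m3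
import Cfsg.Agent.H878.Sz.MainP3
import Cfsg.Agent.H936.List12c
import Cfsg.Agent.H887.DS.SixFive
import Cfsg.Agent.H905.MdP
import Cfsg.Agent.H218.SdDC
import Cfsg.Agent.H927.LDTwF4
import Cfsg.Agent.SporadicStructure.PsuMatch
import Cfsg.Agent.H929.UThreeGeo
import Cfsg.Agent.H925.U52Form
import Cfsg.Agent.ClassicalGeometry.AutPSL.SylowU
import Cfsg.Agent.H879.Nine.Ctx_m3
import Cfsg.Agent.FastGrp
import Cfsg.Agent.Prune
set_option linter.all false

section
prune_inst 0x7f00000000000000000000000000000000000000000000000000000000000000000000000000000000000000000000000000000000000000000000000000000000000000000000000000000000000000003fffffffffffffffffffffffffffbeffbdffffffff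

-- part: H956/K1/Final
section
prune_inst 0xfdedfbfbfdffffffff7e7faedefdfdfdbfbfffe6dff9cbffe069ffabdf7b8ac9e56bad8ffa19fe0eb7c29410e87b43fbfffeffea6ffc7ffffdfff41ffbffdffdf7b508519c88b40fbc2ff683f0778e7f000000000000000000000000000000004200000000
set_option linter.all false
open scoped Cfsg.Agent.FastGrp

-- part: H956/K1/Cards
section
/-!
# Lower bounds for `|SL₉(q)|` and `|SU₉(q)|` (helper956)
-/

set_option autoImplicit false

namespace Cfsg.Agent.H956.K1

open Matrix Cfsg Cfsg.Geo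

universe u

variable {F : Type u} [Field F] [Fintype F]

theorem two_le_card : 2 ≤ Fintype.card F := Fintype.one_lt_card

theorem prod_range_pow (q : ℕ) : ∏ i ∈ Finset.range 9, q ^ i = q ^ 36 := by
  rw [Finset.prod_pow_eq_pow_sum]
  rfl

theorem two_mul_pow_lt {q N m : ℕ} (hq : 2 ≤ q) (hm : 38 ≤ m) (h : q ^ m ≤ N) : 2 * q ^ 36 < N := by
  have h1 : q ^ 36 * q ^ 2 ≤ q ^ m := by
    rw [← pow_add]
    exact Nat.pow_le_pow_right (by omega) hm
  have h2 : 2 ^ 2 ≤ q ^ 2 := Nat.pow_le_pow_left hq 2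
  have h3 : 0 < q ^ 36 := by positivity
  have h4 : q ^ 36 * 2 ^ 2 ≤ q ^ 36 * q ^ 2 := Nat.mul_le_mul_left _ h2
  omega

theorem card_sl : 2 * Fintype.card F ^ 36 < Nat.card (specialLinear (Fin 9) F) := by
  classical
  have hq : 2 ≤ Fintype.card F := two_le_card
  obtain ⟨q, hqF⟩ : ∃ q, q = Fintype.card F := ⟨_, rfl⟩
  rw [← hqF] at hq
  have h1 := Subgroup.card_mul_index (specialLinear (Fin 9) F)
  have h2 : (specialLinear (Fin 9) F).index = q - 1 := by
    unfold specialLinear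
    rw [Subgroup.index_ker, MonoidHom.range_eq_top.2 Matrix.GeneralLinearGroup.det_surjective, Subgroup.card_top,
      Nat.card_eq_fintype_card, Fintype.card_units, hqF]
  rw [h2, Matrix.card_GL_field, ← hqF] at h1
  have h3 : ∏ i : Fin 9, q ^ 8 ≤ ∏ i : Fin 9, (q ^ 9 - q ^ (i : ℕ)) := by
    apply Finset.prod_le_prod'
    intro i _
    have h4 : q ^ (i : ℕ) ≤ q ^ 8 := Nat.pow_le_pow_right (by omega) (by omega)
    have h5 : q ^ 9 = q ^ 8 * q := pow_succ q 8
    have h6 : q ^ 8 * 2 ≤ q ^ 8 * q := Nat.mul_le_mul_left _ hq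
    omega
  rw [Finset.prod_const, Finset.card_univ, Fintype.card_fin, ← pow_mul, ← h1] at h3
  rw [← hqF]
  have h4 : q ^ 71 ≤ Nat.card (specialLinear (Fin 9) F) := by
    by_contra hlt
    push Not at hlt
    have h5 : Nat.card (specialLinear (Fin 9) F) * (q - 1) ≤ q ^ 71 * (q - 1) := Nat.mul_le_mul_right _ hlt.le
    have h6 : q ^ 71 * (q - 1) < q ^ 71 * q := (Nat.mul_lt_mul_left (by positivity)).2 (by omega)
    have h7 : q ^ (8 * 9) = q ^ 71 * q := pow_succ q 71
    omega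
  exact two_mul_pow_lt hq (by norm_num) h4

theorem card_su {q : ℕ} (hF : Fintype.card F = q ^ 2) : 2 * q ^ 36 < Nat.card ↥(GU 9 F q ⊓ specialLinear (Fin 9) F) := by
  classical
  have hq : 2 ≤ q := Cfsg.Agent.ClassicalGeometry.GUBasic.two_le hF
  have h0 := Cfsg.Agent.S0277.result hF 9
  have h1 := Subgroup.card_mul_index ((Matrix.GeneralLinearGroup.det.comp (GU 9 F q).subtype).ker)
  have h2 : ((Matrix.GeneralLinearGroup.det.comp (GU 9 F q).subtype).ker).index ≤ q ^ 2 := by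
    rw [Subgroup.index_ker]
    refine (Subgroup.card_le_card_group _).trans ?_
    rw [Nat.card_eq_fintype_card, Fintype.card_units, hF]
    omega
  have h3 : Nat.card ((Matrix.GeneralLinearGroup.det.comp (GU 9 F q).subtype).ker) =
      Nat.card ↥(GU 9 F q ⊓ specialLinear (Fin 9) F) := by
    apply Nat.card_congr
    exact
      { toFun := fun g => ⟨(g : GU 9 F q), (g : GU 9 F q).2, g.2⟩
        invFun := fun g => ⟨⟨g, g.2.1⟩, g.2.2⟩
        left_inv := fun g => rfl
        right_inv := fun g => rfl }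
  rw [h3, h0] at h1
  have h4 : ∏ i ∈ Finset.range 9, q ^ i ≤
      ∏ i ∈ Finset.range 9, (if Even i then q ^ (i + 1) + 1 else q ^ (i + 1) - 1) := by
    apply Finset.prod_le_prod'
    intro i _
    have h5 : q ^ (i + 1) = q ^ i * q := pow_succ q i
    have h6 : q ^ i * 2 ≤ q ^ i * q := Nat.mul_le_mul_left _ hq
    have h7 : 0 < q ^ i := by positivity
    split_ifs <;> omega
  rw [prod_range_pow] at h4
  have h5 : q ^ (9 * (9 - 1) / 2) = q ^ 36 := rfl
  rw [h5] at h1
  have h6 : q ^ 36 * q ^ 36 ≤ Nat.card ↥(GU 9 F q ⊓ specialLinear (Fin 9) F) * q ^ 2 := by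
    calc q ^ 36 * q ^ 36 ≤ q ^ 36 * _ := Nat.mul_le_mul_left _ h4
      _ = _ := h1.symm
      _ ≤ _ := Nat.mul_le_mul_left _ h2
  have h7 : q ^ 70 ≤ Nat.card ↥(GU 9 F q ⊓ specialLinear (Fin 9) F) := by
    have h8 : q ^ 36 * q ^ 36 = q ^ 70 * q ^ 2 := by rw [← pow_add, ← pow_add]
    rw [h8] at h6
    exact Nat.le_of_mul_le_mul_right h6 (by positivity)
  exact two_mul_pow_lt hq (by norm_num) h7

end Cfsg.Agent.H956.K1
end

-- part: H956/K1/Main
section
/-!
# `3.A₆` in dimension nine is never maximal (helper956)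

`not_core_linear_of`, `not_core_unitary_of` : the main theorems, given the traces in characteristic five.
-/

set_option autoImplicit false

namespace Cfsg.Agent.H956.K1

open Matrix Cfsg Cfsg.Geo Cfsg.Agent.H920.Nine Cfsg.Agent.H915.LD

universe u v

/-- the traces of a core in characteristic five -/
def Five {F : Type u} [Field F] (P : Subgroup (GL (Fin 9) F)) : Prop :=
  (5 : F) = 0 → (∀ x ∈ P, orderOf x = 2 → tr x = -3) ∧ (∀ x ∈ P, orderOf x = 4 → tr x = 3)

theorem mem_sl {F : Type u} [Field F] {g : GL (Fin 9) F} :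
    g ∈ specialLinear (Fin 9) F ↔ (g : Matrix (Fin 9) (Fin 9) F).det = 1 := by
  unfold specialLinear
  rw [MonoidHom.mem_ker, ← Matrix.GeneralLinearGroup.val_det_apply]
  exact ⟨fun h => by rw [h, Units.val_one], fun h => Units.ext h⟩

section lin

variable {F : Type u} [Field F] [Fintype F]

theorem mem_map_lin {E : Type v} [Field E] [Fintype E] (f : F →+* E)
    (σ : E →+* E) (hσ : ∀ x, σ x = x ^ Fintype.card F) (hσ2 : ∀ x, σ (σ x) = x) (g : GL (Fin 9) E) :
    g ∈ (specialLinear (Fin 9) F).map (Matrix.GeneralLinearGroup.map f) ↔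
      (g : Matrix (Fin 9) (Fin 9) E).det = 1 ∧ (circLin σ hσ2).c9 g = g := by
  constructor
  · rintro ⟨h, hh, rfl⟩
    have hd : (h : Matrix (Fin 9) (Fin 9) F).det = 1 := mem_sl.1 hh
    constructor
    · rw [val_gmap]
      have := (RingHom.map_det f (h : Matrix (Fin 9) (Fin 9) F)).symm
      rw [hd, map_one] at this
      exact this
    · show Matrix.GeneralLinearGroup.map σ (Matrix.GeneralLinearGroup.map f h) = _
      apply Units.ext
      ext i j
      show σ (f ((h : Matrix (Fin 9) (Fin 9) F) i j)) = f ((h : Matrix (Fin 9) (Fin 9) F) i j)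
      rw [hσ, ← map_pow, FiniteField.pow_card]
  · rintro ⟨hd, hg⟩
    have h1 : ∀ i j, ∃ a : F, f a = (g : Matrix (Fin 9) (Fin 9) E) i j := by
      intro i j
      apply mem_range_of_pow
      rw [Nat.card_eq_fintype_card, ← hσ]
      exact congrArg (fun M : GL (Fin 9) E => (M : Matrix (Fin 9) (Fin 9) E) i j) hg
    choose a ha using h1
    let A : Matrix (Fin 9) (Fin 9) F := Matrix.of a
    have hA : A.map f = g := by
      ext i j
      exact ha i j
    have hdA : A.det = 1 := by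
      apply f.injective
      rw [RingHom.map_det, map_one, RingHom.mapMatrix_apply, hA, hd]
    refine ⟨Matrix.GeneralLinearGroup.mkOfDetNeZero A (by rw [hdA]; exact one_ne_zero), ?_, ?_⟩
    · exact mem_sl.2 hdA
    · apply Units.ext
      exact hA

/-- **The linear case.** -/
theorem not_core_linear_of (p : ℕ) [hp : Fact p.Prime] [CharP F p] (hp3 : p ≠ 3) {H P : Subgroup (GL (Fin 9) F)}
    (hH : IsMaximalIn (specialLinear (Fin 9) F) H) (hP : IsResidualCore H P)
    (e : Soc P ≃* alternatingGroup (Fin 6)) (hsd : ¬ SD P) (h5 : Five P) : False := by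
  classical
  have hC := core_of_residual hP
  let E := FiniteField.Extension F p 2
  have : Fintype E := Fintype.ofFinite E
  have hE : Fintype.card E = Fintype.card F ^ 2 := by
    rw [← Nat.card_eq_fintype_card, ← Nat.card_eq_fintype_card]
    exact FiniteField.natCard_extension F p 2
  let f : F →+* E := algebraMap F E
  let σ : E →+* E := ((FiniteField.Extension.frob F p 2 : E ≃ₐ[F] E) : E →+* E)
  have hσ : ∀ x, σ x = x ^ Fintype.card F := by
    intro x
    rw [← Nat.card_eq_fintype_card]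
    exact FiniteField.Extension.frob_apply F p 2
  have hσ2 : ∀ x, σ (σ x) = x := by
    intro x
    rw [hσ, hσ, ← pow_mul, ← pow_two, ← hE, FiniteField.pow_card]
  have h3 : (3 : E) ≠ 0 := by
    intro h
    have h4 : ((3 : ℕ) : F) = 0 := by
      apply f.injective
      rw [map_natCast, map_zero]
      exact_mod_cast h
    rw [CharP.cast_eq_zero_iff F p] at h4
    exact hp3 ((Nat.prime_dvd_prime_iff_eq hp.out Nat.prime_three).1 h4)
  refine core_false f (circLin σ hσ2) (fun ω hω => exists_phi hE hω) h3 hH hP e (card_scalars hC e hsd) h5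
    (mem_map_lin f σ hσ hσ2) ?_
  rw [Nat.card_eq_fintype_card, hE, ← pow_mul]
  exact card_sl

end lin

section uni

variable {F : Type u} [Field F] [Fintype F] {q : ℕ}

theorem gu_iff (hF : Fintype.card F = q ^ 2) (σ : F →+* F) (hσ : ∀ x, σ x = x ^ q) (g : GL (Fin 9) F) :
    g ∈ GU 9 F q ↔ (g : Matrix (Fin 9) (Fin 9) F)ᵀ * (g : Matrix (Fin 9) (Fin 9) F).map σ = 1 := by
  have hq : q ≠ 0 := by
    have := Cfsg.Agent.ClassicalGeometry.GUBasic.two_le hF
    omega
  have hσ' : (σ : F → F) = fun x => x ^ q := funext hσ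
  constructor
  · intro h
    rw [hσ']
    exact Cfsg.Agent.ClassicalGeometry.GUBasic.transpose_mul_map hq
      ((Cfsg.Agent.ClassicalGeometry.GUBasic.mem_GU_iff g).1 h)
  · intro h
    rw [Cfsg.Agent.ClassicalGeometry.GUBasic.mem_GU_iff]
    have h1 : ∀ x y : Fin 9 → F, hermForm 9 F q x y = x ⬝ᵥ (fun i => σ (y i)) := by
      intro x y
      rw [Cfsg.Agent.ClassicalGeometry.GUBasic.hermForm_apply]
      apply Finset.sum_congr rfl
      intro i _
      show x i * y i ^ q = x i * σ (y i)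
      rw [hσ]
    intro x y
    rw [h1, h1]
    have h2 : (fun i => σ (((g : Matrix (Fin 9) (Fin 9) F) *ᵥ y) i)) =
        (g : Matrix (Fin 9) (Fin 9) F).map σ *ᵥ (fun i => σ (y i)) := by
      funext i
      change σ (∑ j, (g : Matrix (Fin 9) (Fin 9) F) i j * y j) = ∑ j, σ ((g : Matrix (Fin 9) (Fin 9) F) i j) * σ (y j)
      rw [map_sum]
      exact Finset.sum_congr rfl fun j _ => map_mul σ _ _
    rw [h2, Matrix.dotProduct_mulVec, ← Matrix.vecMul_transpose, Matrix.vecMul_vecMul, h, Matrix.vecMul_one]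

/-- **The unitary case.** -/
theorem not_core_unitary_of (p : ℕ) [hp : Fact p.Prime] [CharP F p] (hp3 : p ≠ 3) (hF : Fintype.card F = q ^ 2)
    {H P : Subgroup (GL (Fin 9) F)}
    (hH : IsMaximalIn (GU 9 F q ⊓ specialLinear (Fin 9) F) H) (hP : IsResidualCore H P)
    (e : Soc P ≃* alternatingGroup (Fin 6)) (hsd : ¬ SD P) (h5 : Five P) : False := by
  classical
  have hC := core_of_residual hP
  obtain ⟨σ, hσ⟩ := Cfsg.Agent.ClassicalGeometry.GUBasic.exists_powHom hF
  have hσ2 : ∀ x, σ (σ x) = x := by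
    intro x
    rw [hσ, hσ, ← pow_mul, ← pow_two, ← hF, FiniteField.pow_card]
  have h3 : (3 : F) ≠ 0 := by
    intro h
    have h4 : ((3 : ℕ) : F) = 0 := by exact_mod_cast h
    rw [CharP.cast_eq_zero_iff F p] at h4
    exact hp3 ((Nat.prime_dvd_prime_iff_eq hp.out Nat.prime_three).1 h4)
  refine core_false (RingHom.id F) (circUni σ hσ2) (fun ω hω => exists_phi hF hω) h3 hH hP e (card_scalars hC e hsd) h5
    ?_ ?_
  · intro g
    rw [Matrix.GeneralLinearGroup.map_id, Subgroup.map_id]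
    rw [Subgroup.mem_inf, mem_sl, gu_iff hF σ hσ, and_comm]
    apply and_congr_right
    intro _
    have h7 : (circUni σ hσ2).c9 g = ti (Matrix.GeneralLinearGroup.map σ g) := rfl
    rw [h7]
    constructor
    · intro h
      apply Units.ext
      rw [val_ti]
      have h8 : ((Matrix.GeneralLinearGroup.map σ g : GL (Fin 9) F) : Matrix (Fin 9) (Fin 9) F)ᵀ *
          (g : Matrix (Fin 9) (Fin 9) F) = 1 := by
        have h9 := congrArg (fun M => Mᵀ) h
        simp only [Matrix.transpose_mul, Matrix.transpose_transpose, Matrix.transpose_one] at h9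
        exact h9
      have h9 : ((Matrix.GeneralLinearGroup.map σ g : GL (Fin 9) F) : Matrix (Fin 9) (Fin 9) F)ᵀ *
          (((Matrix.GeneralLinearGroup.map σ g)⁻¹ : GL (Fin 9) F) : Matrix (Fin 9) (Fin 9) F)ᵀ = 1 := by
        rw [← Matrix.transpose_mul, ← Units.val_mul, inv_mul_cancel, Units.val_one, Matrix.transpose_one]
      have h10 := _root_.mul_eq_one_comm.1 h8
      calc _ = 1 * (((Matrix.GeneralLinearGroup.map σ g)⁻¹ : GL (Fin 9) F) : Matrix (Fin 9) (Fin 9) F)ᵀ := (one_mul _).symm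
        _ = _ := by rw [← h10, mul_assoc, h9, mul_one]
    · intro h
      have h8 := congrArg (fun M : GL (Fin 9) F => (M : Matrix (Fin 9) (Fin 9) F)) h
      simp only [val_ti] at h8
      nth_rewrite 1 [← h8]
      rw [Matrix.transpose_transpose, ← val_map σ g, ← Units.val_mul, inv_mul_cancel, Units.val_one]
  · rw [Nat.card_eq_fintype_card, hF, ← pow_mul]
    exact card_su hF

end uni

end Cfsg.Agent.H956.K1
end

-- part: H793/TA/TwoMain
section
/-!
# Nine-dimensional representations of perfect central extensions of `A₆` in characteristic five: the end (helper793)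

`Rep.false` : there is no absolutely irreducible representation of degree 9.
-/

set_option autoImplicit false
set_option linter.unusedSectionVars false

namespace Cfsg.Agent.H793.TA

open Module Equiv Equiv.Perm

variable {F : Type*} [Field F] [CharP F 5] {V : Type*} [AddCommGroup V] [Module F V] [FiniteDimensional F V]

section v4

variable {T1 T2 T3 : End F V} (h : V4 T1 T2 T3)
include h

omit [CharP F 5] [FiniteDimensional F V]

theorem V4.te1 : T1 * E0 T1 T2 T3 = E0 T1 T2 T3 := by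
  unfold E0
  simp only [mul_neg, mul_add, mul_one, h.i1, h.m12, h.m13]
  abel

theorem V4.te2 : T2 * E0 T1 T2 T3 = E0 T1 T2 T3 := by
  unfold E0
  simp only [mul_neg, mul_add, mul_one, h.i2, h.m21, h.m23]
  abel

theorem V4.te3 : T3 * E0 T1 T2 T3 = E0 T1 T2 T3 := by
  unfold E0
  simp only [mul_neg, mul_add, mul_one, h.i3, h.m31, h.m32]
  abel

theorem V4.et1 : E0 T1 T2 T3 * T1 = E0 T1 T2 T3 := by
  unfold E0
  simp only [neg_mul, add_mul, one_mul, h.i1, h.m21, h.m31]
  abel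

theorem V4.et2 : E0 T1 T2 T3 * T2 = E0 T1 T2 T3 := by
  unfold E0
  simp only [neg_mul, add_mul, one_mul, h.i2, h.m12, h.m32]
  abel

theorem V4.et3 : E0 T1 T2 T3 * T3 = E0 T1 T2 T3 := by
  unfold E0
  simp only [neg_mul, add_mul, one_mul, h.i3, h.m13, h.m23]
  abel

end v4

omit [FiniteDimensional F V] in
theorem xiE {T1 T2 T3 : End F V} (ξ : Dual F V) (z1 : ∀ x, ξ (T1 x) = ξ x) (z2 : ∀ x, ξ (T2 x) = -ξ x)
    (z3 : ∀ x, ξ (T3 x) = -ξ x) (x : V) : ξ (E1 T1 T2 T3 x) = ξ x := by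
  unfold E1
  rw [LinearMap.neg_apply, LinearMap.sub_apply, LinearMap.sub_apply, LinearMap.add_apply, map_neg, map_sub, map_sub,
    map_add, z1, z2, z3, Module.End.one_apply]
  linear_combination -ξ x * five0 F

section main

variable {P : Type*} [Group P] {π : P →* A6} {ρ : P →* End F V} (h : Rep π ρ) {t1 t2 t3 s y ys u1 u2 h1 h2 : P}
  (d : Elt π t1 t2 t3 s y) (e : KE π t1 t2 t3 ys u1 u2 h1 h2)
include h d e

omit [CharP F 5] [FiniteDimensional F V] in
theorem yyy' : ρ ys * (ρ ys * ρ ys) = 1 := by rw [← map_mul, ← map_mul, e.yyy, map_one]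

theorem yse0 : ρ ys * E0 (ρ t1) (ρ t2) (ρ t3) = E0 (ρ t1) (ρ t2) (ρ t3) * ρ ys := by
  obtain ⟨z, hz⟩ := exists_zeta h d e
  rw [hz, smul_mul_assoc, mul_smul_comm, (gen (ρ := ρ) d).ye0]

theorem yse1 : ρ ys * E1 (ρ t1) (ρ t2) (ρ t3) = E3 (ρ t1) (ρ t2) (ρ t3) * ρ ys := by
  obtain ⟨z, hz⟩ := exists_zeta h d e
  rw [hz, smul_mul_assoc, mul_smul_comm, (gen (ρ := ρ) d).ye1]

theorem yse3 : ρ ys * E3 (ρ t1) (ρ t2) (ρ t3) = E2 (ρ t1) (ρ t2) (ρ t3) * ρ ys := by
  obtain ⟨z, hz⟩ := exists_zeta h d e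
  rw [hz, smul_mul_assoc, mul_smul_comm, (gen (ρ := ρ) d).ye3]

/-- the action of the stabilizer of `4` -/
theorem act4 {x : P} (hx : x ∈ K π) (h4 : (π x : Perm (Fin 6)) 4 = 4) :
    ∃ i : ℕ, i < 3 ∧ (x * x * x = 1 → x ≠ 1 → i ≠ 0) ∧ ∀ c : F, c * (c * c) = 1 →
      ρ x * G (E0 (ρ t1) (ρ t2) (ρ t3)) (ρ ys) c = c ^ i • G (E0 (ρ t1) (ρ t2) (ρ t3)) (ρ ys) c ∧
      G (E0 (ρ t1) (ρ t2) (ρ t3)) (ρ ys) c * ρ x = c ^ i • G (E0 (ρ t1) (ρ t2) (ρ t3)) (ρ ys) c := by
  obtain ⟨i, hi, t, ht, hxt⟩ := e.four h.toExt d hx h4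
  have g := gen (ρ := ρ) d
  have gy1 := yyy' h d e
  have gy0 := yse0 h d e
  refine ⟨i, hi, ?_, ?_⟩
  · rintro h3 hne rfl
    rw [pow_zero, mul_one] at hxt
    have h5 : t * t = 1 := by
      rcases ht with rfl | rfl | rfl | rfl
      · exact one_mul 1
      · exact d.i1
      · exact d.i2
      · exact d.i3
    rw [hxt, h5, one_mul] at h3
    exact hne (hxt.trans h3)
  · intro c hc
    have f1 : ρ t * E0 (ρ t1) (ρ t2) (ρ t3) = E0 (ρ t1) (ρ t2) (ρ t3) := by
      rcases ht with rfl | rfl | rfl | rfl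
      · rw [map_one, one_mul]
      · exact g.te1
      · exact g.te2
      · exact g.te3
    have f2 : E0 (ρ t1) (ρ t2) (ρ t3) * ρ t = E0 (ρ t1) (ρ t2) (ρ t3) := by
      rcases ht with rfl | rfl | rfl | rfl
      · rw [map_one, mul_one]
      · exact g.et1
      · exact g.et2
      · exact g.et3
    have f3 : ρ t * G (E0 (ρ t1) (ρ t2) (ρ t3)) (ρ ys) c = G (E0 (ρ t1) (ρ t2) (ρ t3)) (ρ ys) c := by
      rw [← eg g.e00 gy0 c, ← mul_assoc, f1]
    have f4 : G (E0 (ρ t1) (ρ t2) (ρ t3)) (ρ ys) c * ρ t = G (E0 (ρ t1) (ρ t2) (ρ t3)) (ρ ys) c := by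
      rw [← ge (Y := ρ ys) g.e00 c, mul_assoc, f2]
    have f5 : ∀ j : ℕ, ρ ys ^ j * G (E0 (ρ t1) (ρ t2) (ρ t3)) (ρ ys) c =
        c ^ j • G (E0 (ρ t1) (ρ t2) (ρ t3)) (ρ ys) c := by
      intro j
      induction j with
      | zero => rw [pow_zero, pow_zero, one_mul, one_smul]
      | succ j ih => rw [pow_succ, mul_assoc, yg gy1 hc, mul_smul_comm, ih, smul_smul, pow_succ, mul_comm]
    have f6 : ∀ j : ℕ, G (E0 (ρ t1) (ρ t2) (ρ t3)) (ρ ys) c * ρ ys ^ j =
        c ^ j • G (E0 (ρ t1) (ρ t2) (ρ t3)) (ρ ys) c := by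
      intro j
      induction j with
      | zero => rw [pow_zero, pow_zero, mul_one, one_smul]
      | succ j ih => rw [pow_succ, ← mul_assoc, ih, smul_mul_assoc, gy gy0 gy1 hc, smul_smul, pow_succ]
    constructor
    · rw [hxt, map_mul, map_pow, mul_assoc, f5, mul_smul_comm, f3]
    · rw [hxt, map_mul, map_pow, ← mul_assoc, f4, f6]

/-- `e₀ k e_ω = 0` and `e_ω k e₀ = 0` -/
theorem gkg {w : F} (hw : w * (w * w) = 1) (hw1 : w ≠ 1) {x : P} (hx : x ∈ K π) :
    G (E0 (ρ t1) (ρ t2) (ρ t3)) (ρ ys) 1 * ρ x * G (E0 (ρ t1) (ρ t2) (ρ t3)) (ρ ys) w = 0 ∧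
      G (E0 (ρ t1) (ρ t2) (ρ t3)) (ρ ys) w * ρ x * G (E0 (ρ t1) (ρ t2) (ρ t3)) (ρ ys) 1 = 0 := by
  have hx5 : (π x : Perm (Fin 6)) 5 = 5 := K_le_Q hx
  have hj : (π x : Perm (Fin 6)) 4 ≠ 5 := by
    intro h7
    have : (4 : Fin 6) = 5 := (π x : Perm (Fin 6)).injective (h7.trans hx5.symm)
    exact absurd this (by decide)
  obtain ⟨b, hbs, hb5, hb4, hbj, hb3, hb1⟩ := dec_three _ hj
  obtain ⟨β, hβ, hβb⟩ := exists_K h.toExt (g := ⟨b, mem_alternatingGroup.2 hbs⟩) hb5
  have hβ3 : β * β * β = 1 := by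
    apply K_ker h.toExt (mul_mem (mul_mem hβ hβ) hβ)
    rw [map_mul, map_mul, hβb]
    exact Subtype.ext hb3
  have hβ1 : β ≠ 1 := by
    rintro rfl
    rw [map_one] at hβb
    exact hb1 (congrArg Subtype.val hβb).symm
  have hβ4 : (π β : Perm (Fin 6)) 4 = 4 := by rw [hβb]; exact hb4
  set γ := x⁻¹ * β * x with hγ
  have hγK : γ ∈ K π := mul_mem (mul_mem (inv_mem hx) hβ) hx
  have hγ3 : γ * γ * γ = 1 := by
    calc γ * γ * γ = x⁻¹ * (β * β * β) * x := by rw [hγ]; group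
      _ = 1 := by rw [hβ3]; group
  have hγ1 : γ ≠ 1 := by
    intro h1
    apply hβ1
    calc β = x * γ * x⁻¹ := by rw [hγ]; group
      _ = 1 := by rw [h1]; group
  have hγ4 : (π γ : Perm (Fin 6)) 4 = 4 := by
    rw [hγ, map_mul, map_mul, map_inv]
    show (π x : Perm (Fin 6))⁻¹ ((π β : Perm (Fin 6)) ((π x : Perm (Fin 6)) 4)) = 4
    rw [hβb]
    show (π x : Perm (Fin 6))⁻¹ (b ((π x : Perm (Fin 6)) 4)) = 4
    rw [hbj]
    exact (π x : Perm (Fin 6)).symm_apply_apply 4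
  obtain ⟨i, hi, hi0, hi'⟩ := act4 h d e hβ hβ4
  obtain ⟨j, hj, hj0, hj'⟩ := act4 h d e hγK hγ4
  have hpow : ∀ k : ℕ, k < 3 → k ≠ 0 → w ^ k ≠ 1 := by
    intro k hk hk0 h1
    interval_cases k
    · exact hk0 rfl
    · exact hw1 (by rw [← h1, pow_one])
    · apply hw1
      rw [pow_two] at h1
      rw [h1, mul_one] at hw
      exact hw
  have hone : (1 : F) * (1 * 1) = 1 := by ring
  have hxγ : ρ x * ρ γ = ρ β * ρ x := by
    rw [← map_mul, ← map_mul]
    congr 1
    rw [hγ]; group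
  set g1 := G (E0 (ρ t1) (ρ t2) (ρ t3)) (ρ ys) 1
  set gw := G (E0 (ρ t1) (ρ t2) (ρ t3)) (ρ ys) w
  have k1 : g1 * ρ β = g1 := by rw [(hi' 1 hone).2, one_pow, one_smul]
  have k2 : ρ γ * g1 = g1 := by rw [(hj' 1 hone).1, one_pow, one_smul]
  have k3 : gw * ρ β = w ^ i • gw := (hi' w hw).2
  have k4 : ρ γ * gw = w ^ j • gw := (hj' w hw).1
  constructor
  · have k5 : g1 * ρ x * gw = w ^ j • (g1 * ρ x * gw) := by
      calc g1 * ρ x * gw = g1 * (ρ β * ρ x) * gw := by rw [← mul_assoc, k1]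
        _ = g1 * ρ x * (ρ γ * gw) := by rw [← hxγ]; noncomm_ring
        _ = w ^ j • (g1 * ρ x * gw) := by rw [k4, mul_smul_comm]
    have k6 : (w ^ j - 1) • (g1 * ρ x * gw) = 0 := by rw [sub_smul, one_smul, ← k5, sub_self]
    exact (smul_eq_zero.1 k6).resolve_left (sub_ne_zero.2 (hpow j hj (hj0 hγ3 hγ1)))
  · have k5 : gw * ρ x * g1 = w ^ i • (gw * ρ x * g1) := by
      calc gw * ρ x * g1 = gw * ρ x * (ρ γ * g1) := by rw [k2]
        _ = gw * (ρ β * ρ x) * g1 := by rw [← hxγ]; noncomm_ring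
        _ = (gw * ρ β) * ρ x * g1 := by noncomm_ring
        _ = w ^ i • (gw * ρ x * g1) := by rw [k3, smul_mul_assoc, smul_mul_assoc]
    have k6 : (w ^ i - 1) • (gw * ρ x * g1) = 0 := by rw [sub_smul, one_smul, ← k5, sub_self]
    exact (smul_eq_zero.1 k6).resolve_left (sub_ne_zero.2 (hpow i hi (hi0 hβ3 hβ1)))

/-- **The case `dim V₀ = 3`.** -/
theorem case_two (hr1 : rk (E1 (ρ t1) (ρ t2) (ρ t3)) = 2) (hr0 : rk (E0 (ρ t1) (ρ t2) (ρ t3)) = 3) : False := by
  have g := gen (ρ := ρ) d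
  have gy1 := yyy' h d e
  have gy0 := yse0 h d e
  obtain ⟨w, hw, hw1⟩ := exists_omega h e
  obtain ⟨k, hk⟩ := h.toExt.exists_lf
  have hone : (1 : F) * (1 * 1) = 1 := by ring
  have k11 : G (E0 (ρ t1) (ρ t2) (ρ t3)) (ρ ys) 1 * G (E0 (ρ t1) (ρ t2) (ρ t3)) (ρ ys) 1 =
    G (E0 (ρ t1) (ρ t2) (ρ t3)) (ρ ys) 1 := gg g.e00 gy0 gy1 hone
  have kww : G (E0 (ρ t1) (ρ t2) (ρ t3)) (ρ ys) w * G (E0 (ρ t1) (ρ t2) (ρ t3)) (ρ ys) w =
    G (E0 (ρ t1) (ρ t2) (ρ t3)) (ρ ys) w := gg g.e00 gy0 gy1 hw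
  have kgk : ∀ x ∈ K π, G (E0 (ρ t1) (ρ t2) (ρ t3)) (ρ ys) 1 * ρ x * G (E0 (ρ t1) (ρ t2) (ρ t3)) (ρ ys) w = 0 ∧
      G (E0 (ρ t1) (ρ t2) (ρ t3)) (ρ ys) w * ρ x * G (E0 (ρ t1) (ρ t2) (ρ t3)) (ρ ys) 1 = 0 :=
    fun x hx => gkg h d e hw hw1 hx
  have kac : ∀ x ∈ K π, (π x : Perm (Fin 6)) 4 = 4 → ρ x * G (E0 (ρ t1) (ρ t2) (ρ t3)) (ρ ys) 1 =
      G (E0 (ρ t1) (ρ t2) (ρ t3)) (ρ ys) 1 ∧ G (E0 (ρ t1) (ρ t2) (ρ t3)) (ρ ys) 1 * ρ x =
      G (E0 (ρ t1) (ρ t2) (ρ t3)) (ρ ys) 1 := by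
    intro x hx h4
    obtain ⟨i, -, -, hi⟩ := act4 h d e hx h4
    have := hi 1 hone
    rwa [one_pow, one_smul] at this
  have rk1 := rk_G h d e hr0 hone
  have rkw := rk_G h d e hr0 hw
  have kyw := yg (E := E0 (ρ t1) (ρ t2) (ρ t3)) gy1 hw
  set g1 := G (E0 (ρ t1) (ρ t2) (ρ t3)) (ρ ys) 1
  set gw := G (E0 (ρ t1) (ρ t2) (ρ t3)) (ρ ys) w
  -- the vectors
  have hv : ∃ v : V, v ≠ 0 ∧ g1 v = v ∧ ∀ x, ∃ c : F, g1 x = c • v := by
    obtain ⟨v, hv, hv'⟩ := finrank_eq_one_iff'.1 rk1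
    refine ⟨v, fun h0 => hv (Subtype.ext h0), apply_of_mem k11 v.2, fun x => ?_⟩
    obtain ⟨c, hc⟩ := hv' ⟨g1 x, x, rfl⟩
    exact ⟨c, (congrArg Subtype.val hc).symm⟩
  obtain ⟨v, hv0, hgv, hvx⟩ := hv
  have hu : ∃ u : V, u ≠ 0 ∧ gw u = u := by
    obtain ⟨u, hu, -⟩ := finrank_eq_one_iff'.1 rkw
    exact ⟨u, fun h0 => hu (Subtype.ext h0), apply_of_mem kww u.2⟩
  obtain ⟨u, hu0, hgu⟩ := hu
  obtain ⟨φ, hφ⟩ := Module.Projective.exists_dual_eq_one F hv0
  let l : Dual F V := φ ∘ₗ g1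
  have hl : ∀ x, g1 x = l x • v := by
    intro x
    obtain ⟨c, hc⟩ := hvx x
    have : l x = c := by
      show φ (g1 x) = c
      rw [hc, map_smul, hφ, smul_eq_mul, mul_one]
    rw [this, hc]
  have hlv : l v = 1 := by
    show φ (g1 v) = 1
    rw [hgv, hφ]
  have hl0 : l ≠ 0 := by
    intro h0
    rw [h0, LinearMap.zero_apply] at hlv
    exact zero_ne_one hlv
  have hvfix : ∀ x ∈ K π, (π x : Perm (Fin 6)) 4 = 4 → ρ x v = v := by
    intro x hx h4
    have := LinearMap.congr_fun (kac x hx h4).1 v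
    rwa [Module.End.mul_apply, hgv] at this
  have hlfix : ∀ x ∈ K π, (π x : Perm (Fin 6)) 4 = 4 → l ∘ₗ ρ x = l := by
    intro x hx h4
    have := (kac x hx h4).2
    show (φ ∘ₗ g1) ∘ₗ ρ x = φ ∘ₗ g1
    rw [LinearMap.comp_assoc]
    congr 1
  -- points of `V`
  have hno : ∀ w : V, (∀ x ∈ K π, ρ x w = w) → w = 0 := fun w hw => h.noFix hw
  have p1 := pt_sum hk ρ hno hvfix
  have p2 := pt_ne h.toExt hk ρ hno hv0 hvfix
  have peq : ∀ {x : P}, x ∈ K π → ∀ {j : Fin 6}, j ≠ 5 → ρ x (ρ (k j) v) = ρ (k ((π x : Perm (Fin 6)) j)) v :=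
    fun {x} hx {j} hj => pt_equiv hk ρ hvfix hx hj
  have q1 : ρ t1 (ρ (k 0) v) = ρ (k 1) v := by
    have := peq e.mt1 (j := 0) (by decide)
    rw [d.q1] at this; exact this
  have q2 : ρ t2 (ρ (k 0) v) = ρ (k 2) v := by
    have := peq e.mt2 (j := 0) (by decide)
    rw [d.q2] at this; exact this
  have q3 : ρ t3 (ρ (k 0) v) = ρ (k 3) v := by
    have := peq e.mt3 (j := 0) (by decide)
    rw [d.q3] at this; exact this
  have hk4 : ρ (k 4) v = v := by rw [hk.k4 h.toExt, map_one]; rfl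
  have lt : ∀ t ∈ K π, (π t : Perm (Fin 6)) 4 = 4 → ∀ x, l (ρ t x) = l x := fun t ht h4 x =>
    LinearMap.congr_fun (hlfix t ht h4) x
  have l1 := lt t1 e.mt1 (by rw [d.q1]; decide)
  have l2 := lt t2 e.mt2 (by rw [d.q2]; decide)
  have l3 := lt t3 e.mt3 (by rw [d.q3]; decide)
  have l0 : l (ρ (k 0) v) = 1 := by
    have h1 := congrArg l p1
    rw [map_add, map_add, map_add, map_add, map_zero, ← q1, ← q2, ← q3, l1, l2, l3, hk4, hlv] at h1
    linear_combination -h1 + l (ρ (k 0) v) * five0 F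
  have lall : ∀ j : Fin 6, j ≠ 5 → l (ρ (k j) v) = 1 := by
    intro j hj
    fin_cases j
    · exact l0
    · show l (ρ (k 1) v) = 1
      rw [← q1, l1, l0]
    · show l (ρ (k 2) v) = 1
      rw [← q2, l2, l0]
    · show l (ρ (k 3) v) = 1
      rw [← q3, l3, l0]
    · show l (ρ (k 4) v) = 1
      rw [hk4, hlv]
    · exact absurd rfl hj
  have four5 : ∀ x ∈ K π, (π x : Perm (Fin 6)) 4 ≠ 5 := by
    intro x hx h7
    have hx5 : (π x : Perm (Fin 6)) 5 = 5 := K_le_Q hx
    have : (4 : Fin 6) = 5 := (π x : Perm (Fin 6)).injective (h7.trans hx5.symm)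
    exact absurd this (by decide)
  have lx : ∀ x ∈ K π, l (ρ x v) = 1 := by
    intro x hx
    have := peq hx (j := 4) (by decide)
    rw [hk4] at this
    rw [this]
    exact lall _ (four5 x hx)
  -- the submodule `M₀`
  let M0 : Submodule F V := Submodule.span F {z | ∃ x ∈ K π, z = ρ x v - v}
  have hM0 : ∀ x ∈ K π, ρ x v - v ∈ M0 := fun x hx => Submodule.subset_span ⟨x, hx, rfl⟩
  have hM0' : ∀ z ∈ K π, ∀ m ∈ M0, ρ z m ∈ M0 := by
    intro z hz m hm
    induction hm using Submodule.span_induction with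
    | mem m hm =>
      obtain ⟨x, hx, rfl⟩ := hm
      have h1 : ρ z (ρ x v - v) = (ρ (z * x) v - v) - (ρ z v - v) := by
        rw [map_sub, map_mul, Module.End.mul_apply]; abel
      rw [h1]
      exact M0.sub_mem (hM0 _ (mul_mem hz hx)) (hM0 _ hz)
    | zero => rw [map_zero]; exact M0.zero_mem
    | add a b _ _ ha hb => rw [map_add]; exact M0.add_mem ha hb
    | smul c a _ ha => rw [map_smul]; exact M0.smul_mem _ ha
  have hgwM : ∀ m ∈ M0, gw m = 0 := by
    have h1 : ∀ x ∈ K π, gw (ρ x v) = 0 := by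
      intro x hx
      have := LinearMap.congr_fun (kgk x hx).2 v
      rw [Module.End.mul_apply, Module.End.mul_apply, hgv] at this
      exact this
    intro m hm
    induction hm using Submodule.span_induction with
    | mem m hm =>
      obtain ⟨x, hx, rfl⟩ := hm
      have h2 := h1 1 (one_mem _)
      rw [map_one] at h2
      have h3 : gw v = 0 := h2
      rw [map_sub, h1 x hx, h3, sub_zero]
    | zero => exact map_zero _
    | add a b _ _ ha hb => rw [map_add, ha, hb, add_zero]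
    | smul c a _ ha => rw [map_smul, ha, smul_zero]
  -- the vector `x₁`
  set x1 : V := ρ (k 0) v + ρ (k 1) v - ρ (k 2) v - ρ (k 3) v with hx1
  have hx1M : x1 ∈ M0 := by
    have h1 : x1 = (ρ (k 0) v - v) + (ρ (k 1) v - v) - (ρ (k 2) v - v) - (ρ (k 3) v - v) := by rw [hx1]; abel
    rw [h1]
    exact M0.sub_mem (M0.sub_mem (M0.add_mem (hM0 _ (hk.mem _)) (hM0 _ (hk.mem _))) (hM0 _ (hk.mem _)))
      (hM0 _ (hk.mem _))
  have r1 : ∀ j i : Fin 6, j ≠ 5 → (a1 : Perm (Fin 6)) j = i → ρ t1 (ρ (k j) v) = ρ (k i) v := by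
    intro j i hj hi
    have := peq e.mt1 hj
    rw [d.q1, hi] at this; exact this
  have r2 : ∀ j i : Fin 6, j ≠ 5 → (a2 : Perm (Fin 6)) j = i → ρ t2 (ρ (k j) v) = ρ (k i) v := by
    intro j i hj hi
    have := peq e.mt2 hj
    rw [d.q2, hi] at this; exact this
  have r3 : ∀ j i : Fin 6, j ≠ 5 → (a3 : Perm (Fin 6)) j = i → ρ t3 (ρ (k j) v) = ρ (k i) v := by
    intro j i hj hi
    have := peq e.mt3 hj
    rw [d.q3, hi] at this; exact this
  have f5 : ∀ v : V, (5 : F) • v = 0 := fun v => by rw [five0 F, zero_smul]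
  have hE1x : E1 (ρ t1) (ρ t2) (ρ t3) x1 = x1 := by
    have s1 : ρ t1 x1 = x1 := by
      rw [hx1, map_sub, map_sub, map_add, r1 0 1 (by decide) (by decide), r1 1 0 (by decide) (by decide),
        r1 2 3 (by decide) (by decide), r1 3 2 (by decide) (by decide)]
      abel
    have s2 : ρ t2 x1 = -x1 := by
      rw [hx1, map_sub, map_sub, map_add, r2 0 2 (by decide) (by decide), r2 1 3 (by decide) (by decide),
        r2 2 0 (by decide) (by decide), r2 3 1 (by decide) (by decide)]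
      abel
    have s3 : ρ t3 x1 = -x1 := by
      rw [hx1, map_sub, map_sub, map_add, r3 0 3 (by decide) (by decide), r3 1 2 (by decide) (by decide),
        r3 2 1 (by decide) (by decide), r3 3 0 (by decide) (by decide)]
      abel
    unfold E1
    rw [LinearMap.neg_apply, LinearMap.sub_apply, LinearMap.sub_apply, LinearMap.add_apply, s1, s2, s3,
      Module.End.one_apply]
    linear_combination (norm := module) -f5 x1
  -- the functional `ξ`
  let σ : P →* End F (Dual F V) := Representation.dual ρ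
  have hσ : ∀ (x : P) (m : Dual F V), σ x m = m ∘ₗ ρ x⁻¹ := fun x m => rfl
  have hno' : ∀ m : Dual F V, (∀ x ∈ K π, σ x m = m) → m = 0 := by
    intro m hm
    apply h.noFix'
    intro x hx
    have := hm x⁻¹ (inv_mem hx)
    rwa [hσ, inv_inv] at this
  have hlfix' : ∀ x ∈ K π, (π x : Perm (Fin 6)) 4 = 4 → σ x l = l := by
    intro x hx h4
    rw [hσ]
    apply hlfix x⁻¹ (inv_mem hx)
    rw [map_inv]
    show (π x : Perm (Fin 6))⁻¹ 4 = 4
    calc (π x : Perm (Fin 6))⁻¹ 4 = (π x : Perm (Fin 6))⁻¹ ((π x : Perm (Fin 6)) 4) := by rw [h4]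
      _ = 4 := (π x : Perm (Fin 6)).symm_apply_apply 4
  have p2' := pt_ne h.toExt hk σ hno' hl0 hlfix'
  have peq' : ∀ {x : P}, x ∈ K π → ∀ {j : Fin 6}, j ≠ 5 → σ x (σ (k j) l) = σ (k ((π x : Perm (Fin 6)) j)) l :=
    fun {x} hx {j} hj => pt_equiv hk σ hlfix' hx hj
  have r1' : ∀ j i : Fin 6, j ≠ 5 → (a1 : Perm (Fin 6)) j = i → σ t1 (σ (k j) l) = σ (k i) l := by
    intro j i hj hi
    have := peq' e.mt1 hj
    rw [d.q1, hi] at this; exact this
  have r2' : ∀ j i : Fin 6, j ≠ 5 → (a2 : Perm (Fin 6)) j = i → σ t2 (σ (k j) l) = σ (k i) l := by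
    intro j i hj hi
    have := peq' e.mt2 hj
    rw [d.q2, hi] at this; exact this
  have r3' : ∀ j i : Fin 6, j ≠ 5 → (a3 : Perm (Fin 6)) j = i → σ t3 (σ (k j) l) = σ (k i) l := by
    intro j i hj hi
    have := peq' e.mt3 hj
    rw [d.q3, hi] at this; exact this
  set ξ : Dual F V := σ (k 0) l + σ (k 1) l - σ (k 2) l - σ (k 3) l with hξ
  have i1 : t1⁻¹ = t1 := inv_eq_of_mul_eq_one_left d.i1
  have i2 : t2⁻¹ = t2 := inv_eq_of_mul_eq_one_left d.i2
  have i3 : t3⁻¹ = t3 := inv_eq_of_mul_eq_one_left d.i3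
  have z1 : ∀ x, ξ (ρ t1 x) = ξ x := by
    have h1 : σ t1 ξ = ξ := by
      rw [hξ, map_sub, map_sub, map_add, r1' 0 1 (by decide) (by decide), r1' 1 0 (by decide) (by decide),
        r1' 2 3 (by decide) (by decide), r1' 3 2 (by decide) (by decide)]
      abel
    intro x
    have := LinearMap.congr_fun h1 x
    rw [hσ, i1] at this
    exact this
  have z2 : ∀ x, ξ (ρ t2 x) = -ξ x := by
    have h1 : σ t2 ξ = -ξ := by
      rw [hξ, map_sub, map_sub, map_add, r2' 0 2 (by decide) (by decide), r2' 1 3 (by decide) (by decide),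
        r2' 2 0 (by decide) (by decide), r2' 3 1 (by decide) (by decide)]
      abel
    intro x
    have := LinearMap.congr_fun h1 x
    rw [hσ, i2] at this
    exact this
  have z3 : ∀ x, ξ (ρ t3 x) = -ξ x := by
    have h1 : σ t3 ξ = -ξ := by
      rw [hξ, map_sub, map_sub, map_add, r3' 0 3 (by decide) (by decide), r3' 1 2 (by decide) (by decide),
        r3' 2 1 (by decide) (by decide), r3' 3 0 (by decide) (by decide)]
      abel
    intro x
    have := LinearMap.congr_fun h1 x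
    rw [hσ, i3] at this
    exact this
  have hξE : ∀ x, ξ (E1 (ρ t1) (ρ t2) (ρ t3) x) = ξ x := fun x => xiE ξ z1 z2 z3 x
  have hkk : ∀ j : Fin 6, (k j)⁻¹ = k j := fun j => inv_eq_of_mul_eq_one_left (hk.sq j)
  have hξa : ∀ x, ξ x = l (ρ (k 0) x) + l (ρ (k 1) x) - l (ρ (k 2) x) - l (ρ (k 3) x) := by
    intro x
    rw [hξ, hσ, hσ, hσ, hσ, hkk, hkk, hkk, hkk]
    rfl
  -- the submodule `X`
  let X : V → Prop := fun z => ∀ x ∈ K π, l (ρ x z) = l z
  have hXK : ∀ z, X z → ∀ x ∈ K π, X (ρ x z) := by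
    intro z hz x hx y hy
    have h1 := hz (y * x) (mul_mem hy hx)
    rw [map_mul, Module.End.mul_apply] at h1
    rw [h1, hz x hx]
  have hXξ : ∀ z, X z → ξ z = 0 := by
    intro z hz
    rw [hξa, hz _ (hk.mem 0), hz _ (hk.mem 1), hz _ (hk.mem 2), hz _ (hk.mem 3)]
    ring
  have hXv : X v := fun x hx => by rw [lx x hx, hlv]
  have hXM : ∀ m ∈ M0, X m := by
    intro m hm x hx
    have h1 : ∀ m ∈ M0, l m = 0 := by
      intro m hm
      induction hm using Submodule.span_induction with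
      | mem m hm =>
        obtain ⟨x, hx, rfl⟩ := hm
        rw [map_sub, lx x hx, hlv, sub_self]
      | zero => exact map_zero _
      | add a b _ _ ha hb => rw [map_add, ha, hb, add_zero]
      | smul c a _ ha => rw [map_smul, ha, smul_zero]
    rw [h1 m hm, h1 _ (hM0' x hx m hm)]
  have hXu : X u := by
    have h1 : ∀ x ∈ K π, l (ρ x u) = 0 := by
      intro x hx
      have h2 := LinearMap.congr_fun (kgk x hx).1 u
      rw [Module.End.mul_apply, Module.End.mul_apply, hgu, hl] at h2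
      exact (smul_eq_zero.1 h2).resolve_right hv0
    intro x hx
    have h2 := h1 1 (one_mem _)
    rw [map_one] at h2
    rw [h1 x hx]
    exact h2.symm
  -- `E₁ X ≤ M₀`
  have hE1X : ∀ z, X z → E1 (ρ t1) (ρ t2) (ρ t3) z ∈ M0 := by
    intro z hz
    let R := LinearMap.range (E1 (ρ t1) (ρ t2) (ρ t3))
    let ξR : Dual F R := ξ ∘ₗ R.subtype
    have hξR : ξR ≠ 0 := by
      intro h0
      apply p2'
      ext x
      rw [LinearMap.zero_apply, ← hξE x]
      exact LinearMap.congr_fun h0 ⟨_, x, rfl⟩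
    have hk1 : finrank F (LinearMap.ker ξR) = 1 := by
      have h1 := LinearMap.finrank_range_add_finrank_ker ξR
      have h2 : LinearMap.range ξR = ⊤ := LinearMap.range_eq_top.2 (LinearMap.surjective hξR)
      have h3 : finrank F R = 2 := hr1
      rw [h2, finrank_top, finrank_self, h3] at h1
      omega
    have mx1 : (⟨x1, x1, hE1x⟩ : R) ∈ LinearMap.ker ξR := by
      rw [LinearMap.mem_ker]
      show ξ x1 = 0
      exact hXξ x1 (hXM x1 hx1M)
    have mz : (⟨E1 (ρ t1) (ρ t2) (ρ t3) z, z, rfl⟩ : R) ∈ LinearMap.ker ξR := by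
      rw [LinearMap.mem_ker]
      show ξ (E1 (ρ t1) (ρ t2) (ρ t3) z) = 0
      rw [hξE, hXξ z hz]
    have hne : (⟨⟨x1, x1, hE1x⟩, mx1⟩ : LinearMap.ker ξR) ≠ 0 := by
      intro h0
      exact p2 (congrArg (fun a : LinearMap.ker ξR => ((a : R) : V)) h0)
    obtain ⟨c, hc⟩ := (finrank_eq_one_iff_of_nonzero' _ hne).1 hk1 ⟨_, mz⟩
    have h4 : c • x1 = E1 (ρ t1) (ρ t2) (ρ t3) z := congrArg (fun a : LinearMap.ker ξR => ((a : R) : V)) hc
    rw [← h4]
    exact M0.smul_mem _ hx1M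
  have hyy : ∀ z, ρ ys (ρ (ys * ys) z) = z := by
    intro z
    rw [map_mul]
    exact LinearMap.congr_fun gy1 z
  have hE3X : ∀ z, X z → E3 (ρ t1) (ρ t2) (ρ t3) z ∈ M0 := by
    intro z hz
    have h1 : E3 (ρ t1) (ρ t2) (ρ t3) z = ρ ys (E1 (ρ t1) (ρ t2) (ρ t3) (ρ (ys * ys) z)) := by
      have h2 := LinearMap.congr_fun (yse1 h d e) (ρ (ys * ys) z)
      rw [Module.End.mul_apply, Module.End.mul_apply, hyy] at h2
      exact h2.symm
    rw [h1]
    exact hM0' _ e.mys _ (hE1X _ (hXK z hz _ (mul_mem e.mys e.mys)))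
  have hE2X : ∀ z, X z → E2 (ρ t1) (ρ t2) (ρ t3) z ∈ M0 := by
    intro z hz
    have h1 : E2 (ρ t1) (ρ t2) (ρ t3) z = ρ ys (E3 (ρ t1) (ρ t2) (ρ t3) (ρ (ys * ys) z)) := by
      have h2 := LinearMap.congr_fun (yse3 h d e) (ρ (ys * ys) z)
      rw [Module.End.mul_apply, Module.End.mul_apply, hyy] at h2
      exact h2.symm
    rw [h1]
    exact hM0' _ e.mys _ (hE3X _ (hXK z hz _ (mul_mem e.mys e.mys)))
  have hT1 : ∀ z, X z → ρ t1 z - z ∈ M0 := by
    intro z hz
    have h1 : ρ t1 z - z = (-2 : F) • (E2 (ρ t1) (ρ t2) (ρ t3) z + E3 (ρ t1) (ρ t2) (ρ t3) z) := by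
      unfold E2 E3
      simp only [LinearMap.neg_apply, LinearMap.sub_apply, LinearMap.add_apply, Module.End.one_apply]
      linear_combination (norm := module) -f5 (z - ρ t1 z)
    rw [h1]
    exact M0.smul_mem _ (M0.add_mem (hE2X z hz) (hE3X z hz))
  have hU : ∀ u' h' : P, h' ∈ K π → h' * t1 = u' * h' → ∀ z, X z → ρ u' z - z ∈ M0 := by
    intro u' h' hh' huh z hz
    have h1 := hT1 _ (hXK z hz h'⁻¹ (inv_mem hh'))
    have h2 := hM0' h' hh' _ h1
    rw [map_sub, ← Module.End.mul_apply, ← Module.End.mul_apply, ← Module.End.mul_apply, ← map_mul, ← map_mul,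
      ← map_mul] at h2
    have h3 : h' * t1 * h'⁻¹ = u' := by rw [huh, mul_inv_cancel_right]
    have h4 : h' * h'⁻¹ = 1 := mul_inv_cancel h'
    rw [h3, h4, map_one] at h2
    exact h2
  have hfin : ρ ys u - u ∈ M0 := by
    have h3 := hU u2 h2 e.mh2 e.hu2 u hXu
    have h4 := hU u1 h1 e.mh1 e.hu1 u hXu
    have h5 := hM0' u1 e.mu1 _ h3
    have h6 : ρ ys u - u = ρ u1 (ρ u2 u - u) + (ρ u1 u - u) := by
      rw [← e.uu, map_mul, Module.End.mul_apply, map_sub]; abel
    rw [h6]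
    exact M0.add_mem h5 h4
  have hyu : ρ ys u = w • u := by
    have := LinearMap.congr_fun kyw u
    rw [Module.End.mul_apply, hgu, LinearMap.smul_apply, hgu] at this
    exact this
  have huM : u ∈ M0 := by
    rw [hyu] at hfin
    have h7 : w • u - u = (w - 1) • u := by rw [sub_smul, one_smul]
    rw [h7] at hfin
    have h8 := M0.smul_mem (w - 1)⁻¹ hfin
    rwa [smul_smul, inv_mul_cancel₀ (sub_ne_zero.2 hw1), one_smul] at h8
  have h9 := hgwM u huM
  rw [hgu] at h9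
  exact hu0 h9

end main

/-- **There is no absolutely irreducible representation of degree `9`.** -/
theorem Rep.false {P : Type*} [Group P] {π : P →* A6} {ρ : P →* End F V} (h : Rep π ρ) : False := by
  obtain ⟨t1, t2, t3, s, y, d⟩ := h.toExt.exists_elt
  obtain ⟨ys, u1, u2, h1, h2, e⟩ := exists_ke h.toExt d
  rcases cases h d with ⟨k1, k2, -⟩ | ⟨k1, k2⟩
  · exact case_two h d e k1 k2
  · exact case_three h d k1 k2

end Cfsg.Agent.H793.TA
end

-- part: H793/TA/Nine
section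
/-!
# `3·A₆` has no absolutely irreducible representation of degree nine in characteristic five (helper793, S5830/S5833)

* `not_nine` : `P ≤ GL₉(F)`, `char F = 5`, `Core P`, `Soc P ≃ A₆`, `3 ∣ |P ∩ scalars|` ⟹ `False`;
* `five` : the traces (vacuous).
-/

set_option autoImplicit false

namespace Cfsg.Agent.H793.TA

open Cfsg Cfsg.Geo Matrix Cfsg.Agent.H915.LD Module

universe u

variable {F : Type u} [Field F]

/-- the representation of a matrix group -/
noncomputable def repOf (P : Subgroup (GL (Fin 9) F)) : P →* Module.End F (Fin 9 → F) :=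
  ((Matrix.toLinAlgEquiv' : Matrix (Fin 9) (Fin 9) F ≃ₐ[F] _) : Matrix (Fin 9) (Fin 9) F →* Module.End F (Fin 9 → F)).comp
    ((Units.coeHom _).comp P.subtype)

theorem repOf_apply (P : Subgroup (GL (Fin 9) F)) (g : P) :
    repOf P g = Matrix.toLinAlgEquiv' ((g : GL (Fin 9) F) : Matrix (Fin 9) (Fin 9) F) := rfl

theorem rep_of [CharP F 5] {P : Subgroup (GL (Fin 9) F)} (hC : Core P) (e : Soc P ≃* alternatingGroup (Fin 6))
    (h3 : 3 ∣ Nat.card ((scalars (Fin 9) F).subgroupOf P)) : Rep (e.toMonoidHom.comp (toSoc P)) (repOf P) := by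
  have hker : ∀ z : P, (e.toMonoidHom.comp (toSoc P)) z = 1 ↔ z ∈ (scalars (Fin 9) F).subgroupOf P := by
    intro z
    rw [← MonoidHom.mem_ker, ker_comp]
  refine ⟨⟨e.surjective.comp (toSoc_surjective P), ?_, ?_, hC.commutator_top, ?_⟩, ?_, ?_, ?_, ?_⟩
  · intro z hz g
    exact ((Subgroup.mem_center_iff.1 (scalars_le_center ((hker z).1 hz))) g).symm
  · intro z hz
    have := hC.pow_card ((hker z).1 hz)
    rwa [Fintype.card_fin] at this
  · by_contra hcon
    push Not at hcon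
    have h1 : (scalars (Fin 9) F).subgroupOf P = ⊥ := by
      rw [Subgroup.eq_bot_iff_forall]
      intro z hz
      exact hcon z ((hker z).2 hz)
    rw [h1, Subgroup.card_bot] at h3
    omega
  · intro a b hab
    apply Subtype.ext
    apply Units.ext
    exact Matrix.toLinAlgEquiv'.injective hab
  · intro z hz
    have h1 := (hker z).1 hz
    rw [Subgroup.mem_subgroupOf, mem_scalars_iff] at h1
    obtain ⟨c, hc⟩ := h1
    refine ⟨c, ?_⟩
    rw [repOf_apply, hc, map_smul, map_one]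
  · have h1 := Cfsg.Agent.H920.span_eq_top hC.absIrred
    have h2 : Set.range (repOf P) = (Matrix.toLinAlgEquiv' : Matrix (Fin 9) (Fin 9) F ≃ₐ[F] _).toLinearMap ''
        (matrixSet P) := by
      ext A
      constructor
      · rintro ⟨g, rfl⟩
        exact ⟨_, ⟨g, g.2, rfl⟩, rfl⟩
      · rintro ⟨_, ⟨g, hg, rfl⟩, rfl⟩
        exact ⟨⟨g, hg⟩, rfl⟩
    rw [h2, ← Submodule.map_span, h1, Submodule.map_top, LinearMap.range_eq_top]
    exact (Matrix.toLinAlgEquiv' : Matrix (Fin 9) (Fin 9) F ≃ₐ[F] _).surjective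
  · rw [Module.finrank_fintype_fun_eq_card, Fintype.card_fin]

/-- **`3·A₆` has no absolutely irreducible representation of degree nine in characteristic five.** -/
theorem not_nine [CharP F 5] {P : Subgroup (GL (Fin 9) F)} (hC : Core P) (e : Soc P ≃* alternatingGroup (Fin 6))
    (h3 : 3 ∣ Nat.card ((scalars (Fin 9) F).subgroupOf P)) : False :=
  (rep_of hC e h3).false

end Cfsg.Agent.H793.TA
end

-- part: H956/K1/Final
section
/-!
# Socle `A₆` in dimension nine (helper956)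

* `not_core_linear`, `not_core_unitary` : a residual core with socle `A₆`, not self-dual, is impossible in a maximal
  subgroup of `SL₉(q)`, `SU₉(q)`, in characteristic `≠ 3`.
-/

set_option autoImplicit false

namespace Cfsg.Agent.H956.K1

open Matrix Cfsg Cfsg.Geo Cfsg.Agent.H920.Nine Cfsg.Agent.H915.LD

universe u

variable {F : Type u} [Field F] [Fintype F]

theorem five_of_core {P : Subgroup (GL (Fin 9) F)} (hC : Core P) (e : Soc P ≃* alternatingGroup (Fin 6))
    (hsd : ¬ SD P) : Five P := by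
  intro h5
  have : Fact (Nat.Prime 5) := ⟨by norm_num⟩
  have hch : CharP F 5 := by
    refine (CharP.charP_iff_prime_eq_zero (by norm_num)).2 ?_
    exact_mod_cast h5
  exact (H793.TA.not_nine hC e (dvd_of_eq (card_scalars hC e hsd).symm)).elim

/-- **The linear case.** -/
theorem not_core_linear (p : ℕ) [Fact p.Prime] [CharP F p] (hp3 : p ≠ 3) {H P : Subgroup (GL (Fin 9) F)}
    (hH : IsMaximalIn (specialLinear (Fin 9) F) H) (hP : IsResidualCore H P)
    (e : Soc P ≃* alternatingGroup (Fin 6)) (hsd : ¬ SD P) : False :=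
  not_core_linear_of p hp3 hH hP e hsd (five_of_core (core_of_residual hP) e hsd)

/-- **The unitary case.** -/
theorem not_core_unitary (p : ℕ) [Fact p.Prime] [CharP F p] (hp3 : p ≠ 3) {q : ℕ} (hF : Fintype.card F = q ^ 2)
    {H P : Subgroup (GL (Fin 9) F)}
    (hH : IsMaximalIn (GU 9 F q ⊓ specialLinear (Fin 9) F) H) (hP : IsResidualCore H P)
    (e : Soc P ≃* alternatingGroup (Fin 6)) (hsd : ¬ SD P) : False :=
  not_core_unitary_of p hp3 hF hH hP e hsd (five_of_core (core_of_residual hP) e hsd)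

end Cfsg.Agent.H956.K1
end
end

-- part: H920/NineAsm
section
set_option linter.all false
open scoped Cfsg.Agent.FastGrp

-- part: H920/NineCross
section
/-!
# Dimension nine: the simple groups that are not of Lie type in the characteristic (helper920)
-/

set_option autoImplicit false
set_option linter.unusedSectionVars false
set_option linter.style.haveILetI false

namespace Cfsg.Agent.H920.Nine

open Cfsg Cfsg.Geo Matrix
open H915.LD (Core Soc tr SD Fr Cj)
open H912.Bd (IsL IsU IsS IsOP)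

universe u

variable {F : Type u} [Field F] [Fintype F] {P : Subgroup (GL (Fin 9) F)} (p : ℕ) [hp : Fact p.Prime] [hFp : CharP F p]

/-- the cross characteristic possibilities that are not self-dual -/
def Cross9 (p : ℕ) (P : Subgroup (GL (Fin 9) F)) : Prop :=
  (∃ (K : Type) (_ : Field K) (_ : Fintype K), 5 ≤ Fintype.card K ∧ Fintype.card K ≠ 9 ∧ ¬ p ∣ Fintype.card K ∧
    Nonempty (Soc P ≃* ProjectiveSpecialLinearGroup (Fin 2) K)) ∨
  (p ≠ 3 ∧ Nonempty (Soc P ≃* alternatingGroup (Fin 6))) ∨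
  (Nonempty (Soc P ≃* alternatingGroup (Fin 7)) ∧ p = 7 ∧ Fr P 7) ∨
  (Cfsg.Spor.IsoJ3 (Soc P) ∧ p = 2 ∧ Cj P 2)

/-- the rows still open -/
structure CrossRows (p : ℕ) (P : Subgroup (GL (Fin 9) F)) : Prop where
  a7 : (Soc P ≃* alternatingGroup (Fin 7)) → SD P ∨ (p = 7 ∧ Fr P 7)
  alt : ∀ m, 8 ≤ m → m ≤ 13 → (p ≠ 5 → m ≤ 11) → ¬ IsLieTypeChar p (Soc P) → (Soc P ≃* alternatingGroup (Fin m)) → SD P
  l33 : p ≠ 3 → IsL 3 3 (Soc P) → SD P
  u33 : p ≠ 3 → IsU 3 3 (Soc P) → SD P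
  u42 : p ≠ 2 → p ≠ 3 → IsU 4 2 (Soc P) → SD P
  u52 : p ≠ 2 → IsU 5 2 (Soc P) → SD P
  u43 : p ≠ 3 → IsU 4 3 (Soc P) → SD P
  g23 : p ≠ 3 → H912.Bd.IsG2 3 (Soc P) → SD P
  sz8 : p ≠ 2 → H912.Bd.IsSz8 (Soc P) → SD P
  spor : IsSporadicGroup (Soc P) → SD P ∨ (Cfsg.Spor.IsoJ3 (Soc P) ∧ p = 2 ∧ Cj P 2)

theorem two_ne {p : ℕ} [hp : Fact p.Prime] [CharP F p] (h : p ≠ 2) : (2 : F) ≠ 0 := by
  intro h0
  have h1 : ((2 : ℕ) : F) = 0 := by exact_mod_cast h0
  rw [CharP.cast_eq_zero_iff F p] at h1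
  exact h ((Nat.prime_dvd_prime_iff_eq hp.out Nat.prime_two).1 h1)

theorem zero_or_one {K : Type*} [Field K] [Fintype K] (hK : Fintype.card K = 2) (x : K) : x = 0 ∨ x = 1 := by
  classical
  by_contra h
  push Not at h
  have h1 : ({0, 1, x} : Finset K).card = 3 := by
    rw [Finset.card_insert_of_notMem, Finset.card_insert_of_notMem, Finset.card_singleton]
    · simp only [Finset.mem_singleton]
      exact fun h2 => h.2 h2.symm
    · simp only [Finset.mem_insert, Finset.mem_singleton]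
      rintro (h2 | h2)
      · exact zero_ne_one h2
      · exact h.1 h2.symm
  have h2 := Finset.card_le_univ ({0, 1, x} : Finset K)
  omega

end Cfsg.Agent.H920.Nine
end

-- part: H920/NineRows
section
/-!
# Dimension nine: landed rows (helper920)
-/

set_option autoImplicit false
set_option linter.unusedSectionVars false
set_option linter.style.haveILetI false

namespace Cfsg.Agent.H920.Nine

open Cfsg Cfsg.Geo Matrix
open H915.LD (Core Soc tr SD Fr Cj)
open H912.Bd (IsL IsU IsS IsOP)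

universe u

variable {F : Type u} [Field F] [Fintype F] {P : Subgroup (GL (Fin 9) F)} (p : ℕ) [hp : Fact p.Prime] [hFp : CharP F p]

include hFp in
theorem three_ne (h3 : p ≠ 3) : (3 : F) ≠ 0 := by
  intro h0
  have h1 : ((3 : ℕ) : F) = 0 := by exact_mod_cast h0
  rw [CharP.cast_eq_zero_iff F p] at h1
  exact h3 ((Nat.prime_dvd_prime_iff_eq hp.out Nat.prime_three).1 h1)

include hFp hp in
/-- `A_m`, `m ≥ 8` -/
theorem alt_row (hC : Core P) {m : ℕ} (h8 : 8 ≤ m) (hL : ¬ IsLieTypeChar p (Soc P))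
    (e : Soc P ≃* alternatingGroup (Fin m)) : SD P := by
  rcases H825.Spin.alt_red hC p e h8 (by simp) with ⟨e', -⟩ | h
  · by_cases h2 : p = 2
    · subst h2
      have h9 : 9 ≤ m := by
        rcases Nat.lt_or_ge 8 m with h | h
        · exact h
        · obtain rfl : m = 8 := by omega
          exact (hL (H219.HerSmall.lie_alt8 e)).elim
      have hirr := H964.AltMod.irr_rep e' hC
      obtain ⟨a, v, hv⟩ := H964.AltMod.exists_move_rep e' hC
      have h3 : ((3 : ℕ) : F) ≠ 0 := by exact_mod_cast three_ne (F := F) 2 (by norm_num)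
      rcases H614.AMod.nine (by simpa only [_root_.Fintype.card_fin] using h9) h3 (by simp) hirr hv with h | h
      · obtain ⟨w, hw⟩ := H964.AltMod.exists_natM e' hC (by simpa only [_root_.Fintype.card_fin] using h8) h
        exact H964.AltMod.sd hC (by simpa using h8) hw
      · have := h.1
        simp at this
    · obtain ⟨w, hw⟩ := H964.AltMod.exists_natM_odd e' hC (by simpa only [_root_.Fintype.card_fin] using h8) (two_ne (p := p) h2) (by simp)
      exact H964.AltMod.sd hC (by simpa using h8) hw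
  · have := h.1
    simp at this

include hFp hp in
/-- `U_4(2)` -/
theorem u42_row (hC : Core P) (h2 : p ≠ 2) (h3 : p ≠ 3) : ¬ IsU 4 2 (Soc P) := by
  rintro ⟨K, i1, i2, hK, ⟨e⟩⟩
  have h := H659.Sp4.u42_stage' hC p h2 h3 (by simp) hK e
  simp only [_root_.Fintype.card_fin, _root_.Nat.reduceEqDiff, _root_.or_self, _root_.Subgroup.subgroupOf_eq_bot, _root_.false_and] at h

include hFp hp in
/-- `U_5(2)` -/
theorem u52_row (hC : Core P) (h2 : p ≠ 2) : ¬ IsU 5 2 (Soc P) := by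
  rintro ⟨K, i1, i2, hK, ⟨e⟩⟩
  have h := H36.U52.t6 hC p h2 (by norm_num) hK e
  omega

end Cfsg.Agent.H920.Nine
end

-- part: H920/NineRows3
section
/-!
# Dimension nine: landed rows, third part (helper920)
-/

set_option autoImplicit false
set_option linter.unusedSectionVars false
set_option linter.style.haveILetI false

namespace Cfsg.Agent.H920.Nine

open Cfsg Cfsg.Geo Matrix
open H915.LD (Core Soc tr SD Fr Cj)
open H912.Bd (IsL IsU IsS IsOP)

universe u

variable {F : Type u} [Field F] [Fintype F] {P : Subgroup (GL (Fin 9) F)} (p : ℕ) [hp : Fact p.Prime] [hFp : CharP F p]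

/-- `L_3(3)` -/
theorem l33_row (hC : Core P) (h3 : p ≠ 3) : ¬ IsL 3 3 (Soc P) := by
  rintro ⟨K, i1, i2, hK, ⟨e⟩⟩
  have h := (H175.L33.l33 hC p h3 hK e (by simp)).2.2.2
  simp at h

/-- `U_4(3)` -/
theorem u43_row (hC : Core P) (h3 : p ≠ 3) : ¬ IsU 4 3 (Soc P) := by
  rintro ⟨K, i1, i2, hK, ⟨e⟩⟩
  have h := (H918.U43.u43_core hC p h3 hK e (by simp)).1
  simp at h

/-- `Suz`, `p ≠ 3` -/
theorem suz_row (hC : Core P) (h3 : p ≠ 3) (h : Spor.IsoSuz (Soc P)) : False := by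
  obtain ⟨e⟩ := h
  have h := (H878.Sz.core_Suz hC e (by simp) p h3).1
  simp at h

/-- `PSU_N(q)` in its own characteristic -/
theorem psu_row (hC : Core P) (K : Type) [Field K] [Fintype K] [CharP K p] {N q : ℕ} (hK : Fintype.card K = q ^ 2)
    (h4 : 4 ≤ N) (h8 : N ≤ 8) (e : Soc P ≃* PSU N K q) : False := by
  rcases H876.D3.core_psu p K h4 (by simp) hK hC e with h | h | h | h
  · simp at h; omega
  · have := h.2.1; simp at this
  · have := h.2.1; simp at this
  · have := h.2; simp at this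

end Cfsg.Agent.H920.Nine
end

-- part: H920/NineRows2
section
/-!
# Dimension nine: landed rows, second part (helper920)
-/

set_option autoImplicit false
set_option linter.unusedSectionVars false
set_option linter.style.haveILetI false

namespace Cfsg.Agent.H920.Nine

open Cfsg Cfsg.Geo Matrix
open H915.LD (Core Soc tr SD Fr Cj)
open H912.Bd (IsL IsU IsS IsOP)

universe u

variable {F : Type u} [Field F] [Fintype F] {P : Subgroup (GL (Fin 9) F)} (p : ℕ) [hp : Fact p.Prime] [hFp : CharP F p]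

/-- `A_7` -/
theorem a7_row (hC : Core P) (e : Soc P ≃* alternatingGroup (Fin 7)) : SD P ∨ (p = 7 ∧ Fr P 7) := by
  rcases H637.Three.nine p hC e (by simp) with h | h
  · exact Or.inl h
  · exact Or.inr ⟨h.1, h.2.1⟩

include hFp hp in
/-- `U_3(3)` -/
theorem u33_row (hC : Core P) (h3 : p ≠ 3) : ¬ IsU 3 3 (Soc P) := by
  rintro ⟨K, i1, i2, hK, e⟩
  have h := H936.U33All.u33_degree hC p h3 (by simp) hK e
  simp at h

include hFp hp in
/-- `Sz(8)` -/
theorem sz8_row (hC : Core P) (h2 : p ≠ 2) : ¬ H912.Bd.IsSz8 (Soc P) := by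
  intro h
  have h1 := (H814.Sz8.core_sz8 hC (two_ne (p := p) h2) (by simp) h).1
  simp at h1

include hFp hp in
/-- `M_11` -/
theorem m11_row (hC : Core P) (h : Spor.IsoM11 (Soc P)) : SD P := by
  rcases H6.M11.m11 hC p h (by simp) with h1 | ⟨h1, -⟩ | ⟨h1, -⟩
  · exact h1
  · simp at h1
  · simp at h1

include hFp hp in
/-- `M_12` -/
theorem m12_row (hC : Core P) (h : Spor.IsoM12 (Soc P)) : SD P := by
  by_cases h3 : p = 3
  · exfalso
    subst h3
    have h30 : (3 : F) = 0 := by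
      have := CharP.cast_eq_zero F 3
      exact_mod_cast this
    exact H48.M12T.m12_three_odd hC h30 h (Or.inr (by simp))
  · exact H6.M11.m12_odd hC p h3 h (by simp) (Or.inl (by simp; decide))

include hFp hp in
/-- `M_23` -/
theorem m23_row (hC : Core P) (h : Spor.IsoM23 (Soc P)) : False := by
  obtain ⟨e⟩ := h
  have h1 := (H4.LDM.Stage.m23_low hC e p (by simp)).2.1
  simp at h1

include hFp hp in
/-- `M_24` -/
theorem m24_row (hC : Core P) (h : Spor.IsoM24 (Soc P)) : False := by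
  obtain ⟨e⟩ := h
  have h1 := (H4.LDM.Stage.m24_low hC e p (by simp)).2.1
  simp at h1

theorem j1_row (hC : Core P) (h : Spor.IsoJ1 (Soc P)) : SD P := H1.TJ1.sd_iso hC h

theorem j2_row (hC : Core P) (h : Spor.IsoJ2 (Soc P)) : SD P := H1.TJ2.sd_iso hC h (by simp)

theorem j3_row (hC : Core P) (h : Spor.IsoJ3 (Soc P)) : p = 2 ∧ Cj P 2 := by
  obtain ⟨h1, -, -, h4⟩ := H95.JT.j3 p hC h (by simp)
  exact ⟨h1, h4⟩

end Cfsg.Agent.H920.Nine
end

-- part: H920/NineM22
section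
/-!
# `M22` has no projective representation of degree nine in odd characteristic (helper920)

An immediate consequence of helper13's `FT.num`, `tr_E`.
-/

set_option autoImplicit false
set_option linter.unusedSectionVars false
set_option linter.style.haveILetI false

namespace Cfsg.Agent.H920.Nine.M22

open Module Cfsg Cfsg.Geo Matrix Cfsg.Agent.H906.Wt
open Cfsg.Agent.H13.M22
open H915.LD (Core Soc toSoc toSoc_surjective)

universe u

section

variable {L Ω V : Type*} [Group L] [Finite L] [Field Ω] [IsAlgClosed Ω] [AddCommGroup V] [Module Ω V]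
  [FiniteDimensional Ω V] {φ : L →* Spor.M22} {ρ : L →* Module.End Ω V}

theorem nine_false (h : Cov φ ρ) (h2 : (2 : Ω) ≠ 0) (hn : finrank Ω V = 9) : False := by
  have hab : ∀ a ∈ E22.comap φ, ∀ b ∈ E22.comap φ, a * b = b * a := by
    intro a ha b hb
    by_cases h1 : φ a = 1
    · exact h.comm h1 b
    · apply h.comm_of_trace (E22_comm _ ha _ hb)
      obtain ⟨μ, m1, -, m3⟩ := tr_E h h2 (by omega) (by omega) ha h1
      rw [m3, hn]
      apply mul_ne_zero _ m1
      have : ((9 : ℕ) : Ω) - 8 = 1 := by norm_num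
      rw [this]; exact one_ne_zero
  obtain ⟨g5, h5⟩ := h.surj (_root_.Cfsg.Agent.H13.M22.em s5P)
  obtain ⟨g3, h3⟩ := h.surj (_root_.Cfsg.Agent.H13.M22.em s3P)
  have hFT := f53.ft h hab h5 h3
  obtain ⟨χ₅, χ₃, k, l, -, -, -, -, h5, h6, h7, h8, h9, -⟩ :=
    hFT.num h.scal (f53.card h h2) (f53.not_top h)
  rw [hn] at h5 h6 h7 h8 h9
  rcases h9 with h9 | h9 | h9
  · rw [h9, finrank_bot] at h5; omega
  · omega
  · omega

end

variable {ι : Type} [Fintype ι] [DecidableEq ι] {F : Type u} [Field F] [Finite F] {P : Subgroup (GL ι F)}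

/-- the setting of helper13 for a core -/
theorem cov (hC : Core P) (e : Soc P ≃* Spor.M22) : Cov (H921.M22.ph e) (H911.Five.rep P) where
  surj := H921.M22.ph_surj e
  cen := H921.M22.ph_cen e
  scal := by
    intro x hx
    exact (H921.M22.dat e hC).scal x hx
  inj := H911.Five.rep_injective P
  card := by
    obtain ⟨p, hp⟩ := CharP.exists F
    have hpp := CharP.char_is_prime F p
    haveI := Fact.mk hpp
    haveI : CharP (AlgebraicClosure F) p :=
      charP_of_injective_algebraMap (algebraMap F (AlgebraicClosure F)).injective p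
    haveI : Nonempty ι := hC.nonempty
    rw [Ne, CharP.cast_eq_zero_iff (AlgebraicClosure F) p]
    intro hd
    haveI : Finite P := inferInstance
    obtain ⟨z, hz⟩ := exists_prime_orderOf_dvd_card' (G := (H921.M22.ph e).ker) p hd
    have hzp : (z : P) ^ p = 1 := by
      have : z ^ p = 1 := by rw [← hz, pow_orderOf_eq_one]
      exact congrArg Subtype.val this
    obtain ⟨c, hc⟩ := H921.M22.ph_scalar e z.2
    obtain ⟨i⟩ := hC.nonempty
    have h4 : (((z : P) ^ p : P) : GL ι F).1 = (c ^ p) • (1 : Matrix ι ι F) := by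
      rw [Subgroup.coe_pow, Units.val_pow_eq_pow_val, hc, smul_pow, one_pow]
    rw [hzp] at h4
    have h5 : (1 : F) = c ^ p := by
      have := congrFun (congrFun h4 i) i
      simpa only [_root_.OneMemClass.coe_one, _root_.Units.val_one, _root_.Matrix.one_apply_eq, _root_.Matrix.smul_apply, _root_.smul_eq_mul, _root_.mul_one] using this
    have h6 : c = 1 := by
      have h7 : (c - 1) ^ p = 0 := by
        rw [sub_pow_char, one_pow, ← h5, sub_self]
      exact sub_eq_zero.1 (pow_eq_zero_iff hpp.ne_zero |>.1 h7)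
    have h7 : z = 1 := by
      apply Subtype.ext
      apply Subtype.ext
      apply Units.ext
      rw [hc, h6, one_smul]
      rfl
    rw [h7, orderOf_one] at hz
    exact hpp.one_lt.ne hz

/-- `M22` does not occur in degree nine, odd characteristic -/
theorem m22_nine (hC : Core P) (h2 : (2 : F) ≠ 0) (h9 : Fintype.card ι = 9) (e : Soc P ≃* Spor.M22) : False := by
  refine nine_false (cov hC e) ?_ ?_
  · intro h
    apply h2
    apply (algebraMap F (AlgebraicClosure F)).injective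
    rw [map_ofNat, map_zero, h]
  · rw [Module.finrank_fintype_fun_eq_card, h9]

end Cfsg.Agent.H920.Nine.M22
end

-- part: H920/NineCross2
section
/-!
# Dimension nine: the simple groups that are not of Lie type in the characteristic, final form (helper920)
-/

set_option autoImplicit false
set_option linter.unusedSectionVars false
set_option linter.style.haveILetI false

namespace Cfsg.Agent.H920.Nine

open Cfsg Cfsg.Geo Matrix
open H915.LD (Core Soc tr SD Fr Cj)
open H912.Bd (IsL IsU IsS IsOP)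

universe u

variable {F : Type u} [Field F] [Fintype F] {P : Subgroup (GL (Fin 9) F)} (p : ℕ) [hp : Fact p.Prime] [hFp : CharP F p]

include hFp hp in
/-- `M_22` -/
theorem m22_row (hC : Core P) (h : Spor.IsoM22 (Soc P)) : False := by
  obtain ⟨e⟩ := h
  by_cases h2 : p = 2
  · subst h2
    rcases H921.M22.main e hC (by simp) with h | h
    · have := h.1; simp at this
    · have := h.1; simp at this
  · exact M22.m22_nine hC (two_ne (p := p) h2) (by simp) e

include hFp hp in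
/-- `Suz` -/
theorem suz_row' (hC : Core P) (h : Spor.IsoSuz (Soc P)) : False := by
  by_cases h3 : p = 3
  · subst h3
    obtain ⟨e⟩ := h
    have h1 := (H878.Sz.core_Suz_three hC e (by simp)).1
    simp at h1
  · exact suz_row p hC h3 h

include hFp hp in
/-- **The cross characteristic candidates in dimension nine.** -/
theorem cross' (hC : Core P) (hsd : ¬ SD P) (hk : IsKnownSimple' (Soc P)) (hL : ¬ IsLieTypeChar p (Soc P)) :
    Cross9 p P := by
  rcases H936.List12.list₂ (p := p) (n := 9) (by norm_num) hC hk hL with h | h | h | ⟨h1, -, h⟩ | h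
  · obtain ⟨m, h5, h14, hp5, -, h14', ⟨e⟩⟩ := h
    have hm : m = 5 ∨ m = 6 ∨ m = 7 ∨ (8 ≤ m ∧ m ≤ 13) := by omega
    rcases hm with rfl | rfl | rfl | hm
    · exact (hsd (H937.T2.a5_sd hC e)).elim
    · refine Or.inr (Or.inl ⟨?_, ⟨e⟩⟩)
      rintro rfl
      exact hsd (H937.T2.a6_sd_three hC e)
    · rcases a7_row p hC e with h | h
      · exact (hsd h).elim
      · exact Or.inr (Or.inr (Or.inl ⟨⟨e⟩, h⟩))
    · exact (hsd (alt_row p hC hm.1 hL e)).elim
  · rcases h with ⟨q, hq, hpq, -, K, i1, i2, hK, e⟩ | ⟨h1, -, h⟩ | ⟨h1, -, h⟩ | ⟨-, h1, -⟩ | ⟨h1, h2, -, h⟩ | ⟨h1, -, h⟩ |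
      ⟨-, h1, -⟩ | ⟨h1, -, h⟩ | ⟨h1, -, h⟩
    · refine Or.inl ⟨K, i1, i2, ?_, ?_, ?_, e⟩
      · rw [hK]
        simp only [Finset.mem_insert, Finset.mem_singleton] at hq
        omega
      · rw [hK]
        simp only [Finset.mem_insert, Finset.mem_singleton] at hq
        omega
      · rwa [hK]
    · exact (l33_row p hC h1 h).elim
    · exact (u33_row p hC h1 h).elim
    · omega
    · exact (u42_row p hC h1 h2 h).elim
    · exact (u52_row p hC h1 h).elim
    · omega
    · exfalso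
      obtain ⟨K, i1, i2, hK, ⟨e⟩⟩ := h
      have h3 := H916.SpSix.spSix_dim (zero_or_one hK) hC e (two_ne h1) (by simp)
      simp at h3
    · exfalso
      obtain ⟨K, i1, i2, hK, ⟨e⟩⟩ := h
      have h3 := H916.Om.omega_dim (zero_or_one hK) hC e (two_ne h1) (by simp)
      simp at h3
  · rcases h with ⟨-, h1, -⟩ | ⟨h1, -, h⟩
    · omega
    · exact (u43_row p hC h1 h).elim
  · exact (sz8_row p hC h1 h).elim
  · rcases h with h | h | h | h | h | h | h | h | h
    · exact (hsd (m11_row p hC h)).elim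
    · exact (hsd (m12_row p hC h)).elim
    · exact (m22_row p hC h).elim
    · exact (m23_row p hC h).elim
    · exact (m24_row p hC h).elim
    · exact (hsd (j1_row hC h)).elim
    · exact (hsd (j2_row hC h)).elim
    · exact Or.inr (Or.inr (Or.inr ⟨h, j3_row p hC h⟩))
    · exact (suz_row' p hC h).elim

end Cfsg.Agent.H920.Nine
end

-- part: H887/DS/Nine
section
/-!
# `SL(3, E)` in dimension 9 (helper887)

* `iso_of_coef'`, `trace_of_coef'` : `V₁` simple, `dim V₂ ≤ dim V₁`, same coefficient: isomorphic, same traces;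
* `finrank_lt` : `dim V < |M|` if the functions `F α` are dependent;
* **`nine`** : `Core P`, `Soc P = PSL(3, E)`, `n = 9`: the traces are `σ(tr x) τ(tr x)` or `σ(tr x) τ(tr x⁻¹)`, `σ ≠ τ`.
-/

set_option autoImplicit false
set_option linter.unusedSectionVars false
set_option linter.style.haveILetI false

namespace Cfsg.Agent.H887.DS

open Module

section

variable {G k V₁ V₂ : Type*} [Group G] [Field k] [AddCommGroup V₁] [Module k V₁] [AddCommGroup V₂] [Module k V₂]
  {ρ₁ : G →* Module.End k V₁} {ρ₂ : G →* Module.End k V₂}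
  (hirr₁ : ∀ L : Submodule k V₁, (∀ g, ∀ w ∈ L, ρ₁ g w ∈ L) → L = ⊥ ∨ L = ⊤)
  {φ₁ : Module.Dual k V₁} {v₁ : V₁} {φ₂ : Module.Dual k V₂} {v₂ : V₂}
include hirr₁

/-- **Same coefficient, isomorphic**, one of the modules simple, dimensions. -/
theorem iso_of_coef' [FiniteDimensional k V₂] (hφ₁ : φ₁ ≠ 0) (hv₁ : v₁ ≠ 0) (hd : finrank k V₂ ≤ finrank k V₁)
    (h : ∀ g, φ₁ (ρ₁ g v₁) = φ₂ (ρ₂ g v₂)) : ∃ θ : V₁ ≃ₗ[k] V₂, ∀ g v, θ (ρ₁ g v) = ρ₂ g (θ v) := by
  have i1 := Psi_injective hirr₁ hφ₁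
  have hr : LinearMap.range (Psi ρ₁ φ₁) =
      (Submodule.span k (Set.range fun g => ρ₂ g v₂)).map (Psi ρ₂ φ₂) := by
    rw [LinearMap.range_eq_map, ← span_eq_top hirr₁ hv₁, Submodule.map_span, Submodule.map_span, ← Set.range_comp,
      ← Set.range_comp]
    congr 2
    funext g
    funext x
    rw [Function.comp_apply, Function.comp_apply, Psi_apply, Psi_apply]
    have h1 := h (x * g)
    rw [map_mul, map_mul] at h1
    exact h1
  have e1 : finrank k V₁ = finrank k ((Submodule.span k (Set.range fun g => ρ₂ g v₂)).map (Psi ρ₂ φ₂)) := by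
    rw [← hr]
    exact (LinearMap.finrank_range_of_inj i1).symm
  have hle : (Submodule.span k (Set.range fun g => ρ₂ g v₂)).map (Psi ρ₂ φ₂) ≤ LinearMap.range (Psi ρ₂ φ₂) :=
    LinearMap.map_le_range
  haveI : FiniteDimensional k (LinearMap.range (Psi ρ₂ φ₂)) := inferInstance
  have e2 := Submodule.finrank_mono hle
  have e3 := (Psi ρ₂ φ₂).finrank_range_add_finrank_ker
  have e4 : finrank k (LinearMap.ker (Psi ρ₂ φ₂)) = 0 := by omega
  have i2 : Function.Injective (Psi ρ₂ φ₂) := by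
    rw [← LinearMap.ker_eq_bot]
    exact Submodule.finrank_eq_zero.1 e4
  have hr' : LinearMap.range (Psi ρ₁ φ₁) = LinearMap.range (Psi ρ₂ φ₂) := by
    rw [hr]
    exact Submodule.eq_of_le_of_finrank_le hle (by omega)
  let θ : V₁ ≃ₗ[k] V₂ := (LinearEquiv.ofInjective _ i1).trans
    ((LinearEquiv.ofEq _ _ hr').trans (LinearEquiv.ofInjective _ i2).symm)
  have hθ : ∀ v, Psi ρ₂ φ₂ (θ v) = Psi ρ₁ φ₁ v := by
    intro v
    have h1 := (LinearEquiv.ofInjective (Psi ρ₂ φ₂) i2).apply_symm_apply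
      ((LinearEquiv.ofEq _ _ hr') ((LinearEquiv.ofInjective _ i1) v))
    have h2 := congrArg Subtype.val h1
    exact h2
  refine ⟨θ, fun g v => ?_⟩
  apply i2
  rw [hθ]
  funext x
  have h1 := congrFun (hθ v) (x * g)
  rw [Psi_apply, Psi_apply, map_mul, map_mul] at h1
  exact h1.symm

theorem trace_of_coef' [FiniteDimensional k V₂] (hφ₁ : φ₁ ≠ 0) (hv₁ : v₁ ≠ 0) (hd : finrank k V₂ ≤ finrank k V₁)
    (h : ∀ g, φ₁ (ρ₁ g v₁) = φ₂ (ρ₂ g v₂)) (g : G) :
    LinearMap.trace k V₁ (ρ₁ g) = LinearMap.trace k V₂ (ρ₂ g) := by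
  obtain ⟨θ, hθ⟩ := iso_of_coef' hirr₁ hφ₁ hv₁ hd h
  have h1 : ρ₂ g = θ.conj (ρ₁ g) := by
    ext v
    rw [LinearEquiv.conj_apply_apply, hθ, θ.apply_symm_apply]
  rw [h1, LinearMap.trace_conj']

variable {M : Type*} [Fintype M] {c : M → k} {F Gf : M → G → k}

theorem finrank_lt (hφ : φ₁ ≠ 0) (hv : v₁ ≠ 0) (hf : ∀ h g, φ₁ (ρ₁ (h * g) v₁) = ∑ α, c α * F α h * Gf α g)
    (hF : ∃ x : M → k, x ≠ 0 ∧ ∀ h, ∑ α, x α * F α h = 0) : finrank k V₁ < Fintype.card M := by
  rw [finrank_eq hirr₁ hφ hv hf]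
  have h1 : (Submodule.span k (Set.range fun g => (fun α => c α * Gf α g : M → k))).map
      (Fintype.linearCombination k F) ≤ LinearMap.range (Fintype.linearCombination k F) := LinearMap.map_le_range
  haveI : FiniteDimensional k (LinearMap.range (Fintype.linearCombination k F)) := inferInstance
  refine (Submodule.finrank_mono h1).trans_lt ?_
  have h2 := (Fintype.linearCombination k F).finrank_range_add_finrank_ker
  rw [Module.finrank_fintype_fun_eq_card] at h2
  have h3 : 0 < finrank k (LinearMap.ker (Fintype.linearCombination k F)) := by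
    rw [Module.finrank_pos_iff_exists_ne_zero]
    obtain ⟨x, hx, hx'⟩ := hF
    refine ⟨⟨x, ?_⟩, fun h0 => hx (congrArg Subtype.val h0)⟩
    rw [LinearMap.mem_ker, Fintype.linearCombination_apply]
    funext h
    rw [Finset.sum_apply, Pi.zero_apply, ← hx' h]
    exact Finset.sum_congr rfl fun α _ => rfl
  omega

end

section PP

variable {G k V : Type*} [Group G] [Field k] [AddCommGroup V] [Module k V]
  {ρ : G →* Module.End k V} (hirr : ∀ L : Submodule k V, (∀ g, ∀ w ∈ L, ρ g w ∈ L) → L = ⊥ ∨ L = ⊤)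
  {φ : Module.Dual k V} {v : V} {E : Type*} [Field E] (ι : E →+* k) {p : ℕ} [hp : Fact p.Prime] [CharP k p]
  {X Z Y W : G → Fin 3 → E}
include hirr

theorem two_PP_le (hXZ : ∀ g, X g 0 * Z g 0 + X g 1 * Z g 1 + X g 2 * Z g 2 = 0) (hφ : φ ≠ 0) (hv : v ≠ 0) {i : ℕ}
    (hf : ∀ h g, φ (ρ (h * g) v) = ι (∑ j, X h j * Y g j) ^ p ^ i * ι (∑ j, Z h j * W g j) ^ p ^ i) :
    finrank k V ≤ 8 := by
  have h1 := finrank_lt hirr (M := Fin 3 × Fin 3)
    (c := fun _ => (1 : k)) (F := fun κ h => ι (X h κ.1) ^ p ^ i * ι (Z h κ.2) ^ p ^ i)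
    (Gf := fun κ g => ι (Y g κ.1) ^ p ^ i * ι (W g κ.2) ^ p ^ i) hφ hv ?_ ?_
  · rw [Fintype.card_prod, Fintype.card_fin] at h1
    omega
  · intro h g
    rw [hf, map_sum, map_sum, sum_pow_char_pow, sum_pow_char_pow, Finset.sum_mul_sum, ← Finset.univ_product_univ,
      Finset.sum_product]
    refine Finset.sum_congr rfl fun s _ => Finset.sum_congr rfl fun t _ => ?_
    rw [map_mul, map_mul, mul_pow, mul_pow]
    ring
  · refine ⟨fun s => if s.1 = s.2 then 1 else 0, ?_, ?_⟩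
    · intro h0
      have := congrFun h0 (0, 0)
      simp at this
    · intro g
      rw [Fintype.sum_prod_type, Fin.sum_univ_three, Fin.sum_univ_three, Fin.sum_univ_three, Fin.sum_univ_three]
      have h2 : ι (X g 0 * Z g 0 + X g 1 * Z g 1 + X g 2 * Z g 2) ^ p ^ i = 0 := by
        rw [hXZ, map_zero, zero_pow (pow_pos hp.out.pos i).ne']
      rw [map_add, map_add, map_mul, map_mul, map_mul, add_pow_char_pow, add_pow_char_pow, mul_pow, mul_pow, mul_pow] at h2
      simpa only [_root_.Fin.isValue, ↓ _root_.reduceIte, _root_.one_mul, _root_.zero_ne_one, _root_.MulZeroClass.zero_mul, _root_.add_zero, _root_.Fin.reduceEq, _root_.one_ne_zero, _root_.zero_add] using h2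

end PP

section kron

open Matrix Kronecker

variable {E : Type*} [Field E] {k : Type*} [Field k] {m : ℕ}

/-- the inverse transpose -/
def it (g : _root_.Matrix.SpecialLinearGroup (Fin m) E) : _root_.Matrix.SpecialLinearGroup (Fin m) E := (g⁻¹).transpose

theorem it_mul (g h : _root_.Matrix.SpecialLinearGroup (Fin m) E) : it (g * h) = it g * it h := by
  unfold it
  apply Subtype.ext
  rw [_root_.mul_inv_rev]
  change ((h⁻¹).1 * (g⁻¹).1)ᵀ = ((g⁻¹).1)ᵀ * ((h⁻¹).1)ᵀ
  rw [Matrix.transpose_mul]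

theorem it_one : it (1 : _root_.Matrix.SpecialLinearGroup (Fin m) E) = 1 := by
  unfold it
  apply Subtype.ext
  rw [inv_one]
  change (1 : Matrix (Fin m) (Fin m) E)ᵀ = 1
  rw [Matrix.transpose_one]

theorem it_apply (g : _root_.Matrix.SpecialLinearGroup (Fin m) E) (i j : Fin m) : (it g).1 i j = (g⁻¹).1 j i := rfl

theorem it_it (g : _root_.Matrix.SpecialLinearGroup (Fin m) E) : it (it g) = g := by
  have h1 : it g⁻¹ = (it g)⁻¹ := by
    rw [eq_inv_iff_mul_eq_one, ← it_mul, inv_mul_cancel, it_one]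
  apply Subtype.ext
  ext i j
  rw [it_apply, ← h1, it_apply, inv_inv]

/-- the inverse transpose as an automorphism -/
def itE (E : Type*) [Field E] (m : ℕ) : _root_.Matrix.SpecialLinearGroup (Fin m) E ≃* _root_.Matrix.SpecialLinearGroup (Fin m) E where
  toFun := it
  invFun := it
  left_inv := it_it
  right_inv := it_it
  map_mul' := it_mul

/-- the Kronecker product of two twists -/
def kr (σ τ : E →+* k) (a b : _root_.Matrix.SpecialLinearGroup (Fin m) E →* _root_.Matrix.SpecialLinearGroup (Fin m) E) :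
    _root_.Matrix.SpecialLinearGroup (Fin m) E →* Matrix (Fin m × Fin m) (Fin m × Fin m) k where
  toFun g := ((a g).1.map σ) ⊗ₖ ((b g).1.map τ)
  map_one' := by
    rw [map_one, map_one]
    change ((1 : Matrix (Fin m) (Fin m) E).map σ) ⊗ₖ ((1 : Matrix (Fin m) (Fin m) E).map τ) = 1
    rw [Matrix.map_one σ (map_zero σ) (map_one σ), Matrix.map_one τ (map_zero τ) (map_one τ), Matrix.one_kronecker_one]
  map_mul' g h := by
    rw [map_mul, map_mul]
    change (((a g).1 * (a h).1).map σ) ⊗ₖ (((b g).1 * (b h).1).map τ) = _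
    rw [Matrix.map_mul, Matrix.map_mul, Matrix.mul_kronecker_mul]

theorem kr_trace (σ τ : E →+* k) (a b : _root_.Matrix.SpecialLinearGroup (Fin m) E →* _root_.Matrix.SpecialLinearGroup (Fin m) E)
    (g : _root_.Matrix.SpecialLinearGroup (Fin m) E) : (kr σ τ a b g).trace = σ ((a g).1.trace) * τ ((b g).1.trace) := by
  change (((a g).1.map σ) ⊗ₖ ((b g).1.map τ)).trace = _
  rw [Matrix.trace_kronecker, ← AddMonoidHom.map_trace σ, ← AddMonoidHom.map_trace τ]

end kron

section nine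

open Matrix Cfsg.Agent.H905.Md Cfsg.Agent.H911
open Cfsg Cfsg.Geo Cfsg.Agent.H67
open Cfsg.Agent.H915.LD (Core Soc tr SD Fr Cj)

universe u

variable {F : Type u} [Field F] [Finite F] {ι : Type} [Fintype ι] [DecidableEq ι] {P : Subgroup (GL ι F)}
  {E : Type*} [Field E] [Finite E] (p : ℕ) [hp : Fact p.Prime] [hFp : CharP F p] [hEp : CharP E p]

omit hFp [Finite E] hEp in
theorem iterate_emb {k : Type*} [Field k] [CharP k p] (ε : E →+* k) (i : ℕ) :
    ∃ σ : E →+* k, ∀ x, σ x = ε x ^ p ^ i :=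
  ⟨(iterateFrobenius k p i).comp ε, fun x => by
    rw [RingHom.comp_apply, iterateFrobenius_def]⟩

theorem nine_aux {φ : _root_.Matrix.SpecialLinearGroup (Fin 3) E →* GL ι F}
    (hirr : ∀ L : Submodule (AlgebraicClosure F) (ι → AlgebraicClosure F), (∀ g, ∀ w ∈ L, lin (acRep φ) g w ∈ L) →
        L = ⊥ ∨ L = ⊤) (hn : Fintype.card ι = 9) {v : ι → AlgebraicClosure F}
    {ψ : Module.Dual (AlgebraicClosure F) (ι → AlgebraicClosure F)} (hv : v ≠ 0) (hψ : ψ ≠ 0)
    {σ τ : E →+* AlgebraicClosure F} {a b : _root_.Matrix.SpecialLinearGroup (Fin 3) E →* _root_.Matrix.SpecialLinearGroup (Fin 3) E}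
    (s : Fin 3 × Fin 3) (h : ∀ g, ψ (lin (acRep φ) g v) = σ ((a g).1 s.1 s.1) * τ ((b g).1 s.2 s.2))
    (x : _root_.Matrix.SpecialLinearGroup (Fin 3) E) :
    algebraMap F (AlgebraicClosure F) ((φ x : Matrix ι ι F).trace) = σ ((a x).1.trace) * τ ((b x).1.trace) := by
  have h1 := trace_of_coef' hirr (ρ₂ := lin (kr σ τ a b)) (φ₂ := LinearMap.proj s) (v₂ := Pi.single s 1) hψ hv
    (by rw [Module.finrank_fintype_fun_eq_card, Module.finrank_fintype_fun_eq_card, hn]; rfl) (fun g => by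
      rw [h, lin_apply, Matrix.mulVec_single_one]
      rfl) x
  rw [trace_lin, trace_lin, trace_acRep, kr_trace] at h1
  exact h1

include p in
/-- **Dimension 9.** -/
theorem nine (hC : Core P) (Φ : Soc P ≃* ProjectiveSpecialLinearGroup (Fin 3) E) (hn : Fintype.card ι = 9) :
    ∃ φ : _root_.Matrix.SpecialLinearGroup (Fin 3) E →* GL ι F, φ.range = P ∧
      φ.ker ≤ Subgroup.center (_root_.Matrix.SpecialLinearGroup (Fin 3) E) ∧
      (∀ L : Submodule (AlgebraicClosure F) (ι → AlgebraicClosure F), (∀ g, ∀ w ∈ L, lin (acRep φ) g w ∈ L) →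
        L = ⊥ ∨ L = ⊤) ∧
      ∃ (σ τ : E →+* AlgebraicClosure F), σ ≠ τ ∧
        ((∀ x, algebraMap F (AlgebraicClosure F) ((φ x : Matrix ι ι F).trace) = σ (x.1.trace) * τ (x.1.trace)) ∨
        (∀ x, algebraMap F (AlgebraicClosure F) ((φ x : Matrix ι ι F).trace) = σ (x.1.trace) * τ ((x⁻¹).1.trace))) := by
  obtain ⟨φ, hφ, hk, -, hirr, ε, v, ψ, a, b, hv0, hψ0, ha, hb, hf, hc⟩ := exists_rep3 p hC Φ (by omega)
  haveI hchar : CharP (AlgebraicClosure F) p := charP_of_injective_algebraMap (algebraMap F _).injective p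
  have htr : ∀ x : _root_.Matrix.SpecialLinearGroup (Fin 3) E, (it x).1.trace = (x⁻¹).1.trace := fun x => by
    change ((x⁻¹).1ᵀ).trace = _
    rw [Matrix.trace_transpose]
  have one : ∀ c, c < Nat.card E → OneCase p 3 c (Fintype.card ι) → ∃ i j, c = p ^ i + p ^ j ∧
      p ^ i < Nat.card E ∧ p ^ j < Nat.card E ∧ p ^ i ≠ p ^ j := by
    rintro c hcE (⟨r, e, hr, hrp, -, hn'⟩ | ⟨e, e', h1, h2, -⟩)
    · rcases (choose_cases hr hn').1 rfl (by omega) with ⟨-, h4⟩ | ⟨-, h4⟩ | ⟨-, h4⟩ <;> omega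
    · exact ⟨e, e', h2, by omega, by omega, fun h3 => h1.ne (Nat.pow_right_injective hp.out.two_le h3)⟩
  have hne : ∀ (σ τ : E →+* AlgebraicClosure F) (i j : ℕ), (∀ x, σ x = ε x ^ p ^ i) → (∀ x, τ x = ε x ^ p ^ j) →
      p ^ i ≠ p ^ j → p ^ i < Nat.card E → p ^ j < Nat.card E → σ ≠ τ := by
    intro σ τ i j hσ hτ hij h1 h2 e
    obtain ⟨u, hu⟩ := exists_ne ε hij h1 h2
    rw [← hσ, ← hτ, e] at hu
    exact hu rfl
  rcases hc with ⟨rfl, hc⟩ | ⟨rfl, hc⟩ | ⟨⟨i, j, rfl, rfl, hij⟩, h6, h9⟩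
  · obtain ⟨i, j, rfl, h1, h2, h3⟩ := one _ ha hc
    obtain ⟨σ, hσ⟩ := iterate_emb p ε i
    obtain ⟨τ, hτ⟩ := iterate_emb p ε j
    refine ⟨φ, hφ, hk, hirr, σ, τ, hne σ τ i j hσ hτ h3 h1 h2, Or.inl fun x => ?_⟩
    exact nine_aux hirr hn hv0 hψ0 (a := MonoidHom.id _) (b := MonoidHom.id _) (0, 0) (fun g => by
      rw [hf]
      unfold xi
      rw [pow_zero, mul_one, pow_add, ← hσ, ← hτ]
      rfl) x
  · -- the dual
    obtain ⟨i, j, rfl, h1, h2, h3⟩ := one _ hb hc
    obtain ⟨σ, hσ⟩ := iterate_emb p ε i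
    obtain ⟨τ, hτ⟩ := iterate_emb p ε j
    have key : ∀ x, algebraMap F (AlgebraicClosure F) ((φ x : Matrix ι ι F).trace) = σ ((it x).1.trace) * τ ((it x).1.trace) :=
      nine_aux hirr hn hv0 hψ0 (a := (itE E 3).toMonoidHom) (b := (itE E 3).toMonoidHom) (2, 2) (fun g => by
        rw [hf]
        unfold xi
        rw [pow_zero, one_mul, pow_add, ← hσ, ← hτ]
        rfl)
    have hker : (φ.comp (itE E 3).toMonoidHom).ker ≤ Subgroup.center (_root_.Matrix.SpecialLinearGroup (Fin 3) E) := by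
      intro x hx
      rw [MonoidHom.mem_ker, MonoidHom.comp_apply] at hx
      have h4 : itE E 3 x ∈ Subgroup.center (_root_.Matrix.SpecialLinearGroup (Fin 3) E) := hk (MonoidHom.mem_ker.2 hx)
      rw [Subgroup.mem_center_iff] at h4 ⊢
      intro y
      have h5 := h4 (itE E 3 y)
      rw [← map_mul, ← map_mul] at h5
      exact (itE E 3).injective h5
    refine ⟨φ.comp (itE E 3).toMonoidHom, ?_, hker, ?_, σ, τ, hne σ τ i j hσ hτ h3 h1 h2, Or.inl fun x => ?_⟩
    · rw [MonoidHom.range_comp, MonoidHom.range_eq_top.2 (itE E 3).surjective, ← MonoidHom.range_eq_map, hφ]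
    · intro L hL
      refine hirr L fun g w hw => ?_
      have h4 := hL (it g) w hw
      have h5 : lin (acRep (φ.comp (itE E 3).toMonoidHom)) (it g) = lin (acRep φ) g := by
        have h6 : acRep (φ.comp (itE E 3).toMonoidHom) (it g) = acRep φ g := by
          rw [acRep_apply, acRep_apply]
          change (φ (it (it g)) : Matrix ι ι F).map _ = _
          rw [it_it]
        change Matrix.toLin' _ = Matrix.toLin' _
        rw [h6]
      rwa [h5] at h4
    · have h4 := key (it x)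
      rw [it_it] at h4
      exact h4
  · have hij' : i ≠ j := by
      rintro rfl
      have h8 := two_PP_le hirr ε (p := p) (i := i) (φ := ψ) (v := v) (X := fun x j => x.1 0 j)
        (Z := fun x j => (x⁻¹).1 j (Fin.last 2)) (Y := fun y j => y.1 j 0) (W := fun y j => (y⁻¹).1 (Fin.last 2) j)
        (fun g => by
          have q1 : (g * g⁻¹).1 0 (Fin.last 2) = 0 := by
            rw [mul_inv_cancel]
            rfl
          change (g.1 * (g⁻¹).1) 0 (Fin.last 2) = 0 at q1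
          rw [Matrix.mul_apply, Fin.sum_univ_three] at q1
          exact q1) hψ0 hv0 (fun x y => by rw [hf, xi_mul])
      rw [Module.finrank_fintype_fun_eq_card] at h8
      omega
    have h3 : p ^ i ≠ p ^ j := fun h3 => hij' (Nat.pow_right_injective hp.out.two_le h3)
    obtain ⟨σ, hσ⟩ := iterate_emb p ε i
    obtain ⟨τ, hτ⟩ := iterate_emb p ε j
    refine ⟨φ, hφ, hk, hirr, σ, τ, hne σ τ i j hσ hτ h3 ha hb, Or.inr fun x => ?_⟩
    have h4 := nine_aux hirr hn hv0 hψ0 (σ := σ) (τ := τ) (a := MonoidHom.id _) (b := (itE E 3).toMonoidHom) (0, 2)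
      (fun g => by
        rw [hf]
        unfold xi
        rw [← hσ, ← hτ]
        rfl) x
    rw [h4]
    change _ * τ ((it x).1.trace) = _
    rw [htr]
    rfl

end nine

end Cfsg.Agent.H887.DS
end

-- part: H920/NineDC
section
/-!
# Dimension nine: defining characteristic (helper920)
-/

set_option autoImplicit false
set_option linter.unusedSectionVars false
set_option linter.style.haveILetI false

namespace Cfsg.Agent.H920.Nine

open Cfsg Cfsg.Geo Matrix
open H915.LD (Core Soc tr SD Fr Cj)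

universe u

variable {F : Type u} [Field F] [Fintype F] {P : Subgroup (GL (Fin 9) F)} (p : ℕ) [hp : Fact p.Prime] [hFp : CharP F p]

/-- `P = {x ⊗ α x}` -/
def FormA (P : Subgroup (GL (Fin 9) F)) : Prop :=
  ∃ (α : F ≃+* F) (g : GL (Fin 9) F), α ≠ RingEquiv.refl F ∧ ∀ y, y ∈ P ↔
    ∃ x : _root_.Matrix.SpecialLinearGroup (Fin 3) F, (y : Matrix (Fin 9) (Fin 9) F) =
      (g : Matrix (Fin 9) (Fin 9) F) * kron9 x.1 (x.1.map α) * ((g⁻¹ : GL (Fin 9) F) : Matrix (Fin 9) (Fin 9) F)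

/-- `P = {x ⊗ α x⁻ᵀ}` -/
def FormB (P : Subgroup (GL (Fin 9) F)) : Prop :=
  ∃ (α : F ≃+* F) (g : GL (Fin 9) F), α ≠ RingEquiv.refl F ∧ ∀ y, y ∈ P ↔
    ∃ x : _root_.Matrix.SpecialLinearGroup (Fin 3) F, (y : Matrix (Fin 9) (Fin 9) F) =
      (g : Matrix (Fin 9) (Fin 9) F) * kron9 x.1 (((x⁻¹).1.map α)ᵀ) *
        ((g⁻¹ : GL (Fin 9) F) : Matrix (Fin 9) (Fin 9) F)

/-- the possibilities in the defining characteristic -/
def Dc9 (p : ℕ) (P : Subgroup (GL (Fin 9) F)) : Prop :=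
  P = specialLinear (Fin 9) F ∨
  (∃ (K : Type) (_ : Field K) (_ : Fintype K), Nonempty (Soc P ≃* ProjectiveSpecialLinearGroup (Fin 3) K) ∧
    ((Fintype.card K = Fintype.card F ^ 2 ∧ ∀ Q, Q ≠ 0 → ¬ Cj P Q) ∨
     (Fintype.card K = Fintype.card F ∧ FormA P ∧ ∀ Q, Q ≠ 0 → ¬ Cj P Q) ∨
     (Fintype.card K = Fintype.card F ∧ FormB P))) ∨
  (∃ (K : Type) (_ : Field K) (_ : Fintype K) (_ : CharP K p) (N q : ℕ),
    Fintype.card K = q ^ 2 ∧ 3 ≤ N ∧ N ≤ 9 ∧ ¬ (N = 3 ∧ q = 2) ∧ Nonempty (Soc P ≃* PSU N K q) ∧ Cj P q)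

include hFp hp in
/-- `T = PSL_3` -/
theorem dc_three (hC : Core P) {K : Type} [Field K] [Fintype K] [CharP K p]
    (e : Soc P ≃* ProjectiveSpecialLinearGroup (Fin 3) K) :
    ((Fintype.card K = Fintype.card F ^ 2 ∧ ∀ Q, Q ≠ 0 → ¬ Cj P Q) ∨
     (Fintype.card K = Fintype.card F ∧ FormA P ∧ ∀ Q, Q ≠ 0 → ¬ Cj P Q) ∨
     (Fintype.card K = Fintype.card F ∧ FormB P)) := by
  obtain ⟨φ, hφ, -, -, σ, τ, hne, h⟩ := H887.DS.nine p hC e (by simp)
  rcases h with h | h
  · have hA : TypA φ σ τ := h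
    rcases card_A p hC hφ hne hA with h1 | h1
    · left
      rw [Nat.card_eq_fintype_card, Nat.card_eq_fintype_card] at h1
      exact ⟨h1, fun Q hQ => not_cj_of_A hφ hA hQ⟩
    · right; left
      refine ⟨?_, form_A hC hφ hne hA h1, fun Q hQ => not_cj_of_A hφ hA hQ⟩
      rwa [Nat.card_eq_fintype_card, Nat.card_eq_fintype_card] at h1
  · have hB : TypB φ σ τ := h
    have h1 := card_B p hC hφ hB
    right; right
    refine ⟨?_, form_B hC hφ hne hB h1⟩
    rwa [Nat.card_eq_fintype_card, Nat.card_eq_fintype_card] at h1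

include hFp hp in
theorem dc (hC : Core P) (hsd : ¬ SD P) (h : IsLieTypeChar p (Soc P)) : Dc9 p P := by
  have hs := hC.simple
  have h9 : Fintype.card (Fin 9) = 9 := by simp
  haveI : Nonempty (Fin 9) := ⟨0⟩
  rcases H218.SdDC.sd_dc p hC (by simp) h with h1 | ⟨K, i1, i2, i3, l, hl, h4, ⟨e⟩⟩ |
    ⟨K, i1, i2, i3, N, q, hK, hN, hN9, h32, ⟨e⟩⟩ | ⟨-, h2, h3⟩
  · exact (hsd h1).elim
  · rcases (show l = 1 ∨ 2 ≤ l by omega) with rfl | hl2
    · exact (hsd fun g hg => H905.Md.psl_two p hC.absIrred hC.perfect (h4 rfl) e hg).elim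
    · have h5 := H905.Md.psl_rank p hC.absIrred hC.perfect hl h4 e
      rw [h9] at h5
      rcases (show l + 1 = 9 ∨ l + 1 < 9 by omega) with h6 | h6
      · exact Or.inl (H905.Md.psl_eq p hC.absIrred hC.perfect hl h4 e hC.no_subfield h6.symm).2
      · have h7 := H887.DS.dim_cases p hC (m := l + 1) (by omega) (by rw [h9]; exact h6) (by rw [h9]; norm_num) e
        rw [h9] at h7
        obtain rfl : l = 2 := by omega
        exact Or.inr (Or.inl ⟨K, i1, i2, ⟨e⟩, dc_three p hC e⟩)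
  · rw [h9] at hN9
    refine Or.inr (Or.inr ⟨K, i1, i2, i3, N, q, hK, hN, by omega, h32, ⟨e⟩, fun g hg => ?_⟩)
    exact ((H905.Md.psu_both p hC.absIrred hC.perfect hN hK h32 e hg).2).symm
  · have h4 := H927.LDTwF4.card_le_iso h2 hC.perfect h3
    rw [h9] at h4
    omega

end Cfsg.Agent.H920.Nine
end

-- part: H920/NineSU
section
/-!
# Dimension nine: `P = SU_3(q)` acting as `N^σ ⊗ N^τ` (helper920)
-/

set_option autoImplicit false
set_option linter.unusedSectionVars false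
set_option linter.style.haveILetI false

namespace Cfsg.Agent.H920.Nine

open Cfsg Cfsg.Geo Matrix
open H915.LD (Core Soc tr SD Fr Cj)

universe u

/-- every element of the field is the trace of an element of `SU_3(q)` -/
theorem exists_trace_SU {K : Type*} [Field K] [Fintype K] {q : ℕ} (hK : Fintype.card K = q ^ 2) (a : K) :
    ∃ x : _root_.Matrix.SpecialLinearGroup (Fin 3) K, x ∈ SU 3 K q ∧ x.1.trace = a := by
  obtain ⟨c, hc⟩ : ∃ c : K ≃+* K, ∀ x, c x = x ^ q := by
    obtain ⟨p, hpc⟩ := CharP.exists K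
    haveI hp := Fact.mk (CharP.char_is_prime K p)
    obtain ⟨n, -, hn⟩ := FiniteField.card K p
    have h1 : q ∣ p ^ (n : ℕ) := by rw [← hn, hK]; exact dvd_pow_self q two_ne_zero
    obtain ⟨b, -, rfl⟩ := (Nat.dvd_prime_pow hp.out).1 h1
    refine ⟨RingEquiv.ofBijective (iterateFrobenius K p b) ⟨iterateFrobenius_inj K p b,
      Finite.injective_iff_surjective.1 (iterateFrobenius_inj K p b)⟩, fun x => iterateFrobenius_def p b x⟩
  have hcc : ∀ x, c (c x) = x := by
    intro x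
    rw [hc, hc, ← pow_mul, ← pow_two, ← hK, FiniteField.pow_card]
  -- a frame
  obtain ⟨s, hs⟩ := LieClassical.HermBasic.exists_norm_eq hK (c := (-1 : K)) (by rw [← hc, map_neg, map_one])
  have he : hermForm 3 K q ![1, s, 0] ![1, s, 0] = 0 := by
    rw [hermForm, Fin.sum_univ_three]
    simp only [Matrix.cons_val_zero, Matrix.cons_val_one, Matrix.cons_val]
    rw [hs, one_pow]
    ring
  have he0 : (![1, s, 0] : Fin 3 → K) ≠ 0 := by
    intro h
    have := congrFun h 0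
    simp at this
  obtain ⟨e₂, e₃, hfr⟩ := H929.U3.exists_fr hK he he0
  set e₁ : Fin 3 → K := ![1, s, 0] with he₁
  -- the matrix in the frame
  set β := a + 1 with hβ
  obtain ⟨α, hα⟩ := LieClassical.HermBasic.exists_norm_eq hK (c := -(β + β ^ q)) (by
    rw [← hc, ← hc, map_neg, map_add, hcc, add_comm])
  have hα' : β + c β + α * c α = 0 := by
    rw [hc, hc, hα]; ring
  let B : Matrix (Fin 3) (Fin 3) K := (Matrix.of ![e₁, e₂, e₃])ᵀ
  have hB : IsUnit B := by
    rw [Matrix.isUnit_transpose]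
    exact Matrix.linearIndependent_rows_iff_isUnit.1 (hfr.linearIndependent hK)
  have hBm : ∀ y x z : K, B *ᵥ ![y, x, z] = y • e₁ + x • e₂ + z • e₃ := by
    intro y x z
    ext i
    simp only [B, Matrix.mulVec, dotProduct, Fin.sum_univ_three, Matrix.transpose_apply, Matrix.of_apply,
      Matrix.cons_val_zero, Matrix.cons_val_one, Matrix.cons_val, Pi.add_apply, Pi.smul_apply, smul_eq_mul]
    ring
  let M : Matrix (Fin 3) (Fin 3) K := !![β, -α, 1; -(c α), -1, 0; 1, 0, 0]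
  have hM : M.det = 1 := by
    simp only [M]
    rw [Matrix.det_fin_three]
    simp
  have hMm : ∀ y x z : K, M *ᵥ ![y, x, z] = ![β * y - α * x + z, -(c α) * y - x, y] := by
    intro y x z
    ext i
    (revert i; simp only [M, Matrix.mulVec, dotProduct, Fin.sum_univ_three, _root_.Fin.forall_fin_succ, _root_.Matrix.of_apply, _root_.Matrix.cons_val', _root_.Matrix.cons_val_fin_one, Fin.isValue, _root_.Matrix.cons_val_zero, _root_.Matrix.cons_val_one, _root_.Matrix.cons_val, _root_.Nat.succ_eq_add_one, Nat.reduceAdd, _root_.neg_mul, _root_.one_mul, _root_.add_left_inj, _root_.Matrix.cons_val_succ, _root_.MulZeroClass.zero_mul, _root_.add_zero, _root_.implies_true, _root_.and_true]) <;> (repeat' with_reducible apply And.intro) <;> ring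
  obtain ⟨Bu, hBu⟩ := hB
  let G : Matrix (Fin 3) (Fin 3) K := B * M * ((Bu⁻¹ : (Matrix (Fin 3) (Fin 3) K)ˣ) : Matrix (Fin 3) (Fin 3) K)
  have hinv : ((Bu⁻¹ : (Matrix (Fin 3) (Fin 3) K)ˣ) : Matrix (Fin 3) (Fin 3) K) * B = 1 := by
    rw [← hBu, ← Units.val_mul, inv_mul_cancel, Units.val_one]
  have hdet : G.det = 1 := by
    have h1 := congrArg Matrix.det hinv
    rw [Matrix.det_mul, Matrix.det_one] at h1
    simp only [G]
    rw [Matrix.det_mul, Matrix.det_mul, hM, mul_one, mul_comm, h1]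
  have htr : G.trace = a := by
    simp only [G]
    rw [Matrix.trace_mul_comm, ← mul_assoc, hinv, one_mul]
    simp [M, Matrix.trace_fin_three, hβ]
  have hGm : ∀ y x z : K, G *ᵥ (y • e₁ + x • e₂ + z • e₃) =
      (β * y - α * x + z) • e₁ + (-(c α) * y - x) • e₂ + y • e₃ := by
    intro y x z
    rw [← hBm, ← hBm, ← hMm]
    simp only [G]
    rw [Matrix.mulVec_mulVec, Matrix.mulVec_mulVec, mul_assoc, hinv, mul_one]
  let X : _root_.Matrix.SpecialLinearGroup (Fin 3) K := ⟨G, hdet⟩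
  refine ⟨X, (LieClassical.HermBasic.mem_SU_iff X).2 ?_, htr⟩
  intro u v
  obtain ⟨y, x, z, rfl⟩ := hfr.exists_comb hK u
  obtain ⟨y', x', z', rfl⟩ := hfr.exists_comb hK v
  change hermForm 3 K q (G *ᵥ _) (G *ᵥ _) = _
  rw [hGm, hGm, hfr.herm_comb hK, hfr.herm_comb hK]
  simp only [← hc, map_add, map_sub, map_mul, map_neg, hcc]
  linear_combination (y * c y') * hα'

variable {F : Type u} [Field F] [Fintype F] {P : Subgroup (GL (Fin 9) F)} {K : Type*} [Field K] [Fintype K] {q : ℕ}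
variable {φ : SU 3 K q →* GL (Fin 9) F} {σ τ : K →+* AlgebraicClosure F}

/-- type U : `N^σ ⊗ N^τ` for `SU_3` -/
def TypU (φ : SU 3 K q →* GL (Fin 9) F) (σ τ : K →+* AlgebraicClosure F) : Prop :=
  ∀ x, algebraMap F (AlgebraicClosure F) ((φ x : Matrix (Fin 9) (Fin 9) F).trace) = σ (x.1.1.trace) * τ (x.1.1.trace)

theorem fr_of_U (p : ℕ) [hp : Fact p.Prime] [_hFp : CharP F p] [hEp : CharP K p] (hφ : φ.range = P) (h : TypU φ σ τ)
    {s : ℕ} (hs : Nat.card K = p ^ s) : Fr P (p ^ s) := by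
  intro g hg
  rw [← hφ] at hg
  obtain ⟨x, rfl⟩ := hg
  apply algebraMap_inj
  rw [map_pow]
  unfold tr
  rw [h x, mul_pow, ← map_pow, ← map_pow, frob_pow p hs]

/-- the field of definition is the field of the group -/
theorem card_U (p : ℕ) [hp : Fact p.Prime] [hFp : CharP F p] [hEp : CharP K p] (hK : Fintype.card K = q ^ 2)
    (hC : Core P) (hsd : ¬ SD P) (hcj : Cj P q) (hφ : φ.range = P) (hne : σ ≠ τ) (h : TypU φ σ τ) :
    Nat.card K = Nat.card F := by
  obtain ⟨s, hs0, hs⟩ := exists_s (E := K) p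
  obtain ⟨e, he0, he⟩ := exists_s (E := F) p
  have h1 := fr_of_U p hφ h hs
  have hdvd : e ∣ s := dvd_of_pow_eq hp.out he (hC.pow_eq p h1)
  obtain ⟨j, hjs, hj⟩ := exists_frob_emb (p := p) hs σ τ
  have hj0 : 0 < j := by
    rcases Nat.eq_zero_or_pos j with h0 | h0
    · exfalso
      apply hne
      ext a
      rw [hj, h0, pow_zero, pow_one]
    · exact h0
  by_cases hes : s = e
  · rw [hs, he, hes]
  · exfalso
    have h2e : 2 * e ≤ s := by
      obtain ⟨c, rfl⟩ := hdvd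
      have h3 : 2 ≤ c := by
        by_contra hc
        have h4 : c = 0 ∨ c = 1 := by omega
        rcases h4 with rfl | rfl <;> simp at hs0 hes
      nlinarith only [h3]
    have h3 := half_of_pow (E := K) hp.out hs he0 h2e hj0 hjs (by
      intro a
      apply σ.injective
      obtain ⟨x, hx, hxa⟩ := exists_trace_SU hK a
      have h4 := h ⟨x, hx⟩
      rw [hxa, hj, ← map_pow, ← map_mul] at h4
      rw [map_pow, ← h4, ← map_pow, frob_pow (E := F) p he])
    -- `q = |F|`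
    have hq : q = p ^ e := by
      rw [Nat.card_eq_fintype_card, hK, h3, mul_comm, pow_mul] at hs
      exact Nat.pow_left_injective two_ne_zero hs
    apply hsd
    intro g hg
    rw [← hcj g hg, hq, frob_pow p he]

/-- `y ↦ y ⊗ τ y` on `SU_3` -/
theorem form_U (hC : Core P) (hφ : φ.range = P) (hne : σ ≠ τ) (hne' : ¬ ∀ a, τ a = σ a ^ q) (h : TypU φ σ τ)
    (hcard : Nat.card K = Nat.card F) :
    ∃ (α : F ≃+* F) (g : GL (Fin 9) F), α ≠ RingEquiv.refl F ∧ (¬ ∀ x, α x = x ^ q) ∧ ∀ y, y ∈ P ↔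
      ∃ x ∈ SU 3 F q, (y : Matrix (Fin 9) (Fin 9) F) =
        (g : Matrix (Fin 9) (Fin 9) F) * kron9 x.1 (x.1.map α) * ((g⁻¹ : GL (Fin 9) F) : Matrix (Fin 9) (Fin 9) F) := by
  obtain ⟨σ', hσ'⟩ := exists_lift hcard σ
  obtain ⟨τ', hτ'⟩ := exists_lift hcard τ
  let m : SU 3 F q ≃* SU 3 K q := SporadicStructure.PsuMatch.suCongr σ'.symm 3 q
  have hmt : ∀ y : SU 3 F q, (m y).1.1.trace = σ'.symm y.1.1.trace := by
    intro y
    exact trace_map_ringEquiv σ'.symm y.1.1
  obtain ⟨g, hg⟩ := exists_conj_form hC.absIrred (ψ := φ.comp m.toMonoidHom)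
    (ρ := (kronHom (σ'.symm.trans τ')).comp (SU 3 F q).subtype)
    (by rw [MonoidHom.range_comp, MonoidHom.range_eq_top.2 m.surjective, ← MonoidHom.range_eq_map, hφ]) (by
      intro y
      apply algebraMap_inj
      rw [MonoidHom.comp_apply]
      change algebraMap F (AlgebraicClosure F) ((φ (m y) : Matrix (Fin 9) (Fin 9) F).trace) =
        algebraMap F (AlgebraicClosure F) ((kronHom (σ'.symm.trans τ') y.1 : Matrix (Fin 9) (Fin 9) F).trace)
      rw [h, hmt, kronHom_val, trace_kron9, trace_map_ringEquiv, map_mul, ← hσ', ← hτ', σ'.apply_symm_apply]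
      rfl)
  refine ⟨σ'.symm.trans τ', g, ?_, ?_, fun y => ?_⟩
  · intro h1
    apply hne
    ext a
    rw [← hσ', ← hτ']
    have h2 := RingEquiv.congr_fun h1 (σ' a)
    rw [RingEquiv.trans_apply, σ'.symm_apply_apply] at h2
    rw [h2]
    rfl
  · intro h1
    apply hne'
    intro a
    rw [← hσ', ← hτ', ← map_pow]
    have h2 := h1 (σ' a)
    rw [RingEquiv.trans_apply, σ'.symm_apply_apply] at h2
    rw [h2]
  · rw [hg]
    constructor
    · rintro ⟨x, hx⟩
      exact ⟨x.1, x.2, hx⟩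
    · rintro ⟨x, hx, hy⟩
      exact ⟨⟨x, hx⟩, hy⟩

end Cfsg.Agent.H920.Nine
end

-- part: H920/NineU3
section
/-!
# Dimension nine: `PSU_3(q)` in its own characteristic (helper920)

* `typU` : the traces are `σ(tr x) τ(tr x)`;
* `dc_u3` : explicit form.
-/

set_option autoImplicit false
set_option linter.unusedSectionVars false
set_option linter.style.haveILetI false

namespace Cfsg.Agent.H920.Nine

open Cfsg Cfsg.Geo Matrix
open H905.Md H911
open LieClassical.HermSiegel LieClassical.HermBasic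
open H915.LD (Core Soc tr SD Fr Cj)

universe u

variable {F : Type u} [Field F] [Fintype F] {P : Subgroup (GL (Fin 9) F)}

/-- `P = {x ⊗ α x : x ∈ SU_3}` -/
def FormU (P : Subgroup (GL (Fin 9) F)) (q : ℕ) : Prop :=
  ∃ (α : F ≃+* F) (g : GL (Fin 9) F), α ≠ RingEquiv.refl F ∧ (¬ ∀ x, α x = x ^ q) ∧ ∀ y, y ∈ P ↔
    ∃ x ∈ SU 3 F q, (y : Matrix (Fin 9) (Fin 9) F) =
      (g : Matrix (Fin 9) (Fin 9) F) * kron9 x.1 (x.1.map α) * ((g⁻¹ : GL (Fin 9) F) : Matrix (Fin 9) (Fin 9) F)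

theorem typU (p : ℕ) [hp : Fact p.Prime] [hFp : CharP F p] {E : Type} [Field E] [Fintype E] [hEp : CharP E p] {q : ℕ}
    (hC : Core P) (hsd : ¬ SD P) (hq3 : 3 ≤ q) (hE : Fintype.card E = q ^ 2) (e : Soc P ≃* PSU 3 E q) :
    ∃ φ : SU 3 E q →* GL (Fin 9) F, φ.range = P ∧ ∃ σ τ : E →+* AlgebraicClosure F, σ ≠ τ ∧
      (¬ ∀ a, τ a = σ a ^ q) ∧ TypU φ σ τ := by
  have hn : Fintype.card (Fin 9) ≤ 12 := by simp
  have h9 : Fintype.card (Fin 9) = 9 := by simp
  obtain ⟨D⟩ := H929.U3.core_model p hC hq3 hE e hn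
  haveI hchar : CharP (AlgebraicClosure F) p := charP_of_injective_algebraMap (algebraMap F _).injective p
  obtain ⟨i, hi0, hif, hb⟩ : ∃ i, 0 < i ∧ i < D.f ∧ D.b = 1 + p ^ i := by
    rcases D.good with h | h | h | ⟨i, h1, h2, h3, -⟩ | h
    · omega
    · omega
    · omega
    · exact ⟨i, h1, h2, h3⟩
    · exact (hsd ((D.sd_iff p hC hq3 hE hn).2 (by rw [h, ← D.hq]))).elim
  -- the embeddings
  have emb : ∀ k, ∃ σ : E →+* AlgebraicClosure F, ∀ x, σ x = D.j x ^ p ^ k := fun k =>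
    H887.DS.iterate_emb p D.j k
  obtain ⟨σ, hσ⟩ := emb D.f
  obtain ⟨τ, hτ⟩ := emb (D.f + i)
  have hcard : Nat.card E = p ^ (2 * D.f) := by
    rw [Nat.card_eq_fintype_card, hE]
    refine (congrArg (fun t => t ^ 2) D.hq).trans ?_
    rw [← pow_mul, mul_comm]
  have hqy : ∀ y : AlgebraicClosure F, y ^ q = y ^ p ^ D.f := fun y => congrArg (fun t => y ^ t) D.hq
  have hτσ : ∀ x, τ x = σ x ^ p ^ i := by
    intro x
    rw [hσ, hτ, ← pow_mul, ← pow_add]
  have hne : σ ≠ τ := by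
    rintro h
    have h1 : ∀ a : E, a ^ p ^ i = a := by
      intro a
      apply σ.injective
      rw [map_pow, ← hτσ, h]
    have h2 := dvd_of_pow_eq hp.out hcard h1
    have h3 := Nat.le_of_dvd hi0 h2
    omega
  have hne' : ¬ ∀ a, τ a = σ a ^ q := by
    intro h
    have h1 : ∀ a : E, a ^ p ^ (D.f - i) = a := by
      intro a
      have h2 : (a ^ p ^ (D.f - i)) ^ p ^ i = a ^ p ^ i := by
        rw [← pow_mul, ← pow_add, Nat.sub_add_cancel hif.le]
        apply σ.injective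
        rw [map_pow, map_pow, ← hτσ, h, hqy]
      have h3 : Function.Injective (iterateFrobenius E p i) := iterateFrobenius_inj E p i
      apply h3
      rw [iterateFrobenius_def, iterateFrobenius_def, h2]
    have h2 := dvd_of_pow_eq hp.out hcard h1
    have h3 := Nat.le_of_dvd (by omega) h2
    omega
  refine ⟨D.rep, D.range_rep, σ, τ, hne, hne', fun x => ?_⟩
  -- the coefficient function
  have hirr : ∀ L : Submodule (AlgebraicClosure F) (Fin 9 → AlgebraicClosure F),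
      (∀ g, ∀ w ∈ L, lin (acRep D.rep) g w ∈ L) → L = ⊥ ∨ L = ⊤ := by
    intro L hL
    exact acRep_irr D.range_rep (H920.span_eq_top hC.absIrred) (H := ⊤) rfl L (fun g _ w hw => hL g w hw)
  let ψ : Module.Dual (AlgebraicClosure F) (Fin 9 → AlgebraicClosure F) :=
    { toFun := fun w => D.ψ ⬝ᵥ w
      map_add' := fun a b => dotProduct_add _ _ _
      map_smul' := fun c a => dotProduct_smul _ _ _ }
  have hψ0 : ψ ≠ 0 := by
    intro h0
    have h1 := D.coef 1
    have h2 : ψ (acRep D.rep 1⁻¹ *ᵥ D.v) = 0 := by rw [h0]; rfl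
    -- `ψ` vanishes everywhere: contradiction with `wt`
    exact D.wt.1 (by
      have h3 : ∀ w, D.ψ ⬝ᵥ w = 0 := fun w => by
        have : ψ w = 0 := by rw [h0]; rfl
        exact this
      exact dotProduct_eq_zero _ h3)
  let ρ₂ : SU 3 E q →* Matrix (Fin 3 × Fin 3) (Fin 3 × Fin 3) (AlgebraicClosure F) :=
    (H887.DS.kr σ τ (MonoidHom.id _) (MonoidHom.id _)).comp (SU 3 E q).subtype
  let ψ₂ : Module.Dual (AlgebraicClosure F) (Fin 3 × Fin 3 → AlgebraicClosure F) :=
    { toFun := fun w => (fun s : Fin 3 × Fin 3 => σ (D.e₀ s.1) ^ q * τ (D.e₀ s.2) ^ q) ⬝ᵥ w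
      map_add' := fun a b => dotProduct_add _ _ _
      map_smul' := fun c a => dotProduct_smul _ _ _ }
  let v₂ : Fin 3 × Fin 3 → AlgebraicClosure F := fun s => σ (D.e₀ s.1) * τ (D.e₀ s.2)
  have hcoef : ∀ g, ψ (lin (acRep D.rep) g D.v) = ψ₂ (lin ρ₂ g v₂) := by
    intro g
    have h1 := D.coef g⁻¹
    rw [inv_inv] at h1
    have h2 : ψ (lin (acRep D.rep) g D.v) = D.j (hermForm 3 E q (act g⁻¹ D.e₀) D.e₀) ^ D.b := by
      rw [lin_apply]
      exact h1
    have h3 : hermForm 3 E q (act g⁻¹ D.e₀) D.e₀ = hermForm 3 E q (act g D.e₀) D.e₀ ^ q := by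
      rw [herm_act_left, inv_inv, herm_swap hE]
    have h4 : ψ (lin (acRep D.rep) g D.v) = σ (hermForm 3 E q (act g D.e₀) D.e₀) *
        τ (hermForm 3 E q (act g D.e₀) D.e₀) := by
      rw [h2, h3, hb, hσ, hτ, map_pow, hqy, pow_add p, ← pow_mul, mul_add, mul_one, pow_add]
    have h5 : ∀ χ : E →+* AlgebraicClosure F, χ (hermForm 3 E q (act g D.e₀) D.e₀) =
        ∑ a, χ (D.e₀ a) ^ q * ((g.1.1.map χ) *ᵥ (fun b => χ (D.e₀ b))) a := by
      intro χ
      rw [hermForm, map_sum]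
      refine Finset.sum_congr rfl fun a _ => ?_
      rw [map_mul, map_pow, mul_comm]
      congr 1
      change χ (∑ b, g.1.1 a b * D.e₀ b) = ∑ b, χ (g.1.1 a b) * χ (D.e₀ b)
      rw [map_sum]
      exact Finset.sum_congr rfl fun b _ => map_mul χ _ _
    rw [h4, h5 σ, h5 τ, lin_apply]
    change _ = ∑ s : Fin 3 × Fin 3, (σ (D.e₀ s.1) ^ q * τ (D.e₀ s.2) ^ q) *
      ∑ t : Fin 3 × Fin 3, (σ (g.1.1 s.1 t.1) * τ (g.1.1 s.2 t.2)) * (σ (D.e₀ t.1) * τ (D.e₀ t.2))
    rw [Finset.sum_mul_sum, ← Finset.univ_product_univ, Finset.sum_product]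
    refine Finset.sum_congr rfl fun a _ => Finset.sum_congr rfl fun b _ => ?_
    rw [Finset.sum_product]
    have h6 : (∑ c, ∑ d, (σ (g.1.1 a c) * τ (g.1.1 b d)) * (σ (D.e₀ c) * τ (D.e₀ d))) =
        ((g.1.1.map σ) *ᵥ (fun b => σ (D.e₀ b))) a * ((g.1.1.map τ) *ᵥ (fun b => τ (D.e₀ b))) b := by
      change _ = (∑ c, σ (g.1.1 a c) * σ (D.e₀ c)) * (∑ d, τ (g.1.1 b d) * τ (D.e₀ d))
      rw [Finset.sum_mul_sum]
      exact Finset.sum_congr rfl fun c _ => Finset.sum_congr rfl fun d _ => by ring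
    rw [h6]
    ring
  have h1 := H887.DS.trace_of_coef' hirr (ρ₂ := lin ρ₂) (φ₂ := ψ₂) (v₂ := v₂) hψ0 D.v_ne
    (by rw [Module.finrank_fintype_fun_eq_card, Module.finrank_fintype_fun_eq_card, h9]; rfl) hcoef x
  rw [trace_lin, trace_lin, trace_acRep] at h1
  rw [h1]
  exact H887.DS.kr_trace σ τ _ _ _

/-- explicit form of `PSU_3(K)` in its own characteristic, when `P ≤ GU_9(q)` -/
theorem dc_u3 (p : ℕ) [hp : Fact p.Prime] [hFp : CharP F p] {E : Type} [Field E] [Fintype E] [hEp : CharP E p] {q q₀ : ℕ}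
    (hF : Fintype.card F = q ^ 2) (hC : Core P) (hsd : ¬ SD P) (hq3 : 3 ≤ q₀) (hE : Fintype.card E = q₀ ^ 2)
    (e : Soc P ≃* PSU 3 E q₀) (hcj : Cj P q₀) : FormU P q := by
  obtain ⟨φ, hφ, σ, τ, hne, hne', h⟩ := typU p hC hsd hq3 hE e
  have hcard := card_U p hE hC hsd hcj hφ hne h
  have hq : q₀ = q := by
    rw [Nat.card_eq_fintype_card, Nat.card_eq_fintype_card, hF, hE] at hcard
    exact Nat.pow_left_injective two_ne_zero hcard
  subst hq
  exact form_U hC hφ hne hne' h hcard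

end Cfsg.Agent.H920.Nine
end

-- part: H108/Nine/SL
section
/-!
`SL₉(F)`: the groups `{x ⊗ x^τ}` and `{x ⊗ x^{-τT}}`, `x ∈ SL₃(F)`, are not the residual core of a maximal subgroup.
-/

set_option autoImplicit false
set_option linter.unusedSectionVars false

namespace Cfsg.Agent.H108.Nine

open Matrix Cfsg Cfsg.Geo
open Cfsg.Agent.ClassicalGeometry.AutPSL.Root (tr coe_tr pr)
open Cfsg.Agent.ClassicalGeometry.AutPSL.SylowU (exists_map_tr)

variable {F : Type*} [Field F]

theorem exists_perp (a : Fin 3 → F) : ∃ φ : Fin 3 → F, φ ≠ 0 ∧ φ ⬝ᵥ a = 0 := by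
  by_cases h : a 0 = 0
  · refine ⟨Pi.single 0 1, ?_, ?_⟩
    · intro h0
      have := congrFun h0 0
      rw [Pi.single_eq_same] at this
      exact one_ne_zero this
    · rw [single_dotProduct, h, mul_zero]
  · refine ⟨a 1 • Pi.single 0 1 - a 0 • Pi.single 1 1, ?_, ?_⟩
    · intro h0
      have := congrFun h0 1
      rw [Pi.sub_apply, Pi.smul_apply, Pi.smul_apply, Pi.single_eq_same, Pi.single_eq_of_ne (by decide)] at this
      simp [h] at this
    · rw [sub_dotProduct, smul_dotProduct, smul_dotProduct, single_dotProduct, single_dotProduct, smul_eq_mul,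
        smul_eq_mul]
      ring

theorem one_add_pow {n : Type*} [Fintype n] [DecidableEq n] {E : Matrix n n F} (hE : E * E = 0) (k : ℕ) :
    (1 + E) ^ k = 1 + (k : F) • E := by
  induction k with
  | zero => simp only [_root_.pow_zero, _root_.Nat.cast_zero, _root_.zero_smul, _root_.add_zero]
  | succ k ih =>
    rw [pow_succ, ih, Matrix.mul_add, Matrix.mul_one, Matrix.add_mul, Matrix.one_mul, Matrix.smul_mul, hE,
      smul_zero, add_zero, Nat.cast_succ, add_smul, one_smul]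
    abel

theorem tr_pow_char (p : ℕ) [CharP F p] (a φ : Fin 3 → F) (h : φ ⬝ᵥ a = 0) : tr a φ h ^ p = 1 := by
  apply Subtype.ext
  rw [Matrix.SpecialLinearGroup.coe_pow, coe_tr, one_add_pow, CharP.cast_eq_zero, zero_smul, add_zero]
  · rfl
  · rw [vecMulVec_mul_vecMulVec, h, zero_smul]
    ext i j
    simp [vecMulVec_apply]

/-- decomposable tensors -/
def Dec (w : Fin 9 → F) : Prop := ∃ u v : Fin 3 → F, w = ten u v

theorem det_conj_eq (g m : GL (Fin 9) F) (hm : (m : Matrix (Fin 9) (Fin 9) F).det = 1) :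
    g * m * g⁻¹ ∈ specialLinear (Fin 9) F := by
  have hm' : m ∈ specialLinear (Fin 9) F := by
    apply MonoidHom.mem_ker.2
    apply Units.ext
    rw [Matrix.GeneralLinearGroup.val_det_apply, hm, Units.val_one]
  have : (specialLinear (Fin 9) F).Normal := MonoidHom.normal_ker _
  exact this.conj_mem m hm' g

theorem exists_noncomm : ∃ x y : _root_.Matrix.SpecialLinearGroup (Fin 3) F, ∀ c : F, (y * x).1 ≠ c • (x * y).1 := by
  refine ⟨⟨!![1, 1, 0; 0, 1, 0; 0, 0, 1], by simp [Matrix.det_fin_three]⟩,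
    ⟨!![1, 0, 0; 0, 1, 1; 0, 0, 1], by simp [Matrix.det_fin_three]⟩, fun c h => ?_⟩
  have h' : (!![1, 0, 0; 0, 1, 1; 0, 0, 1] * !![1, 1, 0; 0, 1, 0; 0, 0, 1] : Matrix (Fin 3) (Fin 3) F) =
      c • (!![1, 1, 0; 0, 1, 0; 0, 0, 1] * !![1, 0, 0; 0, 1, 1; 0, 0, 1] : Matrix (Fin 3) (Fin 3) F) := h
  have h0 := congrFun (congrFun h' 0) 0
  have h2 := congrFun (congrFun h' 0) 2
  simp [Matrix.mul_apply, Fin.sum_univ_three] at h0 h2
  rw [← h2] at h0
  exact one_ne_zero h0

/-- **Main theorem, linear case.** -/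
theorem k3_sl [Fintype F] {H P : Subgroup (GL (Fin 9) F)} (hnorm : ∀ h ∈ H, ∀ x ∈ P, h * x * h⁻¹ ∈ P)
    (hH : IsMaximalIn (specialLinear (Fin 9) F) H) (τ : F ≃+* F) (hτ : τ ≠ RingEquiv.refl F) (g : GL (Fin 9) F)
    (θ : _root_.Matrix.SpecialLinearGroup (Fin 3) F ≃* _root_.Matrix.SpecialLinearGroup (Fin 3) F)
    (hθ : ∀ a φ : Fin 3 → F, a ≠ 0 → φ ≠ 0 → ∃ a' φ' : Fin 3 → F, a' ≠ 0 ∧ φ' ≠ 0 ∧
      ∀ (t : F) (h : φ ⬝ᵥ (t • a) = 0), (θ (tr (t • a) φ h)).1 = 1 + τ t • vecMulVec a' φ')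
    (hP : ∀ y : GL (Fin 9) F, y ∈ P ↔ ∃ x : _root_.Matrix.SpecialLinearGroup (Fin 3) F, y = g * krGL x (θ x) * g⁻¹) : False := by
  classical
  obtain ⟨p, hp⟩ := CharP.exists F
  have hpf : Fact p.Prime := ⟨CharP.char_is_prime F p⟩
  obtain ⟨μ, hμ⟩ : ∃ μ, τ μ ≠ μ := by
    by_contra hcon
    push Not at hcon
    exact hτ (RingEquiv.ext hcon)
  have hμ0 : μ ≠ 0 := by
    rintro rfl
    exact hμ (map_zero τ)
  have hμ1 : μ ≠ 1 := by
    rintro rfl
    exact hμ (map_one τ)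
  let K : _root_.Matrix.SpecialLinearGroup (Fin 3) F →* GL (Fin 9) F := krHom (MonoidHom.id _) θ.toMonoidHom
  have hK : ∀ x, K x = krGL x (θ x) := fun x => rfl
  have hnorm' : ∀ h ∈ H, ∀ x, ∃ y, (g⁻¹ * h * g) * K x * (g⁻¹ * h * g)⁻¹ = K y := by
    intro h hh x
    obtain ⟨y, hy⟩ := (hP _).1 (hnorm h hh (g * krGL x (θ x) * g⁻¹) ((hP _).2 ⟨x, rfl⟩))
    refine ⟨y, ?_⟩
    rw [hK, hK]
    have : krGL y (θ y) = g⁻¹ * (g * krGL y (θ y) * g⁻¹) * g := by group
    rw [this, ← hy]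
    group
  let Ψ : _root_.Matrix.SpecialLinearGroup (Fin 3) F →* (GL (Fin 9) F ⧸ scalars (Fin 9) F) := (QuotientGroup.mk' _).comp K
  have hker : Ψ.ker = Subgroup.center (_root_.Matrix.SpecialLinearGroup (Fin 3) F) := by
    ext x
    have e : x ∈ Ψ.ker ↔ krGL x (θ x) ∈ scalars (Fin 9) F := by
      rw [MonoidHom.mem_ker]
      exact QuotientGroup.eq_one_iff _
    rw [e]
    constructor
    · intro h
      exact (scalar_of_krGL h).1
    · intro h
      apply krGL_mem_scalars h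
      rw [Subgroup.mem_center_iff] at h ⊢
      intro z
      obtain ⟨z, rfl⟩ := θ.surjective z
      rw [← map_mul, h, map_mul]
  -- the action of `H` on decomposable tensors
  have hdec : ∀ h ∈ H, ∀ w, Dec w → Dec (((g⁻¹ * h * g : GL (Fin 9) F) : Matrix (Fin 9) (Fin 9) F) *ᵥ w) := by
    rintro h hh _ ⟨a, v, rfl⟩
    set N : GL (Fin 9) F := g⁻¹ * h * g with hN
    by_cases ha : a = 0
    · subst ha
      refine ⟨0, 0, ?_⟩
      have e : ∀ v : Fin 3 → F, ten (0 : Fin 3 → F) v = 0 := by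
        intro v
        have := ten_smul_left 0 (0 : Fin 3 → F) v
        rwa [zero_smul, zero_smul] at this
      rw [e, e, Matrix.mulVec_zero]
    obtain ⟨φ, hφ, hφa⟩ := exists_perp a
    obtain ⟨α, hα⟩ := aut_of_conj Ψ (Subgroup.center _) hker (QuotientGroup.mk N) (by
      intro x
      obtain ⟨y, hy⟩ := hnorm' h hh x
      refine ⟨y, ?_⟩
      change (QuotientGroup.mk (K y) : GL (Fin 9) F ⧸ scalars (Fin 9) F) = QuotientGroup.mk (N * K x * N⁻¹)
      rw [hy]) (by
      intro x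
      obtain ⟨y, hy⟩ := hnorm' h⁻¹ (H.inv_mem hh) x
      refine ⟨y, ?_⟩
      change (QuotientGroup.mk (K y) : GL (Fin 9) F ⧸ scalars (Fin 9) F) = QuotientGroup.mk (N⁻¹ * K x * N)
      rw [← hy]
      congr 1
      rw [hN]
      group)
    obtain ⟨b, ψ, hb, hψ, hψb, hs⟩ := exists_map_tr p (by norm_num : 2 ≤ 3) α ha hφ hφa
    obtain ⟨a', φ', ha', hφ', hθa⟩ := hθ a φ ha hφ
    obtain ⟨b', ψ', hb', hψ', hθb⟩ := hθ b ψ hb hψ
    have hNN : ((N⁻¹ : GL (Fin 9) F) : Matrix (Fin 9) (Fin 9) F) * (N : Matrix (Fin 9) (Fin 9) F) = 1 := by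
      rw [← Units.val_mul, inv_mul_cancel, Units.val_one]
    have key := core (a := a) (φ := φ) (a' := a') (φ' := φ') (b := b) (ψ := ψ) (b' := b') (ψ' := ψ')
      hNN τ hμ (one_ne_zero) hφ hφ' hb hψ hψb hb' hψ' (by
      intro t _
      obtain ⟨s, hs⟩ := hs t
      refine ⟨s, τ s, s * τ s, ?_⟩
      have h1 := hα _ _ hs
      have h2 : N * K (tr (t • a) φ (by rw [dotProduct_smul, hφa, smul_zero])) * N⁻¹ =
          K (tr (s • b) ψ (by rw [dotProduct_smul, hψb, smul_zero])) := by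
        apply eq_of_mk_eq p
        · rw [conj_pow, ← map_pow, tr_pow_char, map_one, mul_one, mul_inv_cancel]
        · rw [← map_pow, tr_pow_char, map_one]
        · exact h1
      have h3 : N * K (tr (t • a) φ (by rw [dotProduct_smul, hφa, smul_zero])) =
          K (tr (s • b) ψ (by rw [dotProduct_smul, hψb, smul_zero])) * N := by
        rw [← h2, inv_mul_cancel_right]
      have h4 := congrArg (fun X : GL (Fin 9) F => (X : Matrix (Fin 9) (Fin 9) F)) h3
      simp only [Units.val_mul] at h4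
      rw [hK, hK, coe_krGL, coe_krGL, hθa, hθb, coe_tr, coe_tr, smul_vecMulVec, smul_vecMulVec, kr_one_add,
        kr_one_add] at h4
      exact h4)
    rcases key.1 with h5 | h5
    · obtain ⟨z, hz⟩ := h5 v
      exact ⟨b, z, hz⟩
    · obtain ⟨z, hz⟩ := h5 v
      exact ⟨z, b', hz⟩
  have hle : H ≤ stabD Dec g ⊓ specialLinear (Fin 9) F := le_inf (le_stabD hdec) hH.1.le
  rcases hH.2 _ hle inf_le_right with hM | hM
  · -- `SL₃ ⊗ 1 ≤ H`
    have hX : ∀ y : _root_.Matrix.SpecialLinearGroup (Fin 3) F, g * krGL y 1 * g⁻¹ ∈ H := by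
      intro y
      rw [← hM]
      refine ⟨?_, ?_⟩
      · have h1 : (krHom (MonoidHom.id (_root_.Matrix.SpecialLinearGroup (Fin 3) F)) 1).range.map (MulAut.conj g).toMonoidHom ≤
            stabD Dec g := by
          apply le_stabD
          rintro _ ⟨_, ⟨y, rfl⟩, rfl⟩ _ ⟨u, v, rfl⟩
          refine ⟨y.1 *ᵥ u, v, ?_⟩
          have : g⁻¹ * ((MulAut.conj g).toMonoidHom (krHom (MonoidHom.id _) 1 y)) * g = krGL y 1 := by
            change g⁻¹ * (g * krGL y 1 * g⁻¹) * g = _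
            group
          rw [this, coe_krGL, kr_mulVec_ten]
          congr 1
          exact Matrix.one_mulVec v
        exact h1 ⟨_, ⟨y, rfl⟩, rfl⟩
      · apply det_conj_eq
        rw [coe_krGL, det_kr, y.2, one_pow, one_mul]
        have : ((1 : _root_.Matrix.SpecialLinearGroup (Fin 3) F)).1.det = 1 := (1 : _root_.Matrix.SpecialLinearGroup (Fin 3) F).2
        rw [this, one_pow]
    obtain ⟨x, y, hxy⟩ := exists_noncomm (F := F)
    obtain ⟨z, hz⟩ := hnorm' _ (hX y) x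
    have h1 : krGL (y * x * y⁻¹) (θ x) = krGL z (θ z) := by
      rw [hK, hK] at hz
      rw [← hz]
      have e : g⁻¹ * (g * krGL y 1 * g⁻¹) * g = krGL y 1 := by group
      have e2 : (krGL y 1 : GL (Fin 9) F)⁻¹ = krGL y⁻¹ 1 := by
        rw [inv_eq_iff_mul_eq_one, ← krGL_mul, mul_inv_cancel, mul_one, krGL_one]
      rw [e, e2, ← krGL_mul, ← krGL_mul, one_mul, mul_one]
    obtain ⟨c, hc⟩ := contra (x := x) (y := y) (z := z) (θx := θ x) (θz := θ z) (by
      intro h
      rw [← map_inv, ← map_mul] at h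
      rw [Subgroup.mem_center_iff] at h ⊢
      intro w
      apply θ.injective
      rw [map_mul, h, ← map_mul]) h1
    exact hxy c hc
  · -- `M = SL₉`
    let m : GL (Fin 9) F := Matrix.GeneralLinearGroup.mkOfDetNeZero (Matrix.diagonal (dd μ)) (by
      rw [dd_det hμ0]; exact one_ne_zero)
    have hm : (m : Matrix (Fin 9) (Fin 9) F) = Matrix.diagonal (dd μ) := rfl
    have h1 : g * m * g⁻¹ ∈ stabD Dec g ⊓ specialLinear (Fin 9) F := by
      rw [hM]
      apply det_conj_eq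
      rw [hm, dd_det hμ0]
    have h2 := (mem_stabD.1 h1.1 (ten 1 1)).1 ⟨1, 1, rfl⟩
    have e : g⁻¹ * (g * m * g⁻¹) * g = m := by group
    rw [e, hm] at h2
    obtain ⟨u, v, huv⟩ := h2
    exact not_dec hμ1 one_ne_zero one_ne_zero one_ne_zero one_ne_zero (dd_00 μ) (dd_01 μ) (dd_10 μ) (dd_11 μ) u v huv

/-- `x ↦ x^τ` on `SL₃` -/
def thA (τ : F ≃+* F) : _root_.Matrix.SpecialLinearGroup (Fin 3) F ≃* _root_.Matrix.SpecialLinearGroup (Fin 3) F where
  toFun x := ⟨x.1.map τ, by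
    have := (RingHom.map_det (τ : F →+* F) x.1)
    rw [x.2, map_one] at this
    exact this.symm⟩
  invFun x := ⟨x.1.map τ.symm, by
    have := (RingHom.map_det (τ.symm : F →+* F) x.1)
    rw [x.2, map_one] at this
    exact this.symm⟩
  left_inv x := by
    apply Subtype.ext
    ext i j
    simp [Matrix.map_apply]
  right_inv x := by
    apply Subtype.ext
    ext i j
    simp [Matrix.map_apply]
  map_mul' x y := by
    apply Subtype.ext
    exact Matrix.map_mul (f := (τ : F →+* F))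

theorem thA_val (τ : F ≃+* F) (x : _root_.Matrix.SpecialLinearGroup (Fin 3) F) : (thA τ x).1 = x.1.map τ := rfl

theorem transpose_mul' (x y : _root_.Matrix.SpecialLinearGroup (Fin 3) F) :
    (x * y).transpose = y.transpose * x.transpose := by
  apply Subtype.ext
  exact Matrix.transpose_mul _ _

theorem transpose_one' : (1 : _root_.Matrix.SpecialLinearGroup (Fin 3) F).transpose = 1 := by
  apply Subtype.ext
  exact Matrix.transpose_one

theorem transpose_inv' (x : _root_.Matrix.SpecialLinearGroup (Fin 3) F) : (x⁻¹).transpose = (x.transpose)⁻¹ := by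
  rw [eq_inv_iff_mul_eq_one, ← transpose_mul', mul_inv_cancel, transpose_one']

theorem transpose_transpose' (x : _root_.Matrix.SpecialLinearGroup (Fin 3) F) : x.transpose.transpose = x := rfl

/-- inverse transpose -/
def itr (F : Type*) [Field F] : _root_.Matrix.SpecialLinearGroup (Fin 3) F ≃* _root_.Matrix.SpecialLinearGroup (Fin 3) F where
  toFun x := (x⁻¹).transpose
  invFun x := (x⁻¹).transpose
  left_inv x := by
    change (((x⁻¹).transpose)⁻¹).transpose = x
    rw [transpose_inv' x, inv_inv, transpose_transpose']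
  right_inv x := by
    change (((x⁻¹).transpose)⁻¹).transpose = x
    rw [transpose_inv' x, inv_inv, transpose_transpose']
  map_mul' x y := by
    rw [_root_.mul_inv_rev, transpose_mul']

/-- `x ↦ x^{-τT}` on `SL₃` -/
def thB (τ : F ≃+* F) : _root_.Matrix.SpecialLinearGroup (Fin 3) F ≃* _root_.Matrix.SpecialLinearGroup (Fin 3) F :=
  (itr F).trans (thA τ)

theorem thB_val (τ : F ≃+* F) (x : _root_.Matrix.SpecialLinearGroup (Fin 3) F) : (thB τ x).1 = ((x⁻¹).1.map τ)ᵀ := rfl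

theorem fun_ne_zero (τ : F ≃+* F) {a : Fin 3 → F} (ha : a ≠ 0) : (fun i => τ (a i)) ≠ 0 := by
  intro h
  apply ha
  funext i
  exact (map_eq_zero τ).1 (congrFun h i)

theorem coe_tr_inv (a φ : Fin 3 → F) (h : φ ⬝ᵥ a = 0) : ((tr a φ h)⁻¹).1 = 1 - vecMulVec a φ := by
  have h1 : tr a φ h * tr (-a) φ (by rw [dotProduct_neg, h, neg_zero]) = 1 := by
    apply Subtype.ext
    change (1 + vecMulVec a φ) * (1 + vecMulVec (-a) φ) = 1
    rw [Matrix.mul_add, Matrix.mul_one, Matrix.add_mul, Matrix.one_mul, vecMulVec_mul_vecMulVec, neg_vecMulVec,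
      dotProduct_neg, h, neg_zero, zero_smul]
    have : vecMulVec a (0 : Fin 3 → F) = 0 := by
      ext i j
      simp [vecMulVec_apply]
    rw [this]
    abel
  rw [inv_eq_of_mul_eq_one_right h1]
  change 1 + vecMulVec (-a) φ = _
  rw [neg_vecMulVec]
  abel

/-- **(K3a)** -/
theorem k3a [Fintype F] {H P : Subgroup (GL (Fin 9) F)} (hc : IsResidualCore H P) (τ : F ≃+* F)
    (g : GL (Fin 9) F) (hH : IsMaximalIn (specialLinear (Fin 9) F) H) (hτ : τ ≠ RingEquiv.refl F)
    (hP : ∀ y : GL (Fin 9) F, y ∈ P ↔ ∃ x : _root_.Matrix.SpecialLinearGroup (Fin 3) F, (y : Matrix (Fin 9) (Fin 9) F) =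
      (g : Matrix (Fin 9) (Fin 9) F) * Cfsg.Agent.H920.Nine.kron9 x.1 (x.1.map τ) *
        ((g⁻¹ : GL (Fin 9) F) : Matrix (Fin 9) (Fin 9) F)) : False := by
  refine k3_sl hc.normal hH τ hτ g (thA τ) ?_ ?_
  · intro a φ ha hφ
    refine ⟨fun i => τ (a i), fun i => τ (φ i), fun_ne_zero τ ha, fun_ne_zero τ hφ, fun t h => ?_⟩
    rw [thA_val, coe_tr]
    ext i j
    simp only [Matrix.map_apply, Matrix.add_apply, vecMulVec_apply, Matrix.smul_apply, Pi.smul_apply, smul_eq_mul,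
      map_add, map_mul, Matrix.one_apply]
    split_ifs
    · rw [map_one]; ring
    · rw [map_zero]; ring
  · intro y
    rw [hP]
    constructor
    · rintro ⟨x, hx⟩
      exact ⟨x, Units.ext hx⟩
    · rintro ⟨x, hx⟩
      exact ⟨x, congrArg (fun X : GL (Fin 9) F => (X : Matrix (Fin 9) (Fin 9) F)) hx⟩

/-- **(K3b)** -/
theorem k3b [Fintype F] {H P : Subgroup (GL (Fin 9) F)} (hc : IsResidualCore H P) (τ : F ≃+* F)
    (g : GL (Fin 9) F) (hH : IsMaximalIn (specialLinear (Fin 9) F) H) (hτ : τ ≠ RingEquiv.refl F)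
    (hP : ∀ y : GL (Fin 9) F, y ∈ P ↔ ∃ x : _root_.Matrix.SpecialLinearGroup (Fin 3) F, (y : Matrix (Fin 9) (Fin 9) F) =
      (g : Matrix (Fin 9) (Fin 9) F) * Cfsg.Agent.H920.Nine.kron9 x.1 (((x⁻¹).1.map τ)ᵀ) *
        ((g⁻¹ : GL (Fin 9) F) : Matrix (Fin 9) (Fin 9) F)) : False := by
  refine k3_sl hc.normal hH τ hτ g (thB τ) ?_ ?_
  · intro a φ ha hφ
    refine ⟨fun i => - τ (φ i), fun i => τ (a i), ?_, fun_ne_zero τ ha, fun t h => ?_⟩
    · intro h0
      apply fun_ne_zero τ hφ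
      funext i
      exact neg_eq_zero.1 (congrFun h0 i)
    rw [thB_val, coe_tr_inv]
    ext i j
    simp only [Matrix.map_apply, Matrix.add_apply, Matrix.sub_apply, Matrix.transpose_apply, vecMulVec_apply,
      Matrix.smul_apply, Pi.smul_apply, smul_eq_mul, map_sub, map_mul, Matrix.one_apply]
    by_cases hij : i = j
    · subst hij
      rw [if_pos rfl, map_one]; ring
    · rw [if_neg hij, if_neg (Ne.symm hij), map_zero]; ring
  · intro y
    rw [hP]
    constructor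
    · rintro ⟨x, hx⟩
      exact ⟨x, Units.ext hx⟩
    · rintro ⟨x, hx⟩
      exact ⟨x, congrArg (fun X : GL (Fin 9) F => (X : Matrix (Fin 9) (Fin 9) F)) hx⟩

end Cfsg.Agent.H108.Nine
end

-- part: H108/Nine/SU
section
/-!
`SU₉(q)`: the group `{x ⊗ x^τ}`, `x ∈ SU₃(q)`, is not the residual core of a maximal subgroup.
-/

set_option autoImplicit false
set_option linter.unusedSectionVars false

namespace Cfsg.Agent.H108.Nine

open Matrix Cfsg Cfsg.Geo
open Cfsg.Agent.LieClassical.HermBasic Cfsg.Agent.LieClassical.HermSiegel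
open Cfsg.Agent.ClassicalGeometry.PSUAutBasic (transv act_transv transvG exists_scalar_of_mem_center mem_center_of_act)
open Cfsg.Agent.ClassicalGeometry.PSUAutSylow (RR mem_RR exists_map_RR)

variable {F : Type*} [Field F] [Fintype F] {q : ℕ}

/-- decomposable tensors with an isotropic factor -/
def DecI (q : ℕ) (w : Fin 9 → F) : Prop :=
  ∃ u v : Fin 3 → F, w = ten u v ∧ (hermForm 3 F q u u = 0 ∨ hermForm 3 F q v v = 0)

theorem mem_GU_of_un (hF : Fintype.card F = q ^ 2) {m : GL (Fin 9) F}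
    (hm : (m : Matrix (Fin 9) (Fin 9) F)ᵀ * (m : Matrix (Fin 9) (Fin 9) F).map (sg hF) = 1) : m ∈ GU 9 F q :=
  (un_iff hF _).2 hm

theorem un_of_mem_GU (hF : Fintype.card F = q ^ 2) {m : GL (Fin 9) F} (hm : m ∈ GU 9 F q) :
    (m : Matrix (Fin 9) (Fin 9) F)ᵀ * (m : Matrix (Fin 9) (Fin 9) F).map (sg hF) = 1 :=
  (un_iff hF _).1 hm

/-- conjugation by a similitude preserves the unitary group -/
theorem conj_mem_GU (hF : Fintype.card F = q ^ 2) {g m : GL (Fin 9) F} {κ : F}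
    (hg : (g : Matrix (Fin 9) (Fin 9) F)ᵀ * (g : Matrix (Fin 9) (Fin 9) F).map (sg hF) = κ • 1)
    (hm : m ∈ GU 9 F q) : g * m * g⁻¹ ∈ GU 9 F q := by
  have hherm : ∀ u v, hermForm 9 F q ((g : Matrix (Fin 9) (Fin 9) F) *ᵥ u) ((g : Matrix (Fin 9) (Fin 9) F) *ᵥ v) =
      κ * hermForm 9 F q u v := by
    intro u v
    rw [herm_mulVec hF, hg, Matrix.smul_mulVec, Matrix.one_mulVec, dotProduct_smul, smul_eq_mul, herm_eq hF]
  have hginv : ∀ u, (g : Matrix (Fin 9) (Fin 9) F) *ᵥ (((g⁻¹ : GL (Fin 9) F) : Matrix (Fin 9) (Fin 9) F) *ᵥ u) = u := by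
    intro u
    rw [Matrix.mulVec_mulVec, ← Units.val_mul, mul_inv_cancel, Units.val_one, Matrix.one_mulVec]
  intro u v
  change hermForm 9 F q (((g * m * g⁻¹ : GL (Fin 9) F) : Matrix (Fin 9) (Fin 9) F) *ᵥ u)
    (((g * m * g⁻¹ : GL (Fin 9) F) : Matrix (Fin 9) (Fin 9) F) *ᵥ v) = hermForm 9 F q u v
  rw [Units.val_mul, Units.val_mul, ← Matrix.mulVec_mulVec, ← Matrix.mulVec_mulVec, ← Matrix.mulVec_mulVec,
    ← Matrix.mulVec_mulVec, hherm]
  have h1 : hermForm 9 F q ((m : Matrix (Fin 9) (Fin 9) F) *ᵥ (((g⁻¹ : GL (Fin 9) F) : Matrix (Fin 9) (Fin 9) F) *ᵥ u))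
      ((m : Matrix (Fin 9) (Fin 9) F) *ᵥ (((g⁻¹ : GL (Fin 9) F) : Matrix (Fin 9) (Fin 9) F) *ᵥ v)) =
      hermForm 9 F q (((g⁻¹ : GL (Fin 9) F) : Matrix (Fin 9) (Fin 9) F) *ᵥ u)
        (((g⁻¹ : GL (Fin 9) F) : Matrix (Fin 9) (Fin 9) F) *ᵥ v) := hm _ _
  rw [h1, ← hherm, hginv, hginv]

theorem coe_transv (hF : Fintype.card F = q ^ 2) {u : Fin 3 → F} (hu : hermForm 3 F q u u = 0) {μ : F}
    (hμ : μ + μ ^ q = 0) :
    ((transv hF u hu μ hμ : SU 3 F q) : _root_.Matrix.SpecialLinearGroup (Fin 3) F).1 =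
      1 + μ • vecMulVec u (fun j => u j ^ q) := by
  change siegelMat q u 0 μ = _
  unfold siegelMat
  congr 1
  ext i j
  simp only [Matrix.add_apply, vecMulVec_apply, Pi.zero_apply, zero_mul, zero_add, Matrix.smul_apply, smul_eq_mul,
    zero_pow_q hF, sub_zero]
  ring

theorem dot_conj (u : Fin 3 → F) (hu : hermForm 3 F q u u = 0) : (fun j => u j ^ q) ⬝ᵥ u = 0 := by
  rw [dotProduct_comm]
  exact hu

theorem transv_pow (hF : Fintype.card F = q ^ 2) (p : ℕ) [CharP F p] {u : Fin 3 → F}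
    (hu : hermForm 3 F q u u = 0) {μ : F} (hμ : μ + μ ^ q = 0) : transv hF u hu μ hμ ^ p = 1 := by
  apply Subtype.ext
  apply Subtype.ext
  have h1 : ((transv hF u hu μ hμ ^ p : SU 3 F q) : _root_.Matrix.SpecialLinearGroup (Fin 3) F).1 =
      ((transv hF u hu μ hμ : SU 3 F q) : _root_.Matrix.SpecialLinearGroup (Fin 3) F).1 ^ p := by
    rw [SubmonoidClass.coe_pow, Matrix.SpecialLinearGroup.coe_pow]
  rw [h1, coe_transv, one_add_pow, CharP.cast_eq_zero, zero_smul, add_zero]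
  · rfl
  · rw [Matrix.smul_mul, Matrix.mul_smul, vecMulVec_mul_vecMulVec, dot_conj u hu, zero_smul]
    ext i j
    simp

/-- **(K3c)** -/
theorem k3c {H P : Subgroup (GL (Fin 9) F)} (hc : IsResidualCore H P) (τ : F ≃+* F)
    (g : GL (Fin 9) F) (q : ℕ) (hF : Fintype.card F = q ^ 2)
    (hH : IsMaximalIn (GU 9 F q ⊓ specialLinear (Fin 9) F) H) (hτ : τ ≠ RingEquiv.refl F)
    (hτ' : ¬ ∀ x, τ x = x ^ q)
    (hP : ∀ y : GL (Fin 9) F, y ∈ P ↔ ∃ x ∈ SU 3 F q, (y : Matrix (Fin 9) (Fin 9) F) =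
      (g : Matrix (Fin 9) (Fin 9) F) * Cfsg.Agent.H920.Nine.kron9 x.1 (x.1.map τ) *
        ((g⁻¹ : GL (Fin 9) F) : Matrix (Fin 9) (Fin 9) F)) : False := by
  classical
  obtain ⟨p, hp⟩ := CharP.exists F
  have hpf : Fact p.Prime := ⟨CharP.char_is_prime F p⟩
  have hnorm := hc.normal
  obtain ⟨μ, hμq, hμ⟩ := exists_fixed_ne hF τ hτ hτ'
  let β : SU 3 F q →* _root_.Matrix.SpecialLinearGroup (Fin 3) F := (thA τ).toMonoidHom.comp (SU 3 F q).subtype
  let K : SU 3 F q →* GL (Fin 9) F := krHom (SU 3 F q).subtype β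
  have hK : ∀ x, K x = krGL x.1 (thA τ x.1) := fun x => rfl
  have hP' : ∀ y : GL (Fin 9) F, y ∈ P ↔ ∃ x : SU 3 F q, y = g * K x * g⁻¹ := by
    intro y
    rw [hP]
    constructor
    · rintro ⟨x, hx, hx'⟩
      exact ⟨⟨x, hx⟩, Units.ext hx'⟩
    · rintro ⟨⟨x, hx⟩, hx'⟩
      exact ⟨x, hx, congrArg (fun X : GL (Fin 9) F => (X : Matrix (Fin 9) (Fin 9) F)) hx'⟩
  have hsu : ∀ x : SU 3 F q, (x.1.1)ᵀ * (x.1.1).map (sg hF) = 1 := fun x =>
    (un_iff hF _).1 ((mem_SU_iff _).1 x.2)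
  have hKun : ∀ x, (K x : Matrix (Fin 9) (Fin 9) F)ᵀ * (K x : Matrix (Fin 9) (Fin 9) F).map (sg hF) = 1 := by
    intro x
    rw [hK, coe_krGL, thA_val]
    exact un_kr hF (hsu x) (un_map hF τ (hsu x))
  -- `g` is a similitude
  obtain ⟨κ, hκ⟩ : ∃ κ : F,
      (g : Matrix (Fin 9) (Fin 9) F)ᵀ * (g : Matrix (Fin 9) (Fin 9) F).map (sg hF) = κ • 1 := by
    set G : Matrix (Fin 9) (Fin 9) F := (g : Matrix (Fin 9) (Fin 9) F) with hG
    set G' : Matrix (Fin 9) (Fin 9) F := ((g⁻¹ : GL (Fin 9) F) : Matrix (Fin 9) (Fin 9) F) with hG'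
    have hGG : G * G' = 1 := by rw [hG, hG', ← Units.val_mul, mul_inv_cancel, Units.val_one]
    have hGG' : G' * G = 1 := by rw [hG, hG', ← Units.val_mul, inv_mul_cancel, Units.val_one]
    set Z : Matrix (Fin 9) (Fin 9) F := Gᵀ * G.map (sg hF) with hZ
    -- `Z` commutes with `K̄`
    have h1 : ∀ x, (K x : Matrix (Fin 9) (Fin 9) F)ᵀ * Z * (K x : Matrix (Fin 9) (Fin 9) F).map (sg hF) = Z := by
      intro x
      have hy : g * K x * g⁻¹ ∈ GU 9 F q := (hH.1.le (hc.le ((hP' _).2 ⟨x, rfl⟩))).1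
      have h2 := un_of_mem_GU hF hy
      rw [Units.val_mul, Units.val_mul, ← hG, ← hG'] at h2
      rw [Matrix.transpose_mul, Matrix.transpose_mul, Matrix.map_mul, Matrix.map_mul] at h2
      have h3 : (G')ᵀ * ((K x : Matrix (Fin 9) (Fin 9) F)ᵀ * Z * (K x : Matrix (Fin 9) (Fin 9) F).map (sg hF)) *
          G'.map (sg hF) = 1 := by
        rw [← h2, hZ]
        simp only [Matrix.mul_assoc]
      have h4 : Gᵀ * (G')ᵀ = 1 := by rw [← Matrix.transpose_mul, hGG', Matrix.transpose_one]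
      have h5 : G'.map (sg hF) * G.map (sg hF) = 1 := by
        rw [← Matrix.map_mul, hGG']
        exact Matrix.map_one _ (map_zero _) (map_one _)
      calc (K x : Matrix (Fin 9) (Fin 9) F)ᵀ * Z * (K x : Matrix (Fin 9) (Fin 9) F).map (sg hF)
          = Gᵀ * ((G')ᵀ * ((K x : Matrix (Fin 9) (Fin 9) F)ᵀ * Z * (K x : Matrix (Fin 9) (Fin 9) F).map (sg hF)) *
          G'.map (sg hF)) * G.map (sg hF) := by
            simp only [Matrix.mul_assoc]
            rw [h5, Matrix.mul_one, ← Matrix.mul_assoc Gᵀ, h4, Matrix.one_mul]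
        _ = Z := by rw [h3, Matrix.mul_one, hZ]
    have h2 : ∀ x, Z.map (sg hF) * (K x : Matrix (Fin 9) (Fin 9) F) =
        (K x : Matrix (Fin 9) (Fin 9) F) * Z.map (sg hF) := by
      intro x
      have h3 : (K x : Matrix (Fin 9) (Fin 9) F).map (sg hF) * (K x : Matrix (Fin 9) (Fin 9) F)ᵀ = 1 :=
        mul_eq_one_comm.1 (hKun x)
      have h4 : Z * (K x : Matrix (Fin 9) (Fin 9) F).map (sg hF) =
          (K x : Matrix (Fin 9) (Fin 9) F).map (sg hF) * Z := by
        calc Z * (K x : Matrix (Fin 9) (Fin 9) F).map (sg hF)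
            = ((K x : Matrix (Fin 9) (Fin 9) F).map (sg hF) * (K x : Matrix (Fin 9) (Fin 9) F)ᵀ) * Z *
              (K x : Matrix (Fin 9) (Fin 9) F).map (sg hF) := by rw [h3, Matrix.one_mul]
          _ = (K x : Matrix (Fin 9) (Fin 9) F).map (sg hF) *
              ((K x : Matrix (Fin 9) (Fin 9) F)ᵀ * Z * (K x : Matrix (Fin 9) (Fin 9) F).map (sg hF)) := by
              simp only [Matrix.mul_assoc]
          _ = _ := by rw [h1]
      have h5 := congrArg (fun X : Matrix (Fin 9) (Fin 9) F => X.map (sg hF)) h4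
      simp only [Matrix.map_mul] at h5
      rw [map_map_sg] at h5
      exact h5
    obtain ⟨c, hc'⟩ := hc.absIrred.2 (G * Z.map (sg hF) * G') (by
      rintro _ ⟨y, hy, rfl⟩
      obtain ⟨x, rfl⟩ := (hP' y).1 hy
      change G * Z.map (sg hF) * G' * ((g * K x * g⁻¹ : GL (Fin 9) F) : Matrix (Fin 9) (Fin 9) F) =
        ((g * K x * g⁻¹ : GL (Fin 9) F) : Matrix (Fin 9) (Fin 9) F) * (G * Z.map (sg hF) * G')
      rw [Units.val_mul, Units.val_mul, ← hG, ← hG']
      calc G * Z.map (sg hF) * G' * (G * (K x : Matrix (Fin 9) (Fin 9) F) * G')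
          = G * (Z.map (sg hF) * ((G' * G) * (K x : Matrix (Fin 9) (Fin 9) F))) * G' := by
            simp only [Matrix.mul_assoc]
        _ = G * ((K x : Matrix (Fin 9) (Fin 9) F) * Z.map (sg hF)) * G' := by
            rw [hGG', Matrix.one_mul, h2]
        _ = G * (K x : Matrix (Fin 9) (Fin 9) F) * ((G' * G) * Z.map (sg hF)) * G' := by
            rw [hGG', Matrix.one_mul]; simp only [Matrix.mul_assoc]
        _ = _ := by simp only [Matrix.mul_assoc])
    have h6 : Z.map (sg hF) = c • 1 := by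
      calc Z.map (sg hF) = (G' * G) * Z.map (sg hF) * (G' * G) := by rw [hGG', Matrix.one_mul, Matrix.mul_one]
        _ = G' * (G * Z.map (sg hF) * G') * G := by simp only [Matrix.mul_assoc]
        _ = _ := by rw [hc', Matrix.mul_smul, Matrix.smul_mul, Matrix.mul_one, hGG']
    have h7 : Z = (sg hF c) • 1 := by
      rw [← map_map_sg hF Z, h6]
      ext i j
      simp only [Matrix.map_apply, Matrix.smul_apply, smul_eq_mul, map_mul, Matrix.one_apply]
      split_ifs <;> simp only [_root_.RingHom.coe_coe, _root_.map_one, _root_.mul_one, _root_.map_zero, _root_.MulZeroClass.mul_zero]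
    exact ⟨sg hF c, h7⟩
  have hnorm' : ∀ h ∈ H, ∀ x, ∃ y, (g⁻¹ * h * g) * K x * (g⁻¹ * h * g)⁻¹ = K y := by
    intro h hh x
    obtain ⟨y, hy⟩ := (hP' _).1 (hnorm h hh (g * K x * g⁻¹) ((hP' _).2 ⟨x, rfl⟩))
    refine ⟨y, ?_⟩
    have : K y = g⁻¹ * (g * K y * g⁻¹) * g := by group
    rw [this, ← hy]
    group
  let Ψ : SU 3 F q →* (GL (Fin 9) F ⧸ scalars (Fin 9) F) := (QuotientGroup.mk' _).comp K
  have hker : Ψ.ker = Subgroup.center (SU 3 F q) := by
    ext x
    have e : x ∈ Ψ.ker ↔ krGL x.1 (thA τ x.1) ∈ scalars (Fin 9) F := by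
      rw [MonoidHom.mem_ker]
      exact QuotientGroup.eq_one_iff _
    rw [e]
    constructor
    · intro h
      have h1 := (scalar_of_krGL h).1
      rw [Subgroup.mem_center_iff] at h1 ⊢
      intro y
      exact Subtype.ext (h1 y.1)
    · intro h
      obtain ⟨c, hc0, -, hc2⟩ := exists_scalar_of_mem_center hF (le_refl 3) h
      have h1 : x.1 ∈ Subgroup.center (_root_.Matrix.SpecialLinearGroup (Fin 3) F) := by
        have h2 : x.1.1 = c • 1 := by
          apply Matrix.mulVec_injective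
          funext v
          rw [Matrix.smul_mulVec, Matrix.one_mulVec]
          exact hc2 v
        rw [Subgroup.mem_center_iff]
        intro w
        apply Subtype.ext
        rw [Matrix.SpecialLinearGroup.coe_mul, Matrix.SpecialLinearGroup.coe_mul, h2, Matrix.smul_mul,
          Matrix.mul_smul, Matrix.one_mul, Matrix.mul_one]
      apply krGL_mem_scalars h1
      rw [Subgroup.mem_center_iff] at h1 ⊢
      intro z
      obtain ⟨z, rfl⟩ := (thA τ).surjective z
      rw [← map_mul, h1, map_mul]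
  obtain ⟨t0, ht0, ht0'⟩ := exists_trace_zero_ne hF
  -- the basic step
  have hstep : ∀ h ∈ H, ∀ a : Fin 3 → F, a ≠ 0 → hermForm 3 F q a a = 0 → ∀ v : Fin 3 → F,
      DecI q (((g⁻¹ * h * g : GL (Fin 9) F) : Matrix (Fin 9) (Fin 9) F) *ᵥ ten a v) ∧
      DecI q (((g⁻¹ * h * g : GL (Fin 9) F) : Matrix (Fin 9) (Fin 9) F) *ᵥ ten v (fun i => τ (a i))) := by
    intro h hh a ha haa v
    set N : GL (Fin 9) F := g⁻¹ * h * g with hN
    obtain ⟨α, hα⟩ := aut_of_conj Ψ (Subgroup.center _) hker (QuotientGroup.mk N) (by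
      intro x
      obtain ⟨y, hy⟩ := hnorm' h hh x
      refine ⟨y, ?_⟩
      change (QuotientGroup.mk (K y) : GL (Fin 9) F ⧸ scalars (Fin 9) F) = QuotientGroup.mk (N * K x * N⁻¹)
      rw [hy]) (by
      intro x
      obtain ⟨y, hy⟩ := hnorm' h⁻¹ (H.inv_mem hh) x
      refine ⟨y, ?_⟩
      change (QuotientGroup.mk (K y) : GL (Fin 9) F ⧸ scalars (Fin 9) F) = QuotientGroup.mk (N⁻¹ * K x * N)
      rw [← hy]
      congr 1
      rw [hN]
      group)
    obtain ⟨b, hb, hbb, hmap⟩ := exists_map_RR hF (le_refl 3) α ha haa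
    have hNN : ((N⁻¹ : GL (Fin 9) F) : Matrix (Fin 9) (Fin 9) F) * (N : Matrix (Fin 9) (Fin 9) F) = 1 := by
      rw [← Units.val_mul, inv_mul_cancel, Units.val_one]
    have hconj : ∀ {c : Fin 3 → F}, c ≠ 0 → (fun j => c j ^ q) ≠ 0 := by
      intro c hc0 h0
      apply hc0
      funext j
      exact (pow_q_eq_zero hF).1 (congrFun h0 j)
    have hmapE : ∀ c : Fin 3 → F, (vecMulVec c (fun j => c j ^ q)).map τ =
        vecMulVec (fun i => τ (c i)) (fun j => τ (c j ^ q)) := by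
      intro c
      ext i j
      simp only [Matrix.map_apply, vecMulVec_apply, map_mul]
    have hthA : ∀ {c : Fin 3 → F} (hcc : hermForm 3 F q c c = 0) {t : F} (ht : t + t ^ q = 0),
        (thA τ (transv hF c hcc t ht).1).1 = 1 + τ t • vecMulVec (fun i => τ (c i)) (fun j => τ (c j ^ q)) := by
      intro c hcc t ht
      rw [thA_val, coe_transv hF hcc ht, ← hmapE]
      ext i j
      simp only [Matrix.map_apply, Matrix.add_apply, Matrix.smul_apply, smul_eq_mul, map_add, map_mul,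
        Matrix.one_apply]
      split_ifs
      · rw [map_one]
      · rw [map_zero]
    have key := core (a := a) (φ := fun j => a j ^ q) (a' := fun i => τ (a i)) (φ' := fun j => τ (a j ^ q))
      (b := b) (ψ := fun j => b j ^ q) (b' := fun i => τ (b i)) (ψ' := fun j => τ (b j ^ q))
      hNN τ hμ ht0 (hconj ha) (fun_ne_zero τ (hconj ha)) hb (hconj hb) (dot_conj b hbb) (fun_ne_zero τ hb)
      (fun_ne_zero τ (hconj hb)) (by
      intro t ht
      have htt : t + t ^ q = 0 := by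
        rcases ht with rfl | rfl | rfl
        · exact ht0'
        · rw [mul_pow, hμq, ← mul_add, ht0', mul_zero]
        · rw [mul_pow, mul_pow, hμq, ← mul_add, ← mul_add, ht0', mul_zero, mul_zero]
      have h1 : α (Cfsg.Agent.ClassicalGeometry.PSUAutBasic.pr 3 F q (transv hF a haa t htt)) ∈ RR hF b hbb := by
        rw [← hmap]
        exact ⟨_, mem_RR.2 ⟨t, htt, rfl⟩, rfl⟩
      obtain ⟨s, hs, hs'⟩ := mem_RR.1 h1
      refine ⟨s, τ s, s * τ s, ?_⟩
      have h2 := hα _ _ hs'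
      have h3 : N * K (transv hF a haa t htt) * N⁻¹ = K (transv hF b hbb s hs) := by
        apply eq_of_mk_eq p
        · rw [conj_pow, ← map_pow, transv_pow hF p haa htt, map_one, mul_one, mul_inv_cancel]
        · rw [← map_pow, transv_pow hF p hbb hs, map_one]
        · exact h2
      have h4 : N * K (transv hF a haa t htt) = K (transv hF b hbb s hs) * N := by
        rw [← h3, inv_mul_cancel_right]
      have h5 := congrArg (fun X : GL (Fin 9) F => (X : Matrix (Fin 9) (Fin 9) F)) h4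
      simp only [Units.val_mul] at h5
      rw [hK, hK, coe_krGL, coe_krGL, hthA, hthA, coe_transv, coe_transv, kr_one_add, kr_one_add] at h5
      exact h5)
    have hb' : hermForm 3 F q (fun i => τ (b i)) (fun i => τ (b i)) = 0 := by
      rw [herm_map_eq, hbb, map_zero]
    constructor
    · rcases key.1 with h5 | h5
      · obtain ⟨z, hz⟩ := h5 v
        exact ⟨b, z, hz, Or.inl hbb⟩
      · obtain ⟨z, hz⟩ := h5 v
        exact ⟨z, _, hz, Or.inr hb'⟩
    · rcases key.2 with h5 | h5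
      · obtain ⟨z, hz⟩ := h5 v
        exact ⟨b, z, hz, Or.inl hbb⟩
      · obtain ⟨z, hz⟩ := h5 v
        exact ⟨z, _, hz, Or.inr hb'⟩
  have hzero : ∀ v : Fin 3 → F, ten (0 : Fin 3 → F) v = 0 := by
    intro v
    have := ten_smul_left 0 (0 : Fin 3 → F) v
    rwa [zero_smul, zero_smul] at this
  have hzero' : ∀ v : Fin 3 → F, ten v (0 : Fin 3 → F) = 0 := by
    intro v
    have := ten_smul_right 0 v (0 : Fin 3 → F)
    rwa [zero_smul, zero_smul] at this
  have hherm0 : hermForm 3 F q (0 : Fin 3 → F) 0 = 0 := herm_zero_left 0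
  have hdec : ∀ h ∈ H, ∀ w, DecI q w →
      DecI q (((g⁻¹ * h * g : GL (Fin 9) F) : Matrix (Fin 9) (Fin 9) F) *ᵥ w) := by
    rintro h hh _ ⟨u, v, rfl, huv | huv⟩
    · by_cases hu : u = 0
      · subst hu
        rw [hzero, Matrix.mulVec_zero]
        exact ⟨0, 0, (hzero 0).symm, Or.inl hherm0⟩
      · exact (hstep h hh u hu huv v).1
    · by_cases hv : v = 0
      · subst hv
        rw [hzero', Matrix.mulVec_zero]
        exact ⟨0, 0, (hzero 0).symm, Or.inl hherm0⟩
      · have h1 : (fun i => τ (τ.symm (v i))) = v := by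
          funext i
          exact τ.apply_symm_apply _
        have h2 := (hstep h hh (fun i => τ.symm (v i)) (fun_ne_zero τ.symm hv) (by
          rw [herm_map_eq, huv, map_zero]) u).2
        rw [h1] at h2
        exact h2
  have hle : H ≤ stabD (DecI q) g ⊓ (GU 9 F q ⊓ specialLinear (Fin 9) F) := le_inf (le_stabD hdec) hH.1.le
  rcases hH.2 _ hle inf_le_right with hM | hM
  · -- `SU₃ ⊗ 1 ≤ H`
    have hX : ∀ y ∈ SU 3 F q, g * krGL y 1 * g⁻¹ ∈ H := by
      intro y hy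
      rw [← hM]
      refine ⟨?_, ?_, ?_⟩
      · have h1 : (krHom (SU 3 F q).subtype 1).range.map (MulAut.conj g).toMonoidHom ≤ stabD (DecI q) g := by
          apply le_stabD
          rintro _ ⟨_, ⟨y, rfl⟩, rfl⟩ _ ⟨u, v, rfl, huv⟩
          refine ⟨y.1.1 *ᵥ u, v, ?_, ?_⟩
          · have : g⁻¹ * ((MulAut.conj g).toMonoidHom (krHom (SU 3 F q).subtype 1 y)) * g = krGL y.1 1 := by
              change g⁻¹ * (g * krGL y.1 1 * g⁻¹) * g = _
              group
            rw [this, coe_krGL, kr_mulVec_ten]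
            congr 1
            exact Matrix.one_mulVec v
          · rcases huv with h | h
            · left
              rw [(mem_SU_iff _).1 y.2, h]
            · right
              exact h
        exact h1 ⟨_, ⟨⟨y, hy⟩, rfl⟩, rfl⟩
      · apply conj_mem_GU hF hκ
        apply mem_GU_of_un hF
        rw [coe_krGL]
        refine un_kr hF (hsu ⟨y, hy⟩) ?_
        have h1 : (1 : _root_.Matrix.SpecialLinearGroup (Fin 3) F) ∈ SU 3 F q := (SU 3 F q).one_mem
        exact hsu ⟨1, h1⟩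
      · apply det_conj_eq
        rw [coe_krGL, det_kr, y.2, one_pow, one_mul]
        have : ((1 : _root_.Matrix.SpecialLinearGroup (Fin 3) F)).1.det = 1 := (1 : _root_.Matrix.SpecialLinearGroup (Fin 3) F).2
        rw [this, one_pow]
    obtain ⟨x, y, hx, hy, hxy⟩ := exists_noncomm_su hF
    obtain ⟨z, hz⟩ := hnorm' _ (hX y hy) ⟨x, hx⟩
    have h1 : krGL (y * x * y⁻¹) (thA τ x) = krGL z.1 (thA τ z.1) := by
      rw [hK, hK] at hz
      rw [← hz]
      have e : g⁻¹ * (g * krGL y 1 * g⁻¹) * g = krGL y 1 := by group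
      have e2 : (krGL y 1 : GL (Fin 9) F)⁻¹ = krGL y⁻¹ 1 := by
        rw [inv_eq_iff_mul_eq_one, ← krGL_mul, mul_inv_cancel, mul_one, krGL_one]
      rw [e, e2, ← krGL_mul, ← krGL_mul, one_mul, mul_one]
    obtain ⟨c, hc'⟩ := contra (x := x) (y := y) (z := z.1) (θx := thA τ x) (θz := thA τ z.1) (by
      intro h
      rw [← map_inv, ← map_mul] at h
      rw [Subgroup.mem_center_iff] at h ⊢
      intro w
      apply (thA τ).injective
      rw [map_mul, h, ← map_mul]) h1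
    exact hxy c hc'
  · -- `M = SU₉`
    obtain ⟨ζ, hζ1, hζ0, hζn⟩ := exists_norm_one_ne hF
    obtain ⟨u, hu0, hu1, huu⟩ := exists_iso_vec hF
    let m : GL (Fin 9) F := Matrix.GeneralLinearGroup.mkOfDetNeZero (Matrix.diagonal (dd ζ)) (by
      rw [dd_det hζ0]; exact one_ne_zero)
    have hm : (m : Matrix (Fin 9) (Fin 9) F) = Matrix.diagonal (dd ζ) := rfl
    have hmGU : m ∈ GU 9 F q := by
      apply mem_GU_of_un hF
      rw [hm, Matrix.diagonal_transpose, Matrix.diagonal_map (map_zero _), Matrix.diagonal_mul_diagonal,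
        ← Matrix.diagonal_one]
      congr 1
      funext i
      change dd ζ i * (dd ζ i) ^ q = 1
      rw [← pow_succ']
      apply dd_pow
      rw [pow_succ', hζn]
    have h1 : g * m * g⁻¹ ∈ stabD (DecI q) g ⊓ (GU 9 F q ⊓ specialLinear (Fin 9) F) := by
      rw [hM]
      refine ⟨conj_mem_GU hF hκ hmGU, ?_⟩
      apply det_conj_eq
      rw [hm, dd_det hζ0]
    have h2 := (mem_stabD.1 h1.1 (ten u 1)).1 ⟨u, 1, rfl, Or.inl huu⟩
    have e : g⁻¹ * (g * m * g⁻¹) * g = m := by group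
    rw [e, hm] at h2
    obtain ⟨x, y, hxy, -⟩ := h2
    exact not_dec hζ1 hu0 hu1 one_ne_zero one_ne_zero (dd_00 ζ) (dd_01 ζ) (dd_10 ζ) (dd_11 ζ) x y hxy

end Cfsg.Agent.H108.Nine
end

-- part: H920/NineAsm
section
/-!
# Dimension nine: assembly (helper920)
-/

set_option autoImplicit false
set_option linter.unusedSectionVars false
set_option linter.style.haveILetI false

namespace Cfsg.Agent.H920.Nine

open Cfsg Cfsg.Geo Matrix
open H915.LD (Core Soc tr SD Fr Cj)

universe u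

variable {F : Type u} [Field F] [Fintype F] {H P : Subgroup (GL (Fin 9) F)}

theorem lin_concl (hH : IsMaximalIn (specialLinear (Fin 9) F) H) (hR : IsResidualCore H P) (hC : Core P)
    (hsd : ¬ SD P) (hcj : ∀ (p : ℕ) (_ : Fact p.Prime) (_ : CharP F p) (k : ℕ), ¬ Cj P (p ^ k))
    (hk : IsKnownSimple' (Soc P)) :
    (Nonempty (Soc P ≃* alternatingGroup (Fin 7)) ∧ Fintype.card F = 7) ∨
    (Nonempty (Soc P ≃* Matrix.ProjectiveSpecialLinearGroup (Fin 2) (ZMod 19)) ∧ (Fintype.card F).Prime ∧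
      (Fintype.card F % 19 = 1 ∨ Fintype.card F % 19 = 4 ∨ Fintype.card F % 19 = 5 ∨ Fintype.card F % 19 = 6 ∨
        Fintype.card F % 19 = 7 ∨ Fintype.card F % 19 = 9 ∨ Fintype.card F % 19 = 11 ∨ Fintype.card F % 19 = 16 ∨
        Fintype.card F % 19 = 17)) ∨
    (∃ (K : Type) (_ : Field K) (_ : Fintype K), Fintype.card K = Fintype.card F ^ 2 ∧
      Nonempty (Soc P ≃* Matrix.ProjectiveSpecialLinearGroup (Fin 3) K)) := by
  obtain ⟨p, hFp⟩ := CharP.exists F
  have hpp := CharP.char_is_prime F p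
  haveI hp : Fact p.Prime := ⟨hpp⟩
  have hcj1 : ¬ Cj P p := by
    have := hcj p hp hFp 1
    rwa [pow_one] at this
  by_cases hL : IsLieTypeChar p (Soc P)
  · rcases dc p hC hsd hL with h | ⟨K, i1, i2, ⟨e⟩, h⟩ | ⟨K, i1, i2, i3, N, q, hK, -, -, -, -, h⟩
    · exfalso
      have h1 := hH.1
      exact absurd (h ▸ hR.le) (not_le_of_gt h1)
    · rcases h with ⟨h1, -⟩ | ⟨-, h1, -⟩ | ⟨-, h1⟩
      · exact Or.inr (Or.inr ⟨K, i1, i2, h1, ⟨e⟩⟩)
      · obtain ⟨α, g, hα, h1⟩ := h1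
        exact (H108.Nine.k3a hR α g hH hα h1).elim
      · obtain ⟨α, g, hα, h1⟩ := h1
        exact (H108.Nine.k3b hR α g hH hα h1).elim
    · exfalso
      obtain ⟨k, rfl⟩ := exists_q_pow (F := K) p hK
      exact hcj p hp hFp k h
  · rcases cross' p hC hsd hk hL with ⟨K, i1, i2, h5, h9, hpK, ⟨e⟩⟩ | ⟨h3, ⟨e⟩⟩ | ⟨e, h7, hfr⟩ | ⟨-, h2, h⟩
    · exact Or.inr (Or.inl (l2_lin p hC hsd hcj1 h5 h9 hpK e))
    · exact (H956.K1.not_core_linear p h3 hH hR e hsd).elim
    · left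
      subst h7
      exact ⟨e, hC.card_eq 7 hfr⟩
    · subst h2
      exact (hcj1 h).elim

theorem uni_concl {q : ℕ} (hF : Fintype.card F = q ^ 2)
    (hH : IsMaximalIn (Cfsg.GU 9 F q ⊓ specialLinear (Fin 9) F) H) (hR : IsResidualCore H P) (hC : Core P)
    (hsd : ¬ SD P) (hk : IsKnownSimple' (Soc P)) :
    (Nonempty (Soc P ≃* Matrix.ProjectiveSpecialLinearGroup (Fin 2) (ZMod 19)) ∧ q.Prime ∧ q ≠ 2 ∧
      (q % 19 = 2 ∨ q % 19 = 3 ∨ q % 19 = 8 ∨ q % 19 = 10 ∨ q % 19 = 12 ∨ q % 19 = 13 ∨ q % 19 = 14 ∨ q % 19 = 15 ∨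
        q % 19 = 18)) ∨
    (Cfsg.Spor.IsoJ3 (Soc P) ∧ q = 2) ∨
    Nonempty (Soc P ≃* Matrix.ProjectiveSpecialLinearGroup (Fin 3) F) := by
  obtain ⟨p, hFp⟩ := CharP.exists F
  have hpp := CharP.char_is_prime F p
  haveI hp : Fact p.Prime := ⟨hpp⟩
  have hPU : P ≤ Cfsg.GU 9 F q := fun g hg => (hH.1.le (hR.le hg)).1
  have hcjq : Cj P q := cj_of_le_GU hF hPU
  have hq0 : q ≠ 0 := by
    rintro rfl
    have := Fintype.card_pos (α := F)
    omega
  by_cases hL : IsLieTypeChar p (Soc P)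
  · rcases dc p hC hsd hL with h | ⟨K, i1, i2, ⟨e⟩, h⟩ | ⟨K, i1, i2, i3, N, q₀, hK, hN3, hN9, h32, ⟨e⟩, h⟩
    · exfalso
      have h1 := hH.1
      exact absurd (le_trans inf_le_right (h ▸ hR.le)) (not_le_of_gt h1)
    · rcases h with ⟨-, h1⟩ | ⟨-, -, h1⟩ | ⟨h1, -⟩
      · exact (h1 q hq0 hcjq).elim
      · exact (h1 q hq0 hcjq).elim
      · right; right
        exact ⟨e.trans (LieClassical.SmallIso.pslCongr (Fin 3) (FiniteField.ringEquivOfCardEq h1))⟩
    · exfalso
      have hN : N = 3 ∨ (4 ≤ N ∧ N ≤ 8) ∨ N = 9 := by omega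
      rcases hN with rfl | hN | rfl
      · have hq3 : 3 ≤ q₀ := by
          have h2 := H48.NatSU.two_le_of_sq hK
          omega
        obtain ⟨α, g, h1, h2, h3⟩ := dc_u3 p hF hC hsd hq3 hK e h
        exact H108.Nine.k3c hR α g q hF hH h1 h2 h3
      · exact psu_row p hC K hK hN.1 hN.2 e
      · have h1 := H48.NatSU.psu_eq hC p hF hPU hK (by norm_num) (by norm_num) e rfl
        have h2 := hH.1
        exact absurd (h1.2 ▸ hR.le) (not_le_of_gt h2)
  · rcases cross' p hC hsd hk hL with ⟨K, i1, i2, h5, h9, hpK, ⟨e⟩⟩ | ⟨h3, ⟨e⟩⟩ | ⟨e, h7, hfr⟩ | ⟨hJ, h2, h⟩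
    · exact Or.inl (l2_uni p hF hH hR hC hsd h5 h9 hpK e)
    · exact (H956.K1.not_core_unitary p h3 hF hH hR e hsd).elim
    · exfalso
      subst h7
      exact H915.LD.not_fr_of_card hC 7 hF hfr
    · right; left
      subst h2
      refine ⟨hJ, ?_⟩
      have hfr : Fr P (2 ^ 2) := by
        have := h.fr
        rwa [← pow_two] at this
      exact H915.LD.q_eq_of_fr hC 2 hF hfr

end Cfsg.Agent.H920.Nine
end
end
end
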